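import Cfsg.Agent.H16.UnbR0

/-! Permutation lemmas: subgroups of the centraliser of an involution. -/

set_option autoImplicit false

namespace Cfsg.Agent.H16.Unb

open Subgroup Cfsg.Agent.H52 Equiv Equiv.Perm Cfsg.Agent.H67 Cfsg.Agent.H78 Cfsg.Agent.H38.SA
open scoped commutatorElement

variable {α : Type*} [Fintype α] [DecidableEq α] {β γ σ r : Perm α} {R O : Subgroup (Perm α)} {x : α}

omit [Fintype α] [DecidableEq α] in
theorem fix_of_odd (ho : Odd (orderOf r)) (h : r (r (r (r x))) = x) : r x = x := by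
  have h4 : Function.IsPeriodicPt r 4 x := h
  have h1 : Function.IsPeriodicPt r (orderOf r) x := by
    rw [Function.IsPeriodicPt, ← coe_pow, pow_orderOf_eq_one]; rfl
  have := h4.gcd h1
  rwa [show Nat.gcd 4 (orderOf r) = 1 from
    Nat.Coprime.pow_left 2 (Nat.coprime_two_left.2 ho)] at this

omit [Fintype α] [DecidableEq α] in
theorem app_eq {σ τ : Perm α} (h : σ = τ) (x : α) : σ x = τ x := by rw [h]

/-- A subgroup of `C(β)` normalised by the elements of order three, with an element of odd order moving a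
point of the support of `β`. -/
theorem perm_kit (h2 : β * β = 1) (hR : R ≤ Cz β)
    (hD : ∀ D : Perm α, D ^ 3 = 1 → D * β = β * D → D ∈ NN[R]) (hr : r ∈ R) (ho : Odd (orderOf r))
    (hx : β x ≠ x) (hm : r x ≠ x) :
    ∃ y w, β y ≠ y ∧ β w ≠ w ∧ y ≠ x ∧ y ≠ β x ∧ w ≠ x ∧ w ≠ β x ∧ w ≠ y ∧ w ≠ β y ∧
      swap x (β x) * swap y (β y) ∈ R ∧ swap w (β w) * swap x (β x) ∈ R ∧
      ∀ c, β c ≠ c → ∃ s ∈ R, s x = c := by
  have hh : ∀ x, β (β x) = x := app_eq h2
  have cm : ∀ s ∈ R, ∀ x, s (β x) = β (s x) := fun s hs =>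
    app_eq (mem_centralizer_singleton_iff.1 (hR hs))
  have c := cm r hr
  have f := fun x => fix_of_odd (x := x) ho
  have i1 := r.injective
  have i2 := β.injective
  have m2 : β (r x) ≠ r x := by grind
  have m3 : β (r (r x)) ≠ r (r x) := by grind
  have n2 : r x ≠ β x := by grind
  have n3 : r (r x) ≠ x := by grind
  have n4 : r (r x) ≠ β x := by grind
  have n5 : r (r x) ≠ r x := by grind
  have n6 : r (r x) ≠ β (r x) := by grind
  obtain ⟨⟨D, E, d3, e3, dc, ec, e⟩, -⟩ := p33_root h2 m3 hx m2 n3.symm (by grind) n5.symm (by grind) hm n2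
  have hπ : swap x (β x) * swap (r x) (β (r x)) ∈ NN[R] :=
    e ▸ mul_mem (hD D d3 dc.symm) (hD E e3 ec.symm)
  have a1 : swap (r (r x)) (β (r (r x))) * swap x (β x) ∈ R := by
    have := mul_mem hr (inv_mem ((mem_normalizer_iff.1 hπ r).1 hr))
    convert this using 1
    have e1 : r * (swap x (β x) * swap (r x) (β (r x))) * r⁻¹ =
        swap (r x) (β (r x)) * swap (r (r x)) (β (r (r x))) := by
      rw [← conj_mul, ← swap_apply_apply, ← swap_apply_apply, c, c]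
    calc _ = r * (swap x (β x) * swap (r x) (β (r x))) * r⁻¹ *
        (swap x (β x) * swap (r x) (β (r x)))⁻¹ := by
          rw [e1]
          ext z
          simp only [mul_inv_rev, swap_inv, Perm.mul_apply, swap_apply_def]
          grind
      _ = _ := by group
  obtain ⟨D, d3, dc, d1, -, d4, -⟩ := exists_dbl h2 hm.symm n3.symm n5.symm hx m2 m3 n2.symm n4.symm n6.symm
  have a2 : swap x (β x) * swap (r x) (β (r x)) ∈ R := by
    have := (mem_normalizer_iff.1 (hD D d3 dc) _).1 a1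
    rwa [← conj_mul, ← swap_apply_apply, ← swap_apply_apply, show D (β (r (r x))) = β (D (r (r x))) from
      app_eq dc _, show D (β x) = β (D x) from app_eq dc _, d1, d4] at this
  refine ⟨r x, r (r x), m2, m3, hm, n2, n3, n4, n5, n6, a2, a1, fun z hz => ?_⟩
  have b : (swap x (β x) * swap (r x) (β (r x))) x = β x := by
    simp only [Perm.mul_apply, swap_apply_def]; grind
  by_cases k1 : z = x
  · exact ⟨1, one_mem _, k1.symm⟩
  by_cases k2 : z = β x
  · exact ⟨_, a2, k2 ▸ b⟩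
  by_cases k3 : z = r x
  · exact ⟨r, hr, k3.symm⟩
  by_cases k4 : z = β (r x)
  · exact ⟨_, mul_mem hr a2, by rw [Perm.mul_apply, b, c, k4]⟩
  by_cases k5 : z = r (r x)
  · exact ⟨_, mul_mem hr hr, k5.symm⟩
  by_cases k6 : z = β (r (r x))
  · exact ⟨_, mul_mem (mul_mem hr hr) a2, by rw [Perm.mul_apply, b, Perm.mul_apply, c, c, k6]⟩
  obtain ⟨E, e3, ec, e1, -, -, ef⟩ := exists_dbl h2 (Ne.symm k3) n5.symm k5 m2 hz m3 (Ne.symm k4) n6.symm
    (by grind)
  have fx : E x = x := ef x hm.symm (Ne.symm k1) n3.symm (by grind) (by grind) (by grind)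
  refine ⟨_, (mem_normalizer_iff.1 (hD E e3 ec) _).1 hr, ?_⟩
  rw [Perm.mul_apply, Perm.mul_apply, show E⁻¹ x = x by rw [Perm.inv_eq_iff_eq, fx], e1]

omit [Fintype α] [DecidableEq α] in
theorem exists_odd_move {p : α → Prop} (hR : R ≤ closure {σ | σ ∈ R ∧ Odd (orderOf σ)}) (hσ : σ ∈ R)
    (hx : p x) (hm : σ x ≠ x) : ∃ r ∈ R, Odd (orderOf r) ∧ ∃ x, p x ∧ r x ≠ x := by
  by_contra hc
  push Not at hc
  have : ∀ τ ∈ closure {σ | σ ∈ R ∧ Odd (orderOf σ)}, ∀ x, p x → τ x = x := fun τ hτ => by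
    induction hτ using closure_induction with
    | mem τ h => exact hc τ h.1 h.2
    | one => exact fun _ _ => rfl
    | mul a b _ _ h1 h2 => exact fun x hx => by rw [Perm.mul_apply, h2 x hx, h1 x hx]
    | inv a _ h1 => exact fun x hx => by rw [Perm.inv_eq_iff_eq, h1 x hx]
  exact hm (this σ (hR hσ) x hx)

theorem sign_of_odd (ho : Odd (orderOf σ)) : sign σ = 1 := by
  obtain ⟨j, hj⟩ := H38.SG.exists_sq_of_odd ho
  rw [← hj, map_mul, Int.units_mul_self]

theorem sign_of_gen (hR : R ≤ closure {σ | σ ∈ R ∧ Odd (orderOf σ)}) (hσ : σ ∈ R) : sign σ = 1 :=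
  ((closure_le (alternatingGroup α)).2 fun _ h => sign_of_odd h.2) (hR hσ)

omit [Fintype α] [DecidableEq α] in
theorem eq_one_of_odd_card (hO : Odd (Nat.card O)) (hσ : σ ∈ O) (h : σ * σ = 1) : σ = 1 := by
  by_contra h1
  have := hO.of_dvd_nat (O.orderOf_dvd_natCard hσ)
  rw [ord_two h h1] at this
  exact absurd this (by decide)

omit [Fintype α] in
theorem c3A {a b c v : α} (n1 : a ≠ b) (n2 : a ≠ c) (n3 : b ≠ c) (n4 : a ≠ v) (n5 : b ≠ v) (n6 : c ≠ v) :
    c3 b c v * c3 a v b * (c3 b c v * c3 a v b) = 1 ∧ (c3 b c v * c3 a v b) a = b := by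
  refine ⟨?_, ?_⟩
  · ext z
    simp only [Perm.mul_apply, c3_apply, swap_apply_def, Perm.one_apply]
    grind
  · simp only [Perm.mul_apply, c3_apply, swap_apply_def]
    grind

omit [Fintype α] in
theorem c3B {a b c d : α} (n1 : a ≠ b) (n2 : a ≠ c) (n3 : b ≠ c) (n4 : a ≠ d) (n5 : b ≠ d) (n6 : c ≠ d) :
    (c3 b c d * c3 a c b) a = d ∧ (c3 b c d * c3 a c b) d = b ∧ (c3 b c d * c3 a c b) b = a ∧
      (c3 b c d * c3 a c b) c = c := by
  simp only [Perm.mul_apply, c3_apply, swap_apply_def]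
  grind

omit [Fintype α] in
theorem c3C {a b c v w : α} (n1 : a ≠ b) (n2 : a ≠ c) (n3 : b ≠ c) (n4 : a ≠ v) (n5 : b ≠ v) (n6 : c ≠ v)
    (m1 : a ≠ w) (m2 : b ≠ w) (m3 : c ≠ w) (m4 : v ≠ w) :
    (c3 b c w * c3 a v b) a = v ∧ (c3 b c w * c3 a v b) v = c ∧ (c3 b c w * c3 a v b) c = w := by
  simp only [Perm.mul_apply, c3_apply, swap_apply_def]
  grind

theorem permO' (h2 : β * β = 1) (hO : Odd (Nat.card O)) (hR : O ≤ Cz β)
    (hD : ∀ D : Perm α, D ^ 3 = 1 → D * β = β * D → D ∈ NN[O]) :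
    (∀ σ ∈ O, ∀ x, β x ≠ x → σ x = x) ∧ (β.support.card + 3 ≠ Fintype.card α → O = ⊥) := by
  have hh : ∀ x, β (β x) = x := app_eq h2
  have od : ∀ σ ∈ O, Odd (orderOf σ) := fun σ hσ => hO.of_dvd_nat (O.orderOf_dvd_natCard hσ)
  have h1 : ∀ σ ∈ O, ∀ x, β x ≠ x → σ x = x := fun σ hσ x hx => by
    by_contra hm
    obtain ⟨y, -, m1, -, n1, n2, -, -, -, -, a, -⟩ := perm_kit h2 hR hD hσ (od σ hσ) hx hm
    have := app_eq (eq_one_of_odd_card hO a (by
      ext z
      simp only [Perm.mul_apply, swap_apply_def, Perm.one_apply]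
      grind)) x
    simp only [Perm.mul_apply, swap_apply_def, Perm.one_apply] at this
    grind
  refine ⟨h1, fun h3 => (eq_bot_iff_forall _).2 fun σ hσ => by_contra fun hne => ?_⟩
  have mv : ∀ σ ∈ O, ∀ x, σ x ≠ x → β x = x := fun σ hσ x hx => by_contra fun e => hx (h1 σ hσ x e)
  have cc : ∀ σ ∈ O, ∀ a b c, a ≠ b → a ≠ c → b ≠ c → β a = a → β b = b → β c = c →
      c3 (σ a) (σ b) (σ c) * c3 a c b ∈ O := fun σ hσ a b c n1 n2 n3 f1 f2 f3 => by
    have := mul_mem hσ (inv_mem ((mem_normalizer_iff.1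
      (hD _ (c3_pow_three n1 n2 n3) (commute_c3_of_fixed f1 f2 f3).symm) σ).1 hσ))
    rw [← c3_conj, ← c3_inv n1 n2 n3]
    convert this using 1
    group
  have A : ∀ σ ∈ O, ∀ x v, σ x ≠ x → σ (σ (σ x)) = x → σ v = v → β v = v → False :=
    fun σ hσ x v m e fv bv => by
      have i := σ.injective
      have n1 : x ≠ v := fun e => m (e ▸ fv)
      have n2 : σ x ≠ v := fun e => n1 (i (e.trans fv.symm))
      have n3 : σ (σ x) ≠ v := fun e => n2 (i (e.trans fv.symm))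
      have n4 : x ≠ σ (σ x) := fun e' => m (by rw [← e'] at e; exact e)
      have := cc σ hσ x (σ x) v m.symm n1 n2 (mv σ hσ x m) (mv σ hσ _ (i.ne m)) bv
      obtain ⟨k1, k2⟩ := c3A m.symm n4 (i.ne m).symm n1 n2 n3
      rw [fv] at this
      rw [eq_one_of_odd_card hO this k1] at k2
      exact m k2.symm
  have B : ∀ σ ∈ O, ∀ x, σ x ≠ x → σ (σ (σ x)) ≠ x → False := fun σ hσ x m e => by
    have i := σ.injective
    have n : σ (σ x) ≠ x := fun e => m (fix_of_odd (od σ hσ) (by rw [e, e]))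
    have := cc σ hσ x (σ x) (σ (σ x)) m.symm n.symm (i.ne m).symm (mv σ hσ x m) (mv σ hσ _ (i.ne m))
      (mv σ hσ _ (i.ne (i.ne m)))
    obtain ⟨k1, k2, k3, k4⟩ := c3B m.symm n.symm (i.ne m).symm e.symm (i.ne n).symm (i.ne (i.ne m)).symm
    exact A _ this x (σ (σ x)) (by rwa [k1]) (by rw [k1, k2, k3]) k4 (mv σ hσ _ (i.ne (i.ne m)))
  obtain ⟨x, m⟩ : ∃ x, σ x ≠ x := by
    by_contra hc
    push Not at hc
    exact hne (Equiv.ext hc)
  have i := σ.injective
  have e : σ (σ (σ x)) = x := by_contra (B σ hσ x m)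
  have n : σ (σ x) ≠ x := fun e => m (fix_of_odd (od σ hσ) (by rw [e, e]))
  have b1 := mv σ hσ x m
  have b2 := mv σ hσ (σ x) (i.ne m)
  have b3 := mv σ hσ (σ (σ x)) (i.ne (i.ne m))
  have h4 : 3 ≤ β.supportᶜ.card := by
    rw [← show ({x, σ x, σ (σ x)} : Finset α).card = 3 from
      Finset.card_eq_three.2 ⟨_, _, _, m.symm, n.symm, (i.ne m).symm, rfl⟩]
    refine Finset.card_le_card fun z hz => ?_
    simp only [Finset.mem_insert, Finset.mem_singleton] at hz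
    rw [Finset.mem_compl, notMem_support]
    rcases hz with rfl | rfl | rfl <;> assumption
  have h5 := Finset.card_compl β.support
  have h6 := Finset.card_le_univ β.support
  obtain ⟨v, hv, nv⟩ := pick β.supportᶜ [x, σ x, σ (σ x)]
    (by simp only [List.length_cons, List.length_nil]; omega)
  simp only [List.mem_cons, List.not_mem_nil, or_false, not_or, Finset.mem_compl, notMem_support] at hv nv
  by_cases fv : σ v = v
  · exact A σ hσ x v m e fv hv
  · have q : x ≠ σ v := fun e' => nv.2.2 (i (e'.symm.trans e.symm))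
    obtain ⟨k1, k2, k3⟩ := c3C m.symm n.symm (i.ne m).symm (Ne.symm nv.1) (Ne.symm nv.2.1) (Ne.symm nv.2.2)
      q (i.ne (Ne.symm nv.1)) (i.ne (Ne.symm nv.2.1)) (Ne.symm fv)
    exact B _ (cc σ hσ x (σ x) v m.symm (Ne.symm nv.1) (Ne.symm nv.2.1) b1 b2 hv) x
      (by rw [k1]; exact nv.1) (by rw [k1, k2, k3]; exact q.symm)

theorem permO : PermOStmt := fun n β O h2 hO hR hD => by
  simpa using permO' h2 hO hR hD

theorem perm1' {κ : Perm α} (h2 : orderOf γ = 2) (hR : R ≤ Cz γ)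
    (hD : ∀ D : Perm α, D ^ 3 = 1 → D * γ = γ * D → D ∈ NN[R])
    (hg : R ≤ closure {σ | σ ∈ R ∧ Odd (orderOf σ)}) (hγ : γ ∈ R) (hκ : κ * γ = γ * κ)
    (hc : ∀ r ∈ R, ∀ x, γ x ≠ x → κ (r x) = r (κ x)) :
    (∀ x, γ x ≠ x → κ x = x) ∨ ∀ x, γ x ≠ x → κ x = γ x := by
  obtain ⟨x0, m0⟩ : ∃ x, γ x ≠ x := by
    by_contra hc
    push Not at hc
    exact ne_one_of_ord h2 (Equiv.ext hc)
  obtain ⟨r, hr, ho, x, hx, hm⟩ := exists_odd_move (p := fun x => γ x ≠ x) hg hγ m0 m0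
  obtain ⟨y, w, m1, m2, n1, n2, n3, n4, n5, n6, a1, a2, tr⟩ := perm_kit (sq_of_ord h2) hR hD hr ho hx hm
  have hh : ∀ x, γ (γ x) = x := app_eq (sq_of_ord h2)
  have c : ∀ x, κ (γ x) = γ (κ x) := app_eq hκ
  have b1 := hc _ a1 x hx
  have b2 := hc _ a2 x hx
  have i := κ.injective
  have : κ x = x ∨ κ x = γ x := by
    clear hc tr hD hg a1 a2 hR
    have k : γ (κ x) ≠ κ x := fun e => hx (i ((c x).trans e))
    rw [show (swap x (γ x) * swap y (γ y)) x = γ x by
      simp only [Perm.mul_apply, swap_apply_def]; grind, c] at b1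
    rw [show (swap w (γ w) * swap x (γ x)) x = γ x by
      simp only [Perm.mul_apply, swap_apply_def]; grind, c] at b2
    generalize κ x = v at *
    by_contra hc
    push Not at hc
    by_cases e : v = y ∨ v = γ y
    · rw [Perm.mul_apply, swap_apply_of_ne_of_ne hc.1 hc.2,
        swap_apply_of_ne_of_ne (by grind) (by grind)] at b2
      exact k b2
    · push Not at e
      rw [Perm.mul_apply, swap_apply_of_ne_of_ne e.1 e.2, swap_apply_of_ne_of_ne hc.1 hc.2] at b1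
      exact k b1
  refine this.imp (fun e z hz => ?_) fun e z hz => ?_
  · obtain ⟨s, hs, rfl⟩ := tr z hz
    rw [hc s hs x hx, e]
  · obtain ⟨s, hs, rfl⟩ := tr z hz
    rw [hc s hs x hx, e]
    exact app_eq (mem_centralizer_singleton_iff.1 (hR hs)) x

theorem perm1 : Perm1Stmt := fun _ _ _ _ h2 hR hD hg hγ hκ hc => perm1' h2 hR hD hg hγ hκ hc

theorem perm2' {τ₁ τ₂ : Perm α} {H R₁ R₂ : Subgroup (Perm α)} (h2 : β * β = 1) (hH : H ≤ Cz β)
    (hD : ∀ D : Perm α, D ^ 3 = 1 → D * β = β * D → D ∈ H) (hO : Odd (Nat.card O)) (hOH : O ≤ H)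
    (hN : H ≤ NN[O]) (a1 : R₁ ≤ H) (b1 : H ≤ NN[R₁]) (a2 : R₂ ≤ H) (b2 : H ≤ NN[R₂])
    (g1 : R₁ ≤ closure {σ | σ ∈ R₁ ∧ Odd (orderOf σ)}) (g2 : R₂ ≤ closure {σ | σ ∈ R₂ ∧ Odd (orderOf σ)})
    (hc : ⁅R₁, R₂⁆ ≤ O) (t1 : τ₁ ∈ R₁) (t2 : τ₂ ∈ R₂) (o1 : orderOf τ₁ = 2) (o2 : orderOf τ₂ = 2)
    (c1 : ∀ h ∈ H, ⁅h, τ₁⁆ ∈ O) (c2 : ∀ h ∈ H, ⁅h, τ₂⁆ ∈ O) : False := by
  have hh : ∀ x, β (β x) = x := app_eq h2
  obtain ⟨p1, p2⟩ := permO' h2 hO (hOH.trans hH) fun D d3 dc => hN (hD D d3 dc)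
  have mvS : ∀ {R : Subgroup (Perm α)} {τ : Perm α}, R ≤ H →
      R ≤ closure {σ | σ ∈ R ∧ Odd (orderOf σ)} → τ ∈ R → orderOf τ = 2 → (∀ h ∈ H, ⁅h, τ⁆ ∈ O) →
      ∃ x, β x ≠ x ∧ τ x ≠ x := fun {R τ} a g t o c => by
    by_contra hc
    push Not at hc
    have tt : ∀ x, τ (τ x) = x := app_eq (sq_of_ord o)
    have mv : ∀ x, τ x ≠ x → β x = x := fun x hx => by_contra fun e => hx (hc x e)
    obtain ⟨u, hu⟩ : ∃ u, τ u ≠ u := by
      by_contra hc
      push Not at hc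
      exact ne_one_of_ord o (Equiv.ext hc)
    obtain ⟨p, hp, n1, n2⟩ : ∃ p, τ p ≠ p ∧ p ≠ u ∧ p ≠ τ u := by
      by_contra hc
      push Not at hc
      have e : τ = swap u (τ u) := by
        ext z
        simp only [swap_apply_def]
        grind
      have := sign_of_gen g t
      rw [e, sign_swap hu.symm] at this
      exact absurd this (by decide)
    have h4 : 4 ≤ β.supportᶜ.card := by
      have hnd : [u, τ u, p, τ p].Nodup := by
        simp only [List.nodup_cons, List.mem_cons, List.not_mem_nil, or_false, not_or, List.nodup_nil,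
          not_false_eq_true, and_true]
        and_intros <;> grind
      rw [← show [u, τ u, p, τ p].length = 4 from rfl, ← List.toFinset_card_of_nodup hnd]
      refine Finset.card_le_card fun z hz => ?_
      simp only [List.toFinset_cons, List.toFinset_nil, Finset.mem_insert, Finset.notMem_empty,
        or_false] at hz
      rw [Finset.mem_compl, notMem_support]
      grind
    have h5 := Finset.card_compl β.support
    have := c _ (hD _ (c3_pow_three hu.symm n1.symm n2.symm)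
      (commute_c3_of_fixed (mv u hu) (mv _ (by grind)) (mv p hp)).symm)
    rw [p2 (by omega), mem_bot, commutatorElement_eq_one_iff_mul_comm] at this
    have := app_eq this u
    simp only [Perm.mul_apply, c3_apply, swap_apply_def] at this
    grind
  obtain ⟨x1, m1, k1⟩ := mvS a1 g1 t1 o1 c1
  obtain ⟨x2, m2, k2⟩ := mvS a2 g2 t2 o2 c2
  obtain ⟨r1, hr1, ho1, x, hx, hm⟩ := exists_odd_move (p := fun x => β x ≠ x) g1 t1 m1 k1
  obtain ⟨r2, hr2, ho2, x', hx', hm'⟩ := exists_odd_move (p := fun x => β x ≠ x) g2 t2 m2 k2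
  obtain ⟨-, -, -, -, -, -, -, -, -, -, -, -, tr⟩ :=
    perm_kit h2 (a1.trans hH) (fun D d3 dc => b1 (hD D d3 dc)) hr1 ho1 hx hm
  obtain ⟨y, w, m3, m4, n1, n2, n3, n4, n5, n6, e, -⟩ :=
    perm_kit h2 (a2.trans hH) (fun D d3 dc => b2 (hD D d3 dc)) hr2 ho2 hx' hm'
  obtain ⟨s, hs, e1⟩ := tr x' hx'
  obtain ⟨s', hs', e2⟩ := tr w m4
  have hu := mul_mem hs' (inv_mem hs)
  have e3 : (s' * s⁻¹) x' = w := by rw [← e1, Perm.mul_apply, Perm.inv_def, symm_apply_apply, e2]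
  generalize s' * s⁻¹ = u at hu e3
  have uc : ∀ z, u (β z) = β (u z) := app_eq (mem_centralizer_singleton_iff.1 (hH (a1 hu)))
  have := p1 _ (hc (commutator_mem_commutator hu e)) w m4
  rw [commutatorElement_def, Perm.mul_apply, Perm.mul_apply, Perm.mul_apply,
    show (swap x' (β x') * swap y (β y))⁻¹ w = w by
      simp only [mul_inv_rev, swap_inv, Perm.mul_apply, swap_apply_def]; grind,
    show u⁻¹ w = x' by rw [Perm.inv_eq_iff_eq, e3],
    show (swap x' (β x') * swap y (β y)) x' = β x' by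
      simp only [Perm.mul_apply, swap_apply_def]; grind, uc, e3] at this
  exact m4 this

theorem perm2 : Perm2Stmt :=
  fun _ _ _ _ _ _ _ _ h2 hH hD hO hOH hN a1 b1 a2 b2 g1 g2 hc t1 t2 o1 o2 c1 c2 =>
    perm2' h2 hH hD hO hOH hN a1 b1 a2 b2 g1 g2 hc t1 t2 o1 o2 c1 c2

/-- A permutation commuting with `β` and, on the support of `β`, with the elements of order three of
`C(β)`. -/
theorem perm_cent (h2 : β * β = 1) (h5 : 5 ≤ β.support.card) (hσ : σ * β = β * σ)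
    (hD : ∀ D : Perm α, D ^ 3 = 1 → D * β = β * D → ∀ x, β x ≠ x → σ (D x) = D (σ x)) :
    (∀ x, β x ≠ x → σ x = x) ∨ ∀ x, β x ≠ x → σ x = β x := by
  have hh : ∀ x, β (β x) = x := app_eq h2
  have c : ∀ x, σ (β x) = β (σ x) := app_eq hσ
  have i := σ.injective
  have third : ∀ x1 x2, ∃ x3, β x3 ≠ x3 ∧ x3 ≠ x1 ∧ x3 ≠ β x1 ∧ x3 ≠ x2 ∧ x3 ≠ β x2 := fun x1 x2 => by
    obtain ⟨x3, m3, n3⟩ := pick β.support [x1, β x1, x2, β x2]
      (by simp only [List.length_cons, List.length_nil]; omega)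
    simp only [List.mem_cons, List.not_mem_nil, or_false, not_or, mem_support] at m3 n3
    exact ⟨x3, m3, n3⟩
  have st : ∀ x y z, β x ≠ x → β y ≠ y → β z ≠ z → y ≠ x → y ≠ β x → z ≠ x → z ≠ β x → z ≠ y → z ≠ β y →
      ∃ D : Perm α, σ y = D (σ x) ∧ D x = y ∧ D y = z ∧ D (β x) = β y := fun x y z m1 m2 m3 n1 n2 n3 n4 n5 n6 => by
    obtain ⟨D, d3, dc, d1, d2, -⟩ := exists_dbl h2 n1.symm n3.symm n5.symm m1 m2 m3 n2.symm n4.symm n6.symm
    exact ⟨D, d1 ▸ hD D d3 dc x m1, d1, d2, d1 ▸ app_eq dc x⟩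
  have two : ∀ x, β x ≠ x → σ x = x ∨ σ x = β x := fun x m => by
    by_contra hc
    push Not at hc
    obtain ⟨z, m3, n1, n2, n3, n4⟩ := third x (σ x)
    obtain ⟨D, e1, -, e2, -⟩ := st x (σ x) z m (by grind) m3 hc.1 hc.2 n1 n2 n3 n4
    obtain ⟨E, f1, -, f2, -⟩ := st x (σ x) (β z) m (by grind) (by grind) hc.1 hc.2 (by grind) (by grind)
      (by grind) (by grind)
    grind
  by_contra hc
  push Not at hc
  obtain ⟨⟨x, m1, k1⟩, y, m2, k2⟩ := hc
  have e1 := (two x m1).resolve_left k1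
  have e2 := (two y m2).resolve_right k2
  obtain ⟨z, m3, n1, n2, n3, n4⟩ := third x y
  obtain ⟨D, f1, -, -, f2⟩ := st x y z m1 m2 m3 (by grind) (by grind) n1 n2 n3 n4
  grind

end Cfsg.Agent.H16.Unb
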