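import Mathlib
import Cfsg.Agent.H21.KBCyc

/-! Bounds for the number of height zero characters from an arbitrary subsection. -/

namespace Cfsg.Agent.H16

open Cfsg.Agent.H17 (Cg)
open Cfsg.Agent.H20 Cfsg.Agent.H21
open Subgroup (zpowers)

universe u

variable {M : Ideal AlgInt} {p : ℕ} [Fact p.Prime] {G : Type u} [Group G]
  {B : Set (IrrCharacter G)}

open Classical in
theorem card_height_zero_mul_min_le [Fintype G] [Fintype (IrrCharacter G)] {H : Subgroup G}
    [Fintype H] {b : Set (IrrCharacter H)} {z : H} (hM : IsPModular p M)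
    (hind : IsInducedBlock M H b B) (hH : H = Cg (z : G)) (hzp : ∃ k : ℕ, orderOf z = p ^ k)
    {μ : ℕ} (hμ : FormMin p b μ) :
    (Finset.univ.filter fun ψ => ψ ∈ B ∧ blockHeight p B ψ.1 = 0).card * μ ≤
      p ^ blockDefect p b * blockRank p b := by
  haveI : NeZero (orderOf z) := ⟨(orderOf_pos z).ne'⟩
  have hz := central_of_eq_Cg hH
  obtain ⟨e, he⟩ := id hzp
  have h1 : ∑ ψ ∈ Finset.univ.filter (fun ψ => ψ ∈ B ∧ blockHeight p B ψ.1 = 0),
      (Nat.totient (orderOf z) : ℝ) * μ ≤ _ :=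
    (Finset.sum_le_sum fun ψ hψ => min_le_trc hM b hμ hz he (pow_orderOf_eq_one z) (isGen_resf H ψ)
      (trc_pos 1 (w := z) (η := resf H ψ.1) fun h => by
        have h0 := H0_resf hM hind (Finset.mem_filter.1 hψ).2.1 (Finset.mem_filter.1 hψ).2.2
        have := (val_ctr_eq_one_iff hM hind.1 (central_pow hz _) hz (isGen_resf H ψ)
          (isGen_resf H ψ) (isPElt_pow hzp ((1 : (ZMod (orderOf z))ˣ) : ZMod (orderOf z)).val)
          hzp).2 ⟨h0, h0⟩
        rw [h, map_zero] at this
        exact zero_ne_one this)).trans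
      ((Finset.sum_le_sum_of_subset_of_nonneg (fun χ hχ => Finset.mem_filter.2
        ⟨Finset.mem_univ _, (Finset.mem_filter.1 hχ).2.1⟩) fun _ _ _ => trc_nonneg _ _ _).trans
        (sum_trc hM hind hH hzp rfl).le)
  rw [Finset.sum_const, nsmul_eq_mul, mul_left_comm] at h1
  exact_mod_cast le_of_mul_le_mul_left h1 (totient_pos' (orderOf z))

/-- If `b` is a block of `C(z)` with defect group `D` and `D / ⟨z⟩` is cyclic, then
`k₀(b ^ G) ≤ |D|`. -/
theorem card_height_zero_le_of_cyclic [Finite G] (hM : IsPModular p M) {z : G}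
    (hzp : ∃ k : ℕ, orderOf z = p ^ k) {b : Set (IrrCharacter (Cg z))}
    (hind : IsInducedBlock M (Cg z) b B) {D : Subgroup (Cg z)} (hD : IsDefectGroup p M b D)
    {y : Cg z} (hy : D ≤ zpowers ⟨z, H17.self_mem_Cg z⟩ ⊔ zpowers y) :
    Nat.card {χ : IrrCharacter G // χ ∈ B ∧ blockHeight p B χ.1 = 0} ≤ p ^ blockDefect p b := by
  classical
  have := Fintype.ofFinite G
  have := Fintype.ofFinite (IrrCharacter G)
  have := Fintype.ofFinite (Cg z)
  set z' : Cg z := ⟨z, H17.self_mem_Cg z⟩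
  have hzp' : ∃ k : ℕ, orderOf z' = p ^ k := by simpa only [← Subgroup.orderOf_coe] using hzp
  have hcen : zpowers z' ≤ Subgroup.center (Cg z) :=
    Subgroup.zpowers_le.2 (Subgroup.mem_center_iff.2 fun g => (H20.self_central_Cg z g).symm)
  have : (zpowers z').Normal := ⟨fun n hn g => by
    rwa [Subgroup.mem_center_iff.1 (hcen hn) g, mul_inv_cancel_right]⟩
  have := Fintype.ofFinite (Cg z ⧸ zpowers z')
  let π := QuotientGroup.mk' (zpowers z')
  have hπ : Function.Surjective π := QuotientGroup.mk'_surjective _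
  have hker : π.ker = zpowers z' := QuotientGroup.ker_mk' _
  have hk : IsPGroup p π.ker := by
    obtain ⟨k, hk⟩ := hzp'
    rw [hker]
    exact IsPGroup.of_card ((Nat.card_zpowers _).trans hk)
  have hc : ∀ y : Cg z, ¬ p ∣ orderOf y → y ∈ H18.Cz π.ker := fun y _ => H18.mem_Cz.2 fun q hq =>
    (Subgroup.mem_center_iff.1 (hcen (hker ▸ hq)) y).symm
  have h1 : D.map π ≤ zpowers (π y) := by
    refine (Subgroup.map_mono hy).trans ?_
    rw [Subgroup.map_sup, (Subgroup.map_eq_bot_iff _).2 hker.ge, bot_sup_eq, MonoidHom.map_zpowers]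
  have h2 := (formMin_of_isCyclic hM (H22.isPBlock_preimage_of_preg hπ hM hk hc hind.1)
    (H22.dg_preimage_of_preg hπ hM hk hc hind.1 hD) (Subgroup.isCyclic_of_le h1)).of_infl
    hM hπ hk hc hind.1
  rw [blockRank_preimage_infl hM hπ hk hc hind.1] at h2
  rw [Nat.card_eq_fintype_card, Fintype.card_subtype]
  exact Nat.le_of_mul_le_mul_right (card_height_zero_mul_min_le hM hind (z := z') rfl hzp' h2)
    (H21.blockRank_pos hM hind.1)

theorem isInducedBlock_principal_Cg [Finite G] (hM : IsPModular p M) {z : G}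
    (hzp : ∃ k : ℕ, orderOf z = p ^ k) :
    IsInducedBlock M (Cg z) (principalBlock M (Cg z)) (principalBlock M G) := by
  obtain ⟨k, hk⟩ := hzp
  refine (third_main hM (H17.inducedBlockDefined_of_local (P := zpowers z) hM
    (IsPGroup.of_card ((Nat.card_zpowers _).trans hk)) (Subgroup.zpowers_le.2 (H17.self_mem_Cg z))
    (Cz_zpowers z).le ?_ H17.isPBlock_principalBlock)).2 rfl
  rw [← Cz_zpowers]
  exact Subgroup.centralizer_le_normalizer _

end Cfsg.Agent.H16
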