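import Cfsg.Agent.H6.E82Defs
import Cfsg.Agent.H54.O84Base

/-! The action of the root elements in characteristic two (piece XACT). -/

set_option autoImplicit false

namespace Cfsg.Agent.H16.E82Xact

open Equiv Cfsg.Lie H37 H40 H34 H29 Module Cfsg.Agent.H6.E82
open scoped Matrix

noncomputable def chk (r s : ℕ) : List (ℕ × ℤ) → Bool
  | [] => !(ieq (H54.O84.pr r s) (-1))
  | [e] => ieq e.2 1 || ieq e.2 (-1)
  | _ => false

set_option maxRecDepth 100000 in
theorem tab : allLt (fun r => allLt (fun s => chk r s (dec (codeG 12 4096 rowsE8 r (8 + s)))) 240)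
    240 = true := by decide +kernel

theorem entry (r s : Rt) : (chevE8.chainEntry r s = [] ∧ pr r s ≠ -1) ∨
    ∃ k c, chevE8.chainEntry r s = [(k, c)] ∧ (c : K) = 1 := by
  have h := allLt_sound (allLt_sound tab r r.2) s s.2
  have e : dec (codeG 12 4096 rowsE8 r (8 + s)) = chevE8.chainEntry r s :=
    H37.tabE8.link.entry r.2 s
  have p : pr r s = H54.O84.pr r s := H54.O84.pair_eq r s
  rw [e] at h
  generalize chevE8.chainEntry r s = L at h ⊢
  rcases L with _ | ⟨a, _ | ⟨b, L⟩⟩
  · refine .inl ⟨rfl, fun q => ?_⟩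
    have : ieq (H54.O84.pr r s) (-1) = true := ieq_iff.2 (p ▸ q)
    simp [chk, this] at h
  · refine .inr ⟨a.1, a.2, rfl, ?_⟩
    rcases Bool.or_eq_true_iff.1 h with q | q <;> rw [ieq_iff.1 q]
    · exact Int.cast_one
    · rw [Int.cast_neg, Int.cast_one, CharTwo.neg_eq]
  · exact absurd h Bool.false_ne_true

theorem act_xx (r : Rt) (t : K) (v : V) : act (xx r t) v = chevE8.x K r t *ᵥ v := by
  rw [act_apply, ← C8.V.coe_xG]
  rfl

theorem xact (rf : RfStmt) (brb : BrbStmt) (brc : BrcStmt) : XactStmt := by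
  obtain ⟨r1, -, -, -, -, r6, -⟩ := rf
  obtain ⟨-, b2, -, b4, b5, b6, b7, -⟩ := brb
  obtain ⟨-, -, -, -, c5, -, -, -, -, -, -, c12, -⟩ := brc
  replace c5 : ∀ r s : Rt, eV chevE8 K r (Sum.inr s) = if s = r then 1 else 0 := c5
  refine ⟨fun r t v => ?_, fun r => ?_⟩
  · let L : V →ₗ[K] V := LinearMap.id + t • br (ee r) +
      (LinearMap.toSpanSingleton K V (ee r)).comp (t ^ 2 • LinearMap.proj (Sum.inr (ng r)))
    have hL : ∀ v, L v = v + t • br (ee r) v + (t ^ 2 * v (Sum.inr (ng r))) • ee r := fun _ => rfl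
    rw [← hL]
    refine LinearMap.congr_fun ((Pi.basisFun K chevE8.Idx).ext fun j => ?_) v
    rw [Pi.basisFun_apply, hL, act_xx]
    rcases j with i | s
    · rw [← hV_eq_single, x_hV r.2 t i.2]
      have hc : hV chevE8 K i ∈ Cart := fun _ => rfl
      have he : H6.E82.ev r (hV chevE8 K i) = (chevE8.cartan i r : K) := by
        rw [hV_eq_single, ← C8.wt_eq]
        simp [H6.E82.ev, Pi.single_apply]
      rw [b2, b4 _ hc, he, hc, mul_zero, zero_smul, add_zero, sub_eq_add_neg, ← neg_smul,
        CharTwo.neg_eq, smul_smul, mul_comm]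
    · rw [← eV_eq_single]
      by_cases e : s = ng r
      · subst e
        have h := x_eV_neg (F := K) C8.V.basic r.2 t
        rw [← C8.neg_val] at h
        rw [h, b5, c5, if_pos rfl, mul_one, sub_eq_add_neg, ← neg_smul, CharTwo.neg_eq]
      · rw [x_eV C8.V.basic r.2 t fun q => e (Fin.ext (q.trans (C8.neg_val r).symm)), c5,
          if_neg (Ne.symm e), mul_zero, zero_smul, add_zero]
        refine congrArg (fun x => eV chevE8 K s + x) ?_
        rcases entry r s with ⟨h, p⟩ | ⟨k, c, h, hc⟩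
        · rw [h, b7 r s (((r1 r s).resolve_left e).resolve_left p), smul_zero]
          rfl
        · obtain ⟨k1, k2⟩ := C8.chainRoot_spec r.2 s.2 (i := 0) (k := k)
            (by rw [ChevalleyDatum.chainRoot, h]; rfl)
          have k3 : C8.R.rc ⟨k, k1⟩ = C8.R.rc r + C8.R.rc s := by
            simpa using C8.rc_of_cartan (k := ⟨k, k1⟩) (r := r) (s := s) (a := 1) (b := 1)
              (by simpa using k2)
          have p := r6 r s _ k3
          have k4 : C8.R.τ r s = ⟨k, k1⟩ := C8.R.rc_inj (by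
            rw [k3, C8.R.rc_τ, show C8.R.pair r s = -1 from p, neg_smul, one_smul, sub_neg_eq_add,
              add_comm])
          rw [h, b6 r s p, k4, chainSum_cons, chainSum_nil, add_zero, hc, one_mul]
  · have := C8.V.fieldHom_xE (algebraMap (ZMod 2) K) r 1
    rw [map_one] at this
    exact this

end Cfsg.Agent.H16.E82Xact
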