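import Cfsg.Agent.H37.FkTF
import Cfsg.Agent.H27.SympSimple

/-! The block structure of `PSp_{2m}(q)` (project FK, piece SPD). -/

set_option autoImplicit false

namespace Cfsg.Agent.H16.FkSpd

open Cfsg Subgroup Matrix Cfsg.Agent.H37.FK

section emb
variable {n R : Type} [Fintype n] [DecidableEq n] [Ring R] {i j : n}

/-- a `2 × 2` block on the places `i`, `j`, diagonal elsewhere -/
def emb (i j : n) (p q r s : R) (d : n → R) : Matrix n n R :=
  diagonal (fun k => if k = i ∨ k = j then 0 else d k) + single i i p + single i j q +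
    single j i r + single j j s

theorem dl (d : n → R) (i j : n) (x : R) : diagonal d * single i j x = single i j (d i * x) := by
  ext a b
  by_cases h : i = a ∧ j = b
  · obtain ⟨rfl, rfl⟩ := h; simp
  · simp [single, h]

theorem dr (d : n → R) (i j : n) (x : R) : single i j x * diagonal d = single i j (x * d j) := by
  ext a b
  by_cases h : i = a ∧ j = b
  · obtain ⟨rfl, rfl⟩ := h; simp
  · simp [single, h]

theorem emb_mul (h : i ≠ j) (p q r s p' q' r' s' : R) (d d' : n → R) :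
    emb i j p q r s d * emb i j p' q' r' s' d' = emb i j (p * p' + q * r') (p * q' + q * s')
      (r * p' + s * r') (r * q' + s * s') (fun k => d k * d' k) := by
  have e : (fun k => (if k = i ∨ k = j then 0 else d k) * if k = i ∨ k = j then 0 else d' k) =
      fun k => if k = i ∨ k = j then 0 else d k * d' k := funext fun k => by split_ifs <;> simp
  simp only [emb, add_mul, mul_add, dl, dr, single_mul_single_same, single_mul_single_of_ne _ _ _ _ h,
    single_mul_single_of_ne _ _ _ _ h.symm, single_add, diagonal_mul_diagonal, e, true_or, or_true,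
    if_true, zero_mul, mul_zero, single_zero]
  abel

omit [Fintype n] in
theorem emb_apply (h : i ≠ j) (p q r s : R) (d : n → R) (k l : n) : emb i j p q r s d k l =
    if k = i then (if l = i then p else if l = j then q else 0)
    else if k = j then (if l = i then r else if l = j then s else 0)
    else if k = l then d k else 0 := by
  simp only [emb, Matrix.add_apply, diagonal_apply, single, of_apply, @eq_comm _ i, @eq_comm _ j]
  have := h.symm
  split_ifs <;> simp_all

omit [Fintype n] in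
theorem emb_congr {p q r s p' q' r' s' : R} {d d' : n → R} (h1 : p = p') (h2 : q = q')
    (h3 : r = r') (h4 : s = s') (h : ∀ k, k ≠ i → k ≠ j → d k = d' k) :
    emb i j p q r s d = emb i j p' q' r' s' d' := by
  rw [emb, emb, h1, h2, h3, h4]
  congr 5
  funext k
  split_ifs with h5
  · rfl
  · exact h k (fun e => h5 (Or.inl e)) fun e => h5 (Or.inr e)

omit [Fintype n] in
theorem diag_emb (h : i ≠ j) (d : n → R) : diagonal d = emb i j (d i) 0 0 (d j) d := by
  ext k l
  rw [emb_apply h, diagonal_apply]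
  have := h.symm
  split_ifs <;> simp_all

/-- permutation matrices -/
def pm (σ : Equiv.Perm n) : Matrix n n R := of fun k l => if k = σ l then 1 else 0

theorem mul_pm (N : Matrix n n R) (σ : Equiv.Perm n) (k l : n) : (N * (pm σ : Matrix n n R)) k l = N k (σ l) := by
  simp [mul_apply, pm]

theorem pm_mul (N : Matrix n n R) (σ : Equiv.Perm n) (k l : n) : ((pm σ : Matrix n n R) * N) k l = N (σ⁻¹ k) l := by
  simp [mul_apply, pm, ← Equiv.Perm.inv_eq_iff_eq]

omit [Fintype n] in
theorem pm_swap (h : i ≠ j) : (pm (Equiv.swap i j) : Matrix n n R) = emb i j 0 1 1 0 1 := by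
  ext k l
  rw [emb_apply h, pm, of_apply, Equiv.swap_apply_def]
  have := h.symm
  split_ifs <;> simp_all

end emb

variable {F : Type} [Field F] {m : ℕ}

/-- `2 × 2` matrices -/
abbrev R2 (F : Type) := Matrix (Fin 2) (Fin 2) F
/-- block matrices -/
abbrev BB (m : ℕ) (F : Type) := Matrix (Fin m) (Fin m) (R2 F)
theorem c1 : (1 : SL2 F).1 = 1 := rfl
theorem cn : (-1 : SL2 F).1 = -1 := rfl
/-- the symplectic group -/
abbrev SS (m : ℕ) (F : Type) [Field F] := symplecticGroup (Fin m) F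

/-- the index sets -/
def ee (m : ℕ) : Fin m × Fin 2 ≃ Fin m ⊕ Fin m where
  toFun p := if p.2 = 0 then Sum.inl p.1 else Sum.inr p.1
  invFun := Sum.elim (fun i => (i, 0)) fun i => (i, 1)
  left_inv := fun ⟨_, a⟩ => by fin_cases a <;> rfl
  right_inv x := by cases x <;> rfl

/-- block matrices as matrices -/
def Ψ : BB m F ≃+* Matrix (Fin m ⊕ Fin m) (Fin m ⊕ Fin m) F :=
  (compRingEquiv (Fin m) (Fin 2) F).trans (reindexRingEquiv F (ee m))

/-- the form on a plane -/
def jj : R2 F := !![0, -1; 1, 0]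

/-- the transpose -/
def tr (N : BB m F) : BB m F := of fun k l => (N l k)ᵀ

theorem Ψ_J : Ψ (diagonal fun _ => jj) = J (Fin m) F := by
  ext (k | k) (l | l) <;> by_cases h : k = l <;> simp [Ψ, ee, jj, J, h, comp_apply, one_apply]

theorem mem_iff {N : BB m F} : Ψ N ∈ SS m F ↔ N * (diagonal fun _ => jj) * tr N = diagonal fun _ => jj := by
  rw [SymplecticGroup.mem_iff, ← Ψ_J, show (Ψ N)ᵀ = Ψ (tr N) from rfl, ← map_mul, ← map_mul,
    Ψ.injective.eq_iff]

theorem mul_jj (a : R2 F) : a * jj * aᵀ = a.det • jj := by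
  ext k l
  fin_cases k <;> fin_cases l <;> simp [jj, det_fin_two, mul_apply] <;> ring

theorem det_of {a : R2 F} (h : a * jj * aᵀ = jj) : a.det = 1 := by
  rw [mul_jj] at h
  simpa [jj] using congrFun (congrFun h 1) 0

/-- the block matrix of a symplectic matrix -/
def ρ : SS m F →* BB m F := (Ψ (m := m) (F := F)).symm.toMonoidHom.comp (SS m F).subtype

theorem ρ_inj : Function.Injective (ρ : SS m F →* BB m F) :=
  Ψ.symm.injective.comp Subtype.val_injective

theorem ρ_mem (A : SS m F) : ρ A * (diagonal fun _ => jj) * tr (ρ A) = diagonal fun _ => jj :=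
  mem_iff.1 (by rw [show Ψ (ρ A) = A from Ψ.apply_symm_apply _]; exact A.2)

/-- the symplectic matrix of a block matrix -/
def mk (N : BB m F) (h : N * (diagonal fun _ => jj) * tr N = diagonal fun _ => jj) : SS m F :=
  ⟨Ψ N, mem_iff.2 h⟩

theorem ρ_mk (N : BB m F) (h) : ρ (mk N h) = N := Ψ.symm_apply_apply N

/-- the projection -/
abbrev pr : SS m F →* PSp m F := QuotientGroup.mk' _

theorem pr_eq [NeZero m] {A B : SS m F} : pr A = pr B ↔ ρ A = ρ B ∨ ρ A = -ρ B := by
  have h : ∀ C : SS m F, pr C = 1 ↔ ρ C = 1 ∨ ρ C = -1 := fun C => by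
    rw [QuotientGroup.mk'_apply, QuotientGroup.eq_one_iff, H27.mem_center_sp_iff']
    exact or_congr (by rw [← map_one (Ψ (m := m) (F := F))]; exact Ψ.symm_apply_eq.symm)
      (by rw [← map_one (Ψ (m := m) (F := F)), ← map_neg]; exact Ψ.symm_apply_eq.symm)
  have h2 : ∀ x : BB m F, ρ (A * B⁻¹) = x ↔ ρ A = x * ρ B := fun x =>
    ⟨fun e => by rw [← e, ← map_mul, inv_mul_cancel_right],
      fun e => by rw [map_mul, e, mul_assoc, ← map_mul, mul_inv_cancel, map_one, mul_one]⟩
  rw [← mul_inv_eq_one, ← map_inv, ← map_mul, h, h2, h2, one_mul, neg_one_mul]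

theorem tr_diag (d : Fin m → R2 F) : tr (diagonal d) = diagonal fun k => (d k)ᵀ := by
  ext1 k l
  by_cases h : k = l
  · subst h; simp [tr]
  · simp [tr, h, Ne.symm h]

/-- the product of the `SL₂`'s -/
def Δ : (Fin m → SL2 F) →* SS m F :=
  MonoidHom.mk' (fun a => mk (diagonal fun k => (a k).1) (by
    rw [tr_diag, diagonal_mul_diagonal, diagonal_mul_diagonal]
    simp only [mul_jj, fun k => (a k).2, one_smul])) fun a b => ρ_inj (by
      rw [map_mul, ρ_mk, ρ_mk, ρ_mk, diagonal_mul_diagonal]; rfl)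

theorem ρ_Δ (a : Fin m → SL2 F) : ρ (Δ a) = diagonal fun k => (a k).1 :=
  Ψ.symm_apply_apply _

/-- the permutation matrices -/
def ww : Equiv.Perm (Fin m) →* SS m F :=
  MonoidHom.mk' (fun σ => mk (pm σ) (by
    rw [show tr (pm σ : BB m F) = pm σ⁻¹ by
      ext1 k l
      simp only [tr, pm, of_apply, Equiv.Perm.eq_inv_iff_eq, eq_comm (a := l)]
      split_ifs <;> simp]
    ext1 k l
    rw [mul_pm, pm_mul]
    simp [diagonal_apply])) fun a b => ρ_inj (by
      rw [map_mul, ρ_mk, ρ_mk, ρ_mk]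
      ext1 k l
      rw [mul_pm]; rfl)

theorem ρ_ww (σ : Equiv.Perm (Fin m)) : ρ (ww σ : SS m F) = pm σ := Ψ.symm_apply_apply _

/-- the `SL₂` of a plane -/
def ph (i : Fin m) : SL2 F →* PSp m F := pr.comp (Δ.comp (MonoidHom.mulSingle (fun _ => SL2 F) i))

theorem ph_apply (i : Fin m) (a : SL2 F) : ph i a = pr (Δ (Pi.mulSingle i a)) := rfl

theorem prod_single {G : Type} [Group G] (a : Fin m → G) :
    (List.ofFn fun i => Pi.mulSingle (M := fun _ => G) i (a i)).prod = a := by
  have h : ∀ l : List (Fin m), l.Nodup → ∀ k,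
      (l.map fun i => Pi.mulSingle (M := fun _ => G) i (a i)).prod k = if k ∈ l then a k else 1 := by
    intro l hl k
    induction l with
    | nil => rfl
    | cons i l ih =>
      obtain ⟨h1, h2⟩ := List.nodup_cons.1 hl
      rw [List.map_cons, List.prod_cons, Pi.mul_apply, ih h2]
      by_cases h : k = i
      · subst h; simp [h1]
      · simp [h]
  funext k
  rw [List.ofFn_eq_map, h _ (List.nodup_finRange m), if_pos (List.mem_finRange k)]

theorem prod_ph (a : Fin m → SL2 F) : (List.ofFn fun i => ph i (a i)).prod = pr (Δ a) := by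
  conv_rhs => rw [← prod_single a, ← MonoidHom.comp_apply, map_list_prod, List.map_ofFn]
  rfl

theorem pr_Δ [NeZero m] (a : Fin m → SL2 F) : pr (Δ a) = 1 ↔ (∀ i, a i = 1) ∨ ∀ i, a i = -1 := by
  rw [← map_one pr, pr_eq, map_one, ρ_Δ, ← diagonal_one, diagonal_neg, diagonal_eq_diagonal_iff,
    diagonal_eq_diagonal_iff]
  exact or_congr (forall_congr' fun i => ⟨fun h => Subtype.ext h, fun h => by rw [h]; rfl⟩)
    (forall_congr' fun i => ⟨fun h => Subtype.ext h, fun h => by rw [h]; rfl⟩)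

theorem exists_two (hm : 3 ≤ m) (i : Fin m) : ∃ k l : Fin m, k ≠ i ∧ l ≠ i ∧ k ≠ l := by
  obtain ⟨k, hk, l, hl, h⟩ := Finset.one_lt_card.1 (show 1 < (Finset.univ.erase i).card by
    rw [Finset.card_erase_of_mem (Finset.mem_univ i), Finset.card_univ, Fintype.card_fin]; omega)
  exact ⟨k, l, Finset.ne_of_mem_erase hk, Finset.ne_of_mem_erase hl, h⟩

theorem row (A : SS m F) {k l i : Fin m} (hk : ∀ x, x ≠ i → ρ A k x = 0) :
    ρ A k i * jj * (ρ A l i)ᵀ = if k = l then jj else 0 := by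
  have h := congrFun (congrFun (ρ_mem A) k) l
  rw [mul_apply, Finset.sum_eq_single i (fun x _ hx => by rw [mul_diagonal, hk x hx, zero_mul, zero_mul])
    (by simp), mul_diagonal, diagonal_apply] at h
  exact h

theorem eq_zero (h2 : (2 : F) ≠ 0) {x : R2 F} (h : x = -x) : x = 0 := by
  ext k l
  have := congrFun (congrFun h k) l
  rw [neg_apply] at this
  exact (mul_eq_zero.1 (by linear_combination this : (2 : F) * x k l = 0)).resolve_left h2

theorem comm_t (h2 : (2 : F) ≠ 0) (hm : 3 ≤ m) (A : SS m F) (i : Fin m)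
    (h : pr A * ph i (-1) = ph i (-1) * pr A) (l : Fin m) (hl : l ≠ i) :
    ρ A i l = 0 ∧ ρ A l i = 0 := by
  haveI : NeZero m := ⟨by omega⟩
  rw [ph_apply, ← map_mul, ← map_mul, pr_eq, map_mul, map_mul, ρ_Δ] at h
  rcases h with h | h
  · have h1 := congrFun (congrFun h i) l
    have h3 := congrFun (congrFun h l) i
    simp only [mul_diagonal, diagonal_mul, Pi.mulSingle_eq_same, Pi.mulSingle_eq_of_ne hl,
      c1, cn, mul_one, one_mul, neg_mul, mul_neg] at h1 h3
    exact ⟨eq_zero h2 h1, eq_zero h2 h3.symm⟩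
  · have h1 : ∀ k, k ≠ i → ∀ x, x ≠ i → ρ A k x = 0 := fun k hk x hx => eq_zero h2 (by
      simpa [Pi.mulSingle_eq_of_ne hk, Pi.mulSingle_eq_of_ne hx] using congrFun (congrFun h k) x)
    obtain ⟨k, k', hk, hk', hkk⟩ := exists_two hm i
    have h3 := congrArg det (row A (l := k') (h1 k hk))
    rw [if_neg hkk, det_mul, det_mul, det_transpose, det_of ((row A (h1 k hk)).trans (if_pos rfl)),
      det_of ((row A (h1 k' hk')).trans (if_pos rfl))] at h3
    simp [jj] at h3

theorem tr_emb {i j : Fin m} (h : i ≠ j) (p q r s : R2 F) (d : Fin m → R2 F) :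
    tr (emb i j p q r s d) = emb i j pᵀ rᵀ qᵀ sᵀ fun k => (d k)ᵀ := by
  ext1 k l
  rw [tr, of_apply, emb_apply h, emb_apply h]
  by_cases e : l = k
  · subst e; split_ifs <;> simp_all
  · rw [if_neg e, if_neg (Ne.symm e)]
    have := h.symm
    split_ifs <;> simp_all

/-- the element `a ⊗ ½ (1 1; 1 -1)` -/
def hd (h2 : (2 : F) ≠ 0) {i j : Fin m} (h : i ≠ j) (a : {a : R2 F // a.det = 2}) : SS m F :=
  mk (emb i j ((2 : F)⁻¹ • a.1) ((2 : F)⁻¹ • a.1) ((2 : F)⁻¹ • a.1) (-((2 : F)⁻¹ • a.1)) 1) (by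
    have e : (2 : F)⁻¹ • a.1 * jj * ((2 : F)⁻¹ • a.1)ᵀ = (2 : F)⁻¹ • jj := by
      rw [mul_jj, det_smul, a.2, Fintype.card_fin]; congr 1; field_simp
    have e2 : (2 : F)⁻¹ • (jj : R2 F) + (2 : F)⁻¹ • jj = jj := by
      rw [← add_smul, show (2 : F)⁻¹ + 2⁻¹ = 1 by field_simp; ring, one_smul]
    rw [tr_emb h, diag_emb h, emb_mul h, emb_mul h]
    refine emb_congr ?_ ?_ ?_ ?_ fun k _ _ => by simp
    all_goals simp only [mul_zero, add_zero, zero_add, transpose_neg, neg_mul, mul_neg, neg_neg, e, e2,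
      add_neg_cancel])

theorem ρ_hd (h2 : (2 : F) ≠ 0) {i j : Fin m} (h : i ≠ j) (a : {a : R2 F // a.det = 2}) :
    ρ (hd h2 h a) =
      emb i j ((2 : F)⁻¹ • a.1) ((2 : F)⁻¹ • a.1) ((2 : F)⁻¹ • a.1) (-((2 : F)⁻¹ • a.1)) 1 :=
  Ψ.symm_apply_apply _

theorem exists_det : ∃ a : R2 F, a.det = 2 := ⟨!![2, 0; 0, 1], by simp [det_fin_two]⟩

theorem had (h2 : (2 : F) ≠ 0) {i j : Fin m} (h : i ≠ j) :
    (∀ a k, k ≠ i → k ≠ j → ∀ b, pr (hd h2 h a) * ph k b = ph k b * pr (hd h2 h a)) ∧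
    (∀ a, pr (hd h2 h a) * ph i (-1) * (pr (hd h2 h a))⁻¹ =
        pr (ww (Equiv.swap i j)) * ph i (-1) * ph j (-1) ∧
      pr (hd h2 h a) * pr (ww (Equiv.swap i j)) * (pr (hd h2 h a))⁻¹ = ph j (-1)) ∧
    (∀ a (b c : SL2 F), a.1 * b.1 = c.1 * a.1 →
      pr (hd h2 h a) * (ph i b * ph j b) * (pr (hd h2 h a))⁻¹ = ph i c * ph j c) ∧
    ∀ a a' (c : SL2 F), a.1 * a'.1 = (2 : F) • c.1 →
      pr (hd h2 h a) * pr (hd h2 h a') = ph i c * ph j c := by
  have h' := h.symm
  refine ⟨fun a k hi hj b => ?_, fun a => ⟨?_, ?_⟩, fun a b c e => ?_, fun a a' c e => ?_⟩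
  all_goals
    simp only [mul_inv_eq_iff_eq_mul, ph_apply, ← map_mul pr]
    refine congrArg pr (ρ_inj ?_)
    simp only [map_mul, ρ_hd, ρ_Δ, ρ_ww, pm_swap h, diag_emb h, emb_mul h]
    refine emb_congr ?_ ?_ ?_ ?_ fun k hi hj => ?_
  all_goals try (simp [*, Pi.mulSingle_apply, c1]; done)
  all_goals
    simp only [Pi.mulSingle_eq_same, Pi.mulSingle_eq_of_ne h, Pi.mulSingle_eq_of_ne h', c1, mul_one,
      one_mul, mul_zero, add_zero, zero_add, neg_mul_neg, smul_mul_smul_comm, e, smul_smul, ← add_smul]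
    rw [show (2 : F)⁻¹ * 2⁻¹ * 2 + 2⁻¹ * 2⁻¹ * 2 = 1 by field_simp; ring, one_smul]

theorem spd : SpdStmt := by
  intro F _ _ hF m hm
  haveI : NeZero m := ⟨by omega⟩
  have h2 : (2 : F) ≠ 0 := Ring.two_ne_zero fun h => by
    rw [FiniteField.even_card_iff_char_two, ← Nat.even_iff, ← Nat.not_odd_iff_even] at h
    exact h hF
  refine ⟨⟨ph, pr.comp ww, fun i => (injective_iff_map_eq_one _).2 fun a h => ?_,
    fun i j h a b => (Pi.mulSingle_commute (f := fun _ => SL2 F) h a b).map (pr.comp Δ),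
    fun σ i a => ?_, fun a => by rw [prod_ph, pr_Δ], fun i g hg => ?_, fun i j h => ?_,
    fun g hg => ?_, fun i j h => ⟨fun a => pr (hd h2 h a), had h2 h⟩⟩⟩
  · obtain ⟨k, -, hk, -⟩ := exists_two hm i
    rcases (pr_Δ _).1 h with h | h
    · simpa using h i
    · have := h k
      rw [MonoidHom.mulSingle_apply, Pi.mulSingle_eq_of_ne hk] at this
      exact absurd (eq_zero h2 (congrArg Subtype.val this)) one_ne_zero
  · simp only [mul_inv_eq_iff_eq_mul, ph_apply, MonoidHom.comp_apply, ← map_mul pr]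
    refine congrArg pr (ρ_inj ?_)
    simp only [map_mul, ρ_Δ, ρ_ww]
    ext1 k l
    rw [mul_pm, pm_mul, diagonal_apply, diagonal_apply]
    by_cases h : k = σ l
    · subst h
      simp [Pi.mulSingle_apply]
    · rw [if_neg h, if_neg fun e => h (Equiv.Perm.inv_eq_iff_eq.1 e)]
  · obtain ⟨A, rfl⟩ := QuotientGroup.mk'_surjective _ g
    have h := comm_t h2 hm A i (mem_centralizer_singleton_iff.1 hg)
    let a : SL2 F := ⟨ρ A i i, det_of ((row A fun x hx => (h x hx).1).trans (if_pos rfl))⟩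
    refine mem_normalizer_fintype ?_
    rintro _ ⟨b, rfl⟩
    refine ⟨a * b * a⁻¹, ?_⟩
    simp only [eq_mul_inv_iff_mul_eq, ph_apply, ← map_mul pr]
    refine congrArg pr (ρ_inj ?_)
    simp only [map_mul, ρ_Δ]
    ext1 k l
    rw [mul_diagonal, diagonal_mul]
    by_cases hk : k = i <;> by_cases hl : l = i
    · subst hk hl
      rw [Pi.mulSingle_eq_same, Pi.mulSingle_eq_same]
      exact congrArg Subtype.val (inv_mul_cancel_right (a * b) a)
    · rw [hk, (h l hl).1, mul_zero, zero_mul]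
    · rw [hl, (h k hk).2, mul_zero, zero_mul]
    · rw [Pi.mulSingle_eq_of_ne hk, Pi.mulSingle_eq_of_ne hl, c1, mul_one, one_mul]
  · obtain ⟨a, ha⟩ := exists_det (F := F)
    have := ((had h2 h.symm).2.1 ⟨a, ha⟩).2
    rw [Equiv.swap_comm] at this
    exact (isConj_iff.2 ⟨_, this⟩).symm
  · obtain ⟨A, rfl⟩ := QuotientGroup.mk'_surjective _ g
    have h := fun i => comm_t h2 hm A i (hg i)
    refine ⟨fun i => ⟨ρ A i i, det_of ((row A fun x hx => (h i x hx).1).trans (if_pos rfl))⟩, ?_⟩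
    refine (congrArg pr (ρ_inj (Eq.trans ?_ (ρ_Δ _).symm))).trans (prod_ph _).symm
    ext1 k l
    by_cases e : l = k
    · rw [e, diagonal_apply_eq]
    · rw [diagonal_apply_ne' _ e, (h k l e).1]

end Cfsg.Agent.H16.FkSpd
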