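import Cfsg.Agent.H78.G40A

/-! Project L40G: the element `β` (piece BT). -/

set_option autoImplicit false

namespace Cfsg.Agent.H16.G40Bt

open Subgroup Cfsg.Agent.H83 Cfsg.Agent.H40.L3 Cfsg.Agent.H46.L40 Cfsg.Agent.H78.G40
open Cfsg.Agent.H46.S94 (Cx)

universe u

theorem relN (e : Bool) : (N.B * N.T * N.B⁻¹ : N) = .T * .Z ∧ (N.B * N.Z : N) = .Z * .B ∧
    (N.B * N.W : N) = .W * .B ∧ (N.B * N.Q : N) = .Q * .B ∧
    ((N.B * N.A e : N) = .A e * .B ∨ (N.B * N.A e * N.B⁻¹ : N) = .A e * .Z) := by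
  cases e <;> decide +kernel

theorem relM : (M.B * M.T * M.B⁻¹ : M false) = .T * .Z ∧ (M.B * M.Z : M false) = .Z * .B ∧
    (M.B * M.W : M false) = .W * .B ∧ (M.B * M.Q : M false) = .Q * .B ∧
    (M.B * M.A : M false) = .A * .B ∧ (M.Gm * M.B : M false) = .B * .Gm ∧
    (M.Gm * M.Gm : M false) = 1 ∧ (M.Gm * M.T : M false) = .T * .Gm := by
  decide +kernel

section
variable {G : Type u} [Group G] {φ : S3 →* G} {t : G} {O : Subgroup G}

theorem inn_cov (cx : Cx φ t O) {c : G} (hc : c * t = t * c) {m : S3}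
    (h : ∀ x, c * φ x * c⁻¹ = φ (m * x * m⁻¹)) : ∃ o ∈ O, c = φ m * o ∨ c = φ m * o * t := by
  have h1 : (φ m)⁻¹ * c * t = t * ((φ m)⁻¹ * c) := by
    rw [mul_assoc, hc, ← mul_assoc, ← map_inv, cx.AC, mul_assoc]
  have h2 : (φ m)⁻¹ * c ∈ centralizer (φ.range : Set G) := by
    rw [mem_centralizer_iff]
    rintro _ ⟨x, rfl⟩
    have := h x
    rw [map_mul, map_mul, map_inv] at this
    calc φ x * ((φ m)⁻¹ * c) = (φ m)⁻¹ * (φ m * φ x * (φ m)⁻¹) * c := by group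
      _ = (φ m)⁻¹ * c * φ x := by rw [← this]; group
  rcases cx.tr _ h1 h2 with h3 | h3
  · exact ⟨_, h3, Or.inl (by group)⟩
  · refine ⟨_, h3, Or.inr ?_⟩
    rw [mul_assoc, mul_assoc, cx.tt]
    group

end

theorem btS : BtS.{u} := by
  intro cxs
  refine ⟨fun G _ _ e f => ?_, fun G _ _ f => ?_⟩
  · obtain ⟨O, cx⟩ := cxs G f.toFr
    obtain ⟨r1, r2, r3, r4, r5⟩ := relN e
    refine ⟨{ f.toFr with
      O := O, β := f.D.ι .B, γ := 1, cx := cx
      gam := ⟨mul_one 1, by rw [one_mul, mul_one], Or.inl rfl, fun c hc => ?_⟩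
      nz := fun h => f.D.nz (by rw [f.iZ, f.iT]; exact h.symm)
      βt := ?_, βz := ?_, βw := ?_, βq := ?_, βa := ?_, γβ := by rw [one_mul, mul_one] }, rfl⟩
    · obtain ⟨m, hm⟩ := f.inn c hc
      obtain ⟨o, ho, h | h⟩ := inn_cov cx hc hm
      · exact ⟨m, o, ho, Or.inl h⟩
      · exact ⟨m, o, ho, Or.inr (Or.inl h)⟩
    · rw [← f.iT, ← f.iZ, ← map_inv, ← map_mul, ← map_mul, ← map_mul, r1]
    · rw [← f.iZ, ← map_mul, ← map_mul, r2]
    · rw [← f.iW, ← map_mul, ← map_mul, r3]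
    · rw [← f.iQ, ← map_mul, ← map_mul, r4]
    · rcases r5 with r5 | r5
      · left
        rw [← f.iA, ← map_mul, ← map_mul, r5]
      · refine Or.inr ⟨rfl, ?_⟩
        rw [map_mul, ← f.iA, ← f.iZ, ← map_inv, ← map_mul, ← map_mul, ← map_mul, r5]
  · obtain ⟨O, cx⟩ := cxs G f.toFr
    obtain ⟨r1, r2, r3, r4, r5, r6, r7, r8⟩ := relM
    have hg : ∀ x, f.D.ι .Gm * f.φ x * (f.D.ι .Gm)⁻¹ = f.φ (tr x) :=
      f.gtr.resolve_right fun h => Bool.false_ne_true h.1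
    have gg : f.D.ι .Gm * f.D.ι .Gm = 1 := by rw [← map_mul, r7, map_one]
    have gt : f.D.ι .Gm * f.t = f.t * f.D.ι .Gm := by rw [← f.iT, ← map_mul, ← map_mul, r8]
    refine ⟨{ f.toFr with
      O := O, β := f.D.ι .B, γ := f.D.ι .Gm, cx := cx
      gam := ⟨gg, gt, Or.inr hg, fun c hc => ?_⟩
      nz := fun h => f.D.nz (by rw [f.iZ, f.iT]; exact h.symm)
      βt := ?_, βz := ?_, βw := ?_, βq := ?_, βa := Or.inl ?_, γβ := ?_ }, rfl⟩
    · obtain ⟨m, hm | hm⟩ := f.aut c hc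
      · obtain ⟨o, ho, h | h⟩ := inn_cov cx hc hm
        · exact ⟨m, o, ho, Or.inl h⟩
        · exact ⟨m, o, ho, Or.inr (Or.inl h)⟩
      · generalize f.D.ι .Gm = γ at hg gg gt
        have gi : γ⁻¹ = γ := inv_eq_of_mul_eq_one_right gg
        have tt : ∀ x, tr (tr x) = x := fun x => f.inj (by
          rw [← hg, ← hg, gi]
          calc γ * (γ * f.φ x * γ) * γ = (γ * γ) * f.φ x * (γ * γ) := by simp only [mul_assoc]
            _ = f.φ x := by rw [gg, one_mul, mul_one])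
        have hc' : c * γ * f.t = f.t * (c * γ) := by rw [mul_assoc, gt, ← mul_assoc, hc, mul_assoc]
        have hm' : ∀ x, c * γ * f.φ x * (c * γ)⁻¹ = f.φ (m * x * m⁻¹) := fun x => by
          have := hm (tr x)
          rw [tt, ← hg] at this
          rw [← this]
          group
        have e : ∀ y, c * γ = y → c = y * γ := fun y hy => by rw [← hy, mul_assoc, gg, mul_one]
        obtain ⟨o, ho, h | h⟩ := inn_cov cx hc' hm'
        · exact ⟨m, o, ho, Or.inr (Or.inr (Or.inl (e _ h)))⟩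
        · exact ⟨m, o, ho, Or.inr (Or.inr (Or.inr (e _ h)))⟩
    · rw [← f.iT, ← f.iZ, ← map_inv, ← map_mul, ← map_mul, ← map_mul, r1]
    · rw [← f.iZ, ← map_mul, ← map_mul, r2]
    · rw [← f.iW, ← map_mul, ← map_mul, r3]
    · rw [← f.iQ, ← map_mul, ← map_mul, r4]
    · rw [← f.iA, ← map_mul, ← map_mul, r5]
    · rw [← map_mul, ← map_mul, r6]

end Cfsg.Agent.H16.G40Bt
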