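import Cfsg.Agent.H78.G40B
import Cfsg.Agent.H26.SLBasic
import Cfsg.Agent.S0243

/-! Project L40G: the model `L₃(9)` (piece MO3A). -/

set_option autoImplicit false

namespace Cfsg.Agent.H16.G40Mo3a

open Subgroup Matrix Cfsg.Agent.H46.L40 Cfsg.Agent.H28 Cfsg.Agent.H78.G40

theorem cube (r : F9) (h : r ^ 3 = 1) : r = 1 := by
  have h9 : r ^ 9 = r := by rw [← card_F9]; exact FiniteField.pow_card r
  rw [← h9, show 9 = 3 * 3 from rfl, pow_mul, h, one_pow]

theorem center_bot : center X3 = ⊥ := by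
  rw [eq_bot_iff]
  intro A hA
  obtain ⟨r, h1, h2⟩ := Matrix.SpecialLinearGroup.mem_center_iff.1 hA
  rw [cube r h1, map_one] at h2
  exact Subtype.ext h2.symm

/-- `SL₃(9) = PSL₃(9)` -/
noncomputable def iso : X3 ≃* ProjectiveSpecialLinearGroup (Fin 3) F9 :=
  ((QuotientGroup.quotientMulEquivOfEq center_bot).trans QuotientGroup.quotientBot).symm

theorem simple : IsSimpleGroup X3 :=
  have := H26.psl_isSimpleGroup (ι := Fin 3) (F := F9) (Or.inl (by simp))
  iso.isSimpleGroup

theorem card_X3 : Nat.card X3 = 42456960 := by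
  have h := S0243.result card_F9 3 (by norm_num)
  rw [← Nat.card_congr iso.toEquiv, Fin.prod_univ_three] at h
  change 1 * (8 * Nat.card X3) = 728 * 720 * 648 at h
  omega

theorem mo3a : Mo3aS := by
  refine ⟨simple, fun h => ?_, card_X3, ⟨iso⟩⟩
  have h1 : center X3 = ⊤ := by
    rw [eq_top_iff]
    exact fun x _ => mem_center_iff.2 fun y => h.is_comm.comm y x
  have h2 := card_X3
  rw [← card_top, ← h1, center_bot, card_bot] at h2
  omega

end Cfsg.Agent.H16.G40Mo3a
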