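import Cfsg.Agent.H17.J4K0
import Cfsg.Agent.H83.J4M

/-!
# The extraspecial group of order `2 ^ 13` inside `2 ^ 11 : M₂₄`
-/

set_option autoImplicit false
set_option maxRecDepth 1000000

namespace Cfsg.Agent.H16.J4C

open Cfsg Subgroup MulAction H42 H83 H83.J4 H17.J4K H17.J4A
open H49 (XS LX)
open scoped Pointwise

/-- A tetrad. -/
def zM : ℕ := 3081
/-- Its sextet. -/
def Sx : ℕ := 11178276252463637273990548020531194184600585
/-- An element moving the standard sextet. -/
def m0 : ℕ := 399403322507623541010504344194342286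
/-- An element of order three. -/
def rP : ℕ := 599286378432609431408698696740637163
/-- Six duads. -/
def uT : ℕ := 87197356538702443217178149180791100276745
/-- The hexacode group. -/
def eT : ℕ := 0x711a8304472dea900d9484df65464b4dab4306272b1ae52ee884de400a43656c2305072a497181d184ded5d24abb491306872bacc5a92284df51a240bdaa233d07939ac00d3184c24550ab611b133e87926b752dc284c36020a34b48833c47932ce182f484c355c4aa756d433e2795c895a98884c2d188a04d6d1316870b08e00ee284e4d521eb73482315070dec952d9184e55051e3b91b4316270baac1812884e56589ea65aa8314470a5b75a9d484e441c5e06349434a277a6d700dc884cb55082bbd6c8348477b88c52d3484cad0442375ab134a877dda91818284ca45a02a491a2349077b2ae5aaf184cb61d020bd6d4806332b88c00d2831ded50a4b63488804532a6d752dd431df504643491b1806932b2ae182e231df65a24a75aa2805132dda95a99131de41d2407349183e9395ec900d8231c35520ab4d6c283d139308e52ef131c2d050a365ab483e33925b7181c831c24588aab91a883c5393aac5a93431c361c4a0611a2815130a6b700dd131e56551ebbdab1816930b9ac52d2231e44021e3756c8814530dc891819431e4d5c5ea4b494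816330b2ce5aae831e55189e04daa8848537b1ae00ef431ca45442b711b484a337dea952d8831cb600823bb482849137bacc1813131cb55d02a656d184a937a4975a9c231cad1a0204b482385062b2ce00ef19c1f55524b756d1386862dc8952d829c1ed02243bdaa8384462b9ac181349c1e45c64a611b4386262a6b75a9c89c1f618a40656c83bc469249700dd49c02d544abbb4943be2693acc52d289c035008a3711a23bd0695ea9181919c0365d0aa4dab13be86931ae5aae29c0241a0a075ab4396260dda900d889c244509eb491a8394460b2ae52ef49c256045e363491396860a6d7181c29c2555a1eabd6c2395060b88c5a9319c24d1d1e0b91b13ca867baac00d229c0b65202b65aa23c9067a5b752dd19c0a4050234d6d43ca267b08e182e89c0ad5882a734883c8467dec95a9949c0b51c42065ab1986902a5b700dc2399e45224bb91a2985102baac52d31399f60524373494986302dec918188399f558a4a4d6c8984502b08e5aaf4399ed1c640491b49be30932ae00ee839836508ab75aa89bc5095da952d9439824044a3bd6d19be909388c181223982d5a0aa634829bd10926d75a9d1398351d0a0bb488994500bacc00d3439a55545eb656d4996300a49752dc839a4d009e34daa2995100b1ae182f139a445d1ea711b1996900dea95a98239a561a1e0756c29c9107dc8900d91398ad5502b4b4919ca907b2ce52ee2398b502023611a89c8507a6b7181d4398b65c42abdab49ca307b9ac5a928398a418820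
/-- Projections onto the twenty-two subspaces. -/
def PiT : ℕ := 0x81f04250221013200a40078000000000000000000000000080f04050221013200a5007a0000000000000000000000000809040e023301110099006e0000000000000000000000000800040002000100008100420000000000000000000000000816042b0216012b00bd00560000000000000000000000000ac305810000000000000000002100130009000700000000081f04250225013a00a5007a0000000000000000000000000806040b0212012300bd00560000000000000000000000000b4206c300000000000000000023001200090007000000000810042002040108008100420000000000000000000000000816042b0212012300bc00540000000000000000000000000819042e023301110098006c0000000000000000000000000809040e023701190098006c0000000000000000000000000806040b0216012b00bc00540000000000000000000000000819042e023701190099006e000000000000000000000000080f04050225013a00a4007800000000000000000000000008000400020401080080004000000000000000000000000009c30781000000000000000000210013000b0006000000000810042002000100008000400000000000000000000000000b810642000000000000000000220011000b000600000000094207c3000000000000000000230012000a0005000000000a810542000000000000000000220011000a000500000000000000000000000000000000000000000000000000000000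
/-- Coordinates. -/
def mT : List ℕ := [76, 336, 12, 21, 68, 327, 0, 0, 0, 0, 0, 0]
/-- Generators of the sextet group. -/
def gP : List ℕ := [12179060346111081784356549185061012, 47603236485116527489442720553324073]
/-- A basis of the even cocode. -/
def bV : List ℕ := [9961473, 2621953, 2228233, 98307, 524673, 4227585, 524425, 4456465, 524449, 4718849, 1091]
/-- Matrices. -/
def AL : List ℕ := [140993424812748133819426160333971314244109192426498687031, 159384493720696610970939571690380680729642899085730709526, 199130190006652651881394137016790356994301544211612303361, 198555517332744081721829155027310466031822902124464963585, 196735627724672613654639303146938486040241289240743378945, 197693468128846752816311811926134572088086107380481392641, 198555517332833287424877020432069456755753149341217456129, 197022975023915003977630483342319360507234986912609599489, 196160925819928469369054889925754756127253533585039294465, 196160925820017675072113140241143466563498192168626028545, 196160925820017675072113140241143466563498192168626028545,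 198268170033590897101896225147318302001073863036185477121, 197693468128935958519359677330893562812016354597233885185, 196160925819928469369054889926141624195752676215652223489, 294242137018731061032019423590652323512686856336153051139]
/-- Permutations. -/
def πL : List ℕ := [17307574139724666827949940590938583, 972879456713281883770072835155900512, 980224387687010295957922729495201824, 975346028712660580592452217730074656, 970499966350631336865513127433832480, 983548720921252936276249910206105632, 967812279691448225500382947153381408, 979121071158219704299181131031480352, 984818244535754528103549039458486304, 976448692869377735270425038196672544, 976448692869377735270425038196672544, 981818691054096003685363657089320992, 965128854020860192151391391390468128, 958477732636305396956478684837271968, 984818244535754528103549039458486304]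

/-- The mask with given coordinates. -/
noncomputable def uM (j : ℕ) : ℕ := xorC (fld 24 uT) j 6
/-- The element of the hexacode group with given coordinates. -/
def eP (i : ℕ) : ℕ := fld 120 eT i
/-- The projection of a point. -/
def Pi (i : ℕ) : ℕ := fld 192 PiT i
/-- The cocycle. -/
def cq (v w : ℕ) : ℕ := par (Nat.land (Nat.div v 64) (Nat.mod w 64))
/-- Even masks. -/
def Ev (a : ℕ) : Prop := a < 2 ^ 24 ∧ pc a % 2 = 0

theorem Ev.xor {a b : ℕ} (ha : Ev a) (hb : Ev b) : Ev (a ^^^ b) :=
  ⟨Nat.xor_lt_two_pow ha.1 hb.1, pc_xor_even ha.1 hb.1 ha.2 hb.2⟩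

theorem ev_zero : Ev 0 := by unfold Ev; decide +kernel
theorem ev_zM : Ev zM := by unfold Ev; decide +kernel

theorem chk_q : allB (fun i => force (eP i) fun e => Bool.and (inM e)
    (Bool.and (Nat.beq (syn (img e zM)) (syn zM)) (Bool.and (Nat.beq (famAct 3 e A0) A0)
      (allB (fun j => Bool.and (Nat.beq (pm e (eP j)) (eP (Nat.xor i j)))
        (force (uM j) fun u => Nat.beq (syn (img e u))
          (syn (Nat.xor u (Nat.mul (par (Nat.land i j)) zM))))) 64)))) 64 = true := by decide +kernel

theorem chk_u : ∀ j < 64, (uM j < 2 ^ 24 ∧ pc (uM j) % 2 = 0) ∧ (eP j = pid → j = 0) ∧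
    (syn (uM j) = syn 0 ∨ syn (uM j) = syn zM → j = 0) := by decide +kernel

theorem chk_cent : allB (fun v => Bool.or (Nat.beq v 0)
    (anyB (fun k => !Nat.beq (cq v (Nat.pow 2 k)) (cq (Nat.pow 2 k) v)) 12)) 4096 = true := by
  decide +kernel

theorem ev_uM {j : ℕ} (hj : j < 64) : Ev (uM j) := (chk_u j hj).1

theorem eP_spec {i : ℕ} (hi : i < 64) : inM (eP i) = true ∧ syn (img (eP i) zM) = syn zM ∧
    famAct 3 (eP i) A0 = A0 ∧ ∀ j < 64, pmul (eP i) (eP j) = eP (i ^^^ j) ∧
      syn (img (eP i) (uM j)) = syn (uM j ^^^ par (i &&& j) * zM) := by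
  have h := of_allB chk_q hi
  simp only [force_eq, Bool.and_eq_true, beq_iff, allB_iff, pm_eq] at h
  exact h

theorem div_lt64 {v : ℕ} (hv : v < 4096) : v / 64 < 64 := by omega
theorem mod_lt64 (v : ℕ) : v % 64 < 64 := by omega

/-- The data of the first stage. -/
structure SA (G : Type*) [Group G] where
  /-- the Mathieu group -/
  φ : M24 →* G
  /-- the involutions -/
  U : ℕ → Fam → G
  dat : Dat φ U
  ne : sig U 132288 ≠ 1
  tc : ∀ m : M24, m • famDec 3 A0 = famDec 3 A0 → Commute (lt U lA) (φ m)

namespace SA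

variable {G : Type*} [Group G] (S : SA G)

/-- The cocode elements. -/
noncomputable abbrev σ (a : ℕ) : G := sig S.U a
/-- The extra generator. -/
noncomputable abbrev t : G := lt S.U lA
/-- The central involution. -/
noncomputable def z : G := S.σ zM
/-- A coded element. -/
noncomputable def el (a g : ℕ) : G := S.σ a * S.φ (toM g)
/-- The section of the extraspecial group. -/
noncomputable def q (v : ℕ) : G := S.el (uM (v % 64)) (eP (v / 64))

theorem σ_syn {a b : ℕ} (h : syn a = syn b) : S.σ a = S.σ b := by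
  unfold σ sig; rw [h]

theorem σ_img {g a : ℕ} (hg : inM g = true) (ha : Ev a) :
    S.φ (toM g) * S.σ a * (S.φ (toM g))⁻¹ = S.σ (img g a) :=
  sig_img S.dat.sys S.dat.h1 S.dat.h2 S.dat.h3 hg ha.1 ha.2

theorem σ_mem {a : ℕ} (ha : Ev a) : S.σ a ∈ S.dat.V := S.dat.sig_mem ha.1 ha.2

theorem syn_of_σ {a b : ℕ} (ha : Ev a) (hb : Ev b) (h : S.σ a = S.σ b) : syn a = syn b := by
  have h1 : S.σ (a ^^^ b) = 1 := by rw [σ, S.dat.xor, ← σ, h, S.dat.sq]
  have h2 := syn_code ((S.dat.sig_eq_one_iff S.ne (ha.xor hb).1 (ha.xor hb).2).mp h1)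
  rw [syn_xor] at h2
  exact Nat.eq_of_xor_eq_zero h2

theorem el_mul {a b g h : ℕ} (hg : inM g = true) (hh : inM h = true) (hb : Ev b) :
    S.el a g * S.el b h = S.el (a ^^^ img g b) (pmul g h) := by
  unfold el
  rw [σ, σ, σ, S.dat.xor, ← σ, ← σ, ← σ, ← S.σ_img hg hb, toM_pmul hg hh, map_mul]; group

theorem el_inj {a b g h : ℕ} (ha : Ev a) (hb : Ev b) (hg : inM g = true) (hh : inM h = true)
    (e : S.el a g = S.el b h) : syn a = syn b ∧ g = h := by
  unfold el at e
  have h1 : S.φ (toM g * (toM h)⁻¹) = (S.σ a)⁻¹ * S.σ b := by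
    rw [map_mul, map_inv, eq_inv_mul_iff_mul_eq, ← mul_assoc, e, mul_inv_cancel_right]
  have h2 := S.dat.eq_one_of_cent S.ne (m := toM g * (toM h)⁻¹) fun v hv => by
    rw [h1]; exact S.dat.V_comm (mul_mem (inv_mem (S.σ_mem ha)) (S.σ_mem hb)) hv
  rw [mul_inv_eq_one] at h2
  rw [h2] at e
  exact ⟨S.syn_of_σ ha hb (mul_right_cancel e), toM_inj hg hh h2⟩

theorem el_pid (a : ℕ) : S.el a pid = S.σ a := by rw [el, toM_pid, map_one, mul_one]

theorem zz : S.z * S.z = 1 := S.dat.sq _

theorem z_ne : S.z ≠ 1 := fun h =>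
  absurd ((S.dat.sig_eq_one_iff S.ne ev_zM.1 ev_zM.2).mp h) (by decide +kernel)

theorem z_mem : S.z ∈ S.dat.V := S.σ_mem ev_zM

theorem zpow_cases (n : ℕ) : S.z ^ n = 1 ∨ S.z ^ n = S.z := by
  induction n with
  | zero => exact Or.inl (pow_zero _)
  | succ n ih => rcases ih with h | h <;> rw [pow_succ, h]; exacts [Or.inr (one_mul _), Or.inl S.zz]

theorem zpow_sq (n : ℕ) : S.z ^ n * S.z ^ n = 1 := by
  rcases S.zpow_cases n with h | h <;> rw [h]; exacts [one_mul _, S.zz]

theorem φ_z {g : ℕ} (hg : inM g = true) (h : syn (img g zM) = syn zM) :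
    Commute (S.φ (toM g)) S.z := by
  have := S.σ_img hg ev_zM
  rw [S.σ_syn h, mul_inv_eq_iff_eq_mul] at this
  exact this

theorem q_z {v : ℕ} (hv : v < 4096) : Commute (S.q v) S.z :=
  (S.dat.comm _ _).mul_left (S.φ_z (eP_spec (div_lt64 hv)).1 (eP_spec (div_lt64 hv)).2.1)

theorem q_zero : S.q 0 = 1 := by
  rw [q, show eP (0 / 64) = pid by decide +kernel, S.el_pid, show uM (0 % 64) = 0 by decide +kernel]
  exact sig_zero _

theorem el_z {a g n : ℕ} (hg : inM g = true) (h : syn (img g zM) = syn zM) (hn : n ≤ 1) :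
    S.el (a ^^^ n * zM) g = S.el a g * S.z ^ n := by
  obtain rfl | rfl : n = 0 ∨ n = 1 := by omega
  · simp
  · rw [one_mul, pow_one, el, el, σ, S.dat.xor, mul_assoc, mul_assoc, (S.φ_z hg h).eq]; rfl

theorem q_mul {v w : ℕ} (hv : v < 4096) (hw : w < 4096) :
    S.q v * S.q w = S.q (v ^^^ w) * S.z ^ cq v w := by
  obtain ⟨h1, -, -, h2⟩ := eP_spec (div_lt64 hv)
  have h3 := eP_spec (div_lt64 (xor_lt12 hv hw))
  have e1 : (v ^^^ w) % 64 = v % 64 ^^^ w % 64 := Nat.xor_mod_two_pow (n := 6)
  have e2 : (v ^^^ w) / 64 = v / 64 ^^^ w / 64 := Nat.xor_div_two_pow (n := 6)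
  rw [q, q, S.el_mul h1 (eP_spec (div_lt64 hw)).1 (ev_uM (mod_lt64 w)), q,
    ← S.el_z h3.1 h3.2.1 (show cq v w ≤ 1 from par_le _), (h2 _ (div_lt64 hw)).1, e1, e2, el, el]
  congr 1
  apply S.σ_syn
  rw [syn_xor, (h2 _ (mod_lt64 w)).2, ← syn_xor, uM, uM, uM, xorC_xor, Nat.xor_assoc]
  rfl

/-- The elements over a vector. -/
def L (w : G) (v : ℕ) : Prop := ∃ n : ℕ, w = S.q v * S.z ^ n

variable {S}

theorem L.mul_z {w : G} {v : ℕ} (h : S.L w v) (n : ℕ) : S.L (w * S.z ^ n) v := by
  obtain ⟨m, rfl⟩ := h
  exact ⟨m + n, by rw [pow_add, mul_assoc]⟩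

theorem L.comm {w : G} {v : ℕ} (h : S.L w v) (hv : v < 4096) : Commute w S.z := by
  obtain ⟨m, rfl⟩ := h
  exact (S.q_z hv).mul_left ((Commute.refl _).pow_left m)

theorem L.mul {w x : G} {v u : ℕ} (h : S.L w v) (h' : S.L x u) (hv : v < 4096) (hu : u < 4096) :
    S.L (w * x) (v ^^^ u) := by
  obtain ⟨m, rfl⟩ := h
  obtain ⟨n, rfl⟩ := h'
  refine ⟨cq v u + (m + n), ?_⟩
  rw [pow_add, ← mul_assoc (S.q _), ← S.q_mul hv hu, mul_assoc, ← mul_assoc (S.z ^ m),
    ← ((S.q_z hu).pow_right m).eq, pow_add]
  simp only [mul_assoc]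

theorem L.eq {w x : G} {v : ℕ} (h : S.L w v) (h' : S.L x v) : w = x ∨ w = x * S.z := by
  obtain ⟨m, rfl⟩ := h
  obtain ⟨n, rfl⟩ := h'
  rcases S.zpow_cases m with a | a <;> rcases S.zpow_cases n with b | b <;> rw [a, b] <;>
    simp [mul_assoc, S.zz]

theorem L.zero {w : G} (h : S.L w 0) : w = 1 ∨ w = S.z := by
  obtain ⟨m, rfl⟩ := h
  rw [S.q_zero, one_mul]; exact S.zpow_cases m

theorem L_q (v : ℕ) : S.L (S.q v) v := ⟨0, by simp⟩

theorem L_one : S.L 1 0 := ⟨0, by simp [S.q_zero]⟩

theorem L_z : S.L S.z 0 := ⟨1, by simp [S.q_zero]⟩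

theorem L.eq_zero {w : G} {v : ℕ} (h : S.L w v) (hv : v < 4096) (h1 : w = 1 ∨ w = S.z) : v = 0 := by
  have h2 : S.q v = S.el 0 pid ∨ S.q v = S.el zM pid := by
    rw [S.el_pid, S.el_pid, σ, sig_zero]
    rcases (L_q v).eq h with e | e <;> rcases h1 with rfl | rfl <;> rw [e] <;> simp [z]
    exact Or.inl S.zz
  have h3 := fun a (ha : Ev a) => S.el_inj (h := pid) (ev_uM (mod_lt64 v)) ha (eP_spec (div_lt64 hv)).1 inM_pid
  have h4 : eP (v / 64) = pid := h2.elim (fun e => (h3 _ ev_zero e).2) fun e => (h3 _ ev_zM e).2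
  have h5 := (chk_u _ (mod_lt64 v)).2.2 (h2.imp (fun e => (h3 _ ev_zero e).1) fun e => (h3 _ ev_zM e).1)
  have h6 := (chk_u _ (div_lt64 hv)).2.1 h4
  omega

theorem L.inj {w : G} {v u : ℕ} (h : S.L w v) (h' : S.L w u) (hv : v < 4096) (hu : u < 4096) :
    v = u := by
  have h1 := h.mul h hv hv
  rw [Nat.xor_self] at h1
  exact Nat.eq_of_xor_eq_zero ((h.mul h' hv hu).eq_zero (xor_lt12 hv hu) h1.zero)

theorem L.inv {w : G} {v : ℕ} (h : S.L w v) (hv : v < 4096) : S.L w⁻¹ v := by
  have h1 := h.mul h hv hv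
  rw [Nat.xor_self] at h1
  rcases h1.zero with e | e
  · rwa [inv_eq_of_mul_eq_one_right e]
  · have := h.mul_z 1
    rwa [inv_eq_of_mul_eq_one_right (b := w * S.z ^ 1) (by rw [← mul_assoc, e, pow_one, S.zz])]

variable (S)

/-- The extraspecial group. -/
def Q : Subgroup G where
  carrier := {w | ∃ v < 4096, S.L w v}
  one_mem' := ⟨0, by norm_num, L_one⟩
  mul_mem' := by
    rintro _ _ ⟨a, ha, h⟩ ⟨b, hb, h'⟩
    exact ⟨_, xor_lt12 ha hb, h.mul h' ha hb⟩
  inv_mem' := by
    rintro _ ⟨a, ha, h⟩
    exact ⟨a, ha, h.inv ha⟩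

theorem q_comm {v w : ℕ} (hv : v < 4096) (hw : w < 4096) (h : S.q v * S.q w = S.q w * S.q v) :
    cq v w = cq w v := by
  rw [S.q_mul hv hw, S.q_mul hw hv, Nat.xor_comm] at h
  have h1 := mul_left_cancel h
  have h2 : cq v w ≤ 1 := par_le _
  have h3 : cq w v ≤ 1 := par_le _
  have := S.z_ne
  interval_cases cq v w <;> interval_cases cq w v <;> simp_all

theorem xs : XS S.Q S.z where
  mem := ⟨0, by norm_num, L_z⟩
  ne := S.z_ne
  zz := S.zz
  cen := fun _ ⟨_, hv, h⟩ => h.comm hv
  cent := by
    rintro x ⟨v, hv, h⟩ hc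
    have h1 := of_allB chk_cent hv
    simp only [Bool.or_eq_true, beq_iff, anyB_iff, Bool.not_eq_true', beq_false_iff] at h1
    rcases h1 with rfl | ⟨k, hk, h1⟩
    · exact h.zero
    · refine absurd (S.q_comm hv (two_pow_lt12 hk) ?_) h1
      obtain ⟨n, rfl⟩ := h
      have := hc _ ⟨_, two_pow_lt12 hk, L_q _⟩
      rw [mul_assoc, ← ((S.q_z (two_pow_lt12 hk)).pow_right n).eq, ← mul_assoc, ← mul_assoc] at this
      exact mul_right_cancel this
  comm := by
    rintro x ⟨v, hv, h⟩ y ⟨w, hw, h'⟩
    exact (h.mul h' hv hw).eq (Nat.xor_comm v w ▸ h'.mul h hw hv)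
  nonab := ⟨_, ⟨1, by norm_num, L_q _⟩, _, ⟨64, by norm_num, L_q _⟩, fun h =>
    absurd (S.q_comm (by norm_num) (by norm_num) h) (by decide +kernel)⟩

theorem card_Q : Nat.card S.Q = 8192 := by
  have : Function.Bijective (fun x : Fin 4096 × Fin 2 =>
      (⟨S.q x.1 * S.z ^ (x.2 : ℕ), x.1, x.1.2, x.2, rfl⟩ : S.Q)) := by
    constructor
    · rintro ⟨a, m⟩ ⟨b, n⟩ e
      have e1 : S.q a * S.z ^ (m : ℕ) = S.q b * S.z ^ (n : ℕ) := congrArg Subtype.val e
      obtain rfl : a = b := Fin.ext (L.inj ⟨_, rfl⟩ ⟨_, e1⟩ a.2 b.2)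
      have e2 := mul_left_cancel e1
      have := S.z_ne
      fin_cases m <;> fin_cases n <;> simp_all
    · rintro ⟨w, v, hv, h⟩
      rcases h.eq (L_q v) with e | e
      · exact ⟨(⟨v, hv⟩, 0), Subtype.ext (by simp [e])⟩
      · exact ⟨(⟨v, hv⟩, 1), Subtype.ext (by simp [e])⟩
  rw [← Nat.card_eq_of_bijective _ this]; simp

end SA

end Cfsg.Agent.H16.J4C
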