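import Cfsg.Agent.H44.K5Defs

/-! Project K5 (row S4926): the neighbour lattice (piece NEI). -/

set_option autoImplicit false

namespace Cfsg.Agent.H16.K5Nei

open Matrix Cfsg.Agent.H44.K5

theorem sq8 (w : ℤ) : (w % 2 = 0 ∧ (w ^ 2 % 8 = 0 ∨ w ^ 2 % 8 = 4)) ∨ (w % 2 = 1 ∧ w ^ 2 % 8 = 1) := by
  have h : w ^ 2 % 8 = (w % 8) ^ 2 % 8 := by rw [pow_two, pow_two, Int.mul_emod, Int.mul_emod (w % 8), Int.emod_emod]
  have h1 : w % 8 = 0 ∨ w % 8 = 1 ∨ w % 8 = 2 ∨ w % 8 = 3 ∨ w % 8 = 4 ∨ w % 8 = 5 ∨ w % 8 = 6 ∨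
      w % 8 = 7 := by omega
  rcases h1 with e | e | e | e | e | e | e | e <;> rw [e] at h <;> norm_num at h <;> omega

theorem pow_pos_of_ne {a : ℤ} (h : a ≠ 0) : 0 < a ^ 2 := by positivity

theorem fin {p : ℤ} (hp : Prime p) (h2 : p % 2 = 1) {x y z t r α μ m0 m1 m2 m3 m4 w0 w1 w2 w3 w4 : ℤ}
    (hr : 1 + x ^ 2 + y ^ 2 + z ^ 2 + t ^ 2 = p ^ 2 * r)
    (e0 : w0 = α + p * m0) (e1 : w1 = α * x + p * m1) (e2 : w2 = α * y + p * m2)
    (e3 : w3 = α * z + p * m3) (e4 : w4 = α * t + p * m4)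
    (hm : m0 + m1 * x + m2 * y + m3 * z + m4 * t = p * μ)
    (hw : w0 ^ 2 + w1 ^ 2 + w2 ^ 2 + w3 ^ 2 + w4 ^ 2 = p ^ 2) (ho : w0 % 2 = 1) :
    ∃ a b c d e : ℤ, ¬ p ∣ a ∧ p ∣ b - a * x ∧ p ∣ c - a * y ∧ p ∣ d - a * z ∧ p ∣ e - a * t ∧
      p * a = a ^ 2 + b ^ 2 + c ^ 2 + d ^ 2 + e ^ 2 := by
  have ev : w1 % 2 = 0 ∧ w2 % 2 = 0 ∧ w3 % 2 = 0 ∧ w4 % 2 = 0 := by
    have := sq8 w0; have := sq8 w1; have := sq8 w2; have := sq8 w3; have := sq8 w4
    have := sq8 p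
    omega
  obtain ⟨a, ha⟩ : ∃ a, p + w0 = 2 * a := ⟨(p + w0) / 2, by omega⟩
  obtain ⟨b, hb⟩ : ∃ a, w1 = 2 * a := ⟨w1 / 2, by omega⟩
  obtain ⟨c, hc⟩ : ∃ a, w2 = 2 * a := ⟨w2 / 2, by omega⟩
  obtain ⟨d, hd⟩ : ∃ a, w3 = 2 * a := ⟨w3 / 2, by omega⟩
  obtain ⟨e, he⟩ : ∃ a, w4 = 2 * a := ⟨w4 / 2, by omega⟩
  obtain ⟨h, hh⟩ : ∃ h, p + 1 = 2 * h := ⟨(p + 1) / 2, by omega⟩
  have dv : ∀ s u : ℤ, 2 * s = p * u → p ∣ s := fun s u e =>
    ⟨h * u - s, by linear_combination h * e + s * hh⟩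
  have w0' : w0 = 2 * a - p := by linarith
  refine ⟨a, b, c, d, e, ?_, dv _ (m1 - x - m0 * x) (by linear_combination e1 - hb + x * ha - x * e0),
    dv _ (m2 - y - m0 * y) (by linear_combination e2 - hc + y * ha - y * e0),
    dv _ (m3 - z - m0 * z) (by linear_combination e3 - hd + z * ha - z * e0),
    dv _ (m4 - t - m0 * t) (by linear_combination e4 - he + t * ha - t * e0), ?_⟩
  · rintro ⟨j, rfl⟩
    have p0 : 0 < p ^ 2 := pow_pos_of_ne hp.ne_zero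
    have o1 : 0 < (2 * j - 1) ^ 2 := pow_pos_of_ne (by omega)
    have k0 : w0 ^ 2 = p ^ 2 * (2 * j - 1) ^ 2 := by rw [w0']; ring
    have k1 : p ^ 2 ≤ w0 ^ 2 := by rw [k0]; exact le_mul_of_one_le_right p0.le o1
    have s1 := sq_nonneg w1
    have s2 := sq_nonneg w2
    have s3 := sq_nonneg w3
    have s4 := sq_nonneg w4
    have z1 : w1 = 0 := pow_eq_zero_iff two_ne_zero |>.1 (le_antisymm (by linarith) s1)
    have z2 : w2 = 0 := pow_eq_zero_iff two_ne_zero |>.1 (le_antisymm (by linarith) s2)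
    have z3 : w3 = 0 := pow_eq_zero_iff two_ne_zero |>.1 (le_antisymm (by linarith) s3)
    have z4 : w4 = 0 := pow_eq_zero_iff two_ne_zero |>.1 (le_antisymm (by linarith) s4)
    have k2 : w0 = p ^ 2 * (α * r + μ) := by
      linear_combination e0 + x * e1 + y * e2 + z * e3 + t * e4 + α * hr + p * hm - x * z1 -
        y * z2 - z * z3 - t * z4
    have k3 : p ^ 2 * (p * (p * (α * r + μ) ^ 2)) = p ^ 2 * 1 := by
      rw [z1, z2, z3, z4, k2] at hw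
      linear_combination hw
    exact hp.not_dvd_one ⟨_, (mul_left_cancel₀ p0.ne' k3).symm⟩
  · rw [w0', hb, hc, hd, he] at hw
    have : 4 * (p * a) = 4 * (a ^ 2 + b ^ 2 + c ^ 2 + d ^ 2 + e ^ 2) := by linear_combination -hw
    omega

theorem nei (uni : UniStmt) : NeiStmt := by
  intro p hp h2 x0 y z t hx ⟨s, hs⟩
  have hP : Prime (p : ℤ) := Nat.prime_iff_prime_int.1 hp
  have po : (p : ℤ) % 2 = 1 := by have := hp.eq_two_or_odd.resolve_left h2; omega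
  obtain ⟨h, hh⟩ : ∃ h : ℤ, (p : ℤ) + 1 = 2 * h := ⟨(p + 1) / 2, by omega⟩
  obtain ⟨k0, c, hc⟩ := (hP.irreducible.coprime_iff_not_dvd.2 hx)
  generalize (p : ℤ) = q at *
  obtain ⟨x, hxx⟩ : ∃ x, x = x0 - q * (s * h * c) := ⟨_, rfl⟩
  obtain ⟨r, hr⟩ : ∃ r, 1 + x ^ 2 + y ^ 2 + z ^ 2 + t ^ 2 = q ^ 2 * r :=
    ⟨(s * h * c) ^ 2 + s * (2 * h * k0 - 1), by
      rw [hxx]; linear_combination hs - 2 * q * s * h * hc + q * s * hh⟩
  obtain ⟨k, hk⟩ : ∃ k, c * x = 1 + q * k :=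
    ⟨-k0 - c * (s * h * c), by rw [hxx]; linear_combination hc⟩
  suffices H : ∃ a b c d e : ℤ, ¬ q ∣ a ∧ q ∣ b - a * x ∧ q ∣ c - a * y ∧ q ∣ d - a * z ∧
      q ∣ e - a * t ∧ q * a = a ^ 2 + b ^ 2 + c ^ 2 + d ^ 2 + e ^ 2 by
    obtain ⟨a, b, c', d, e, h1, ⟨j, hj⟩, h3⟩ := H
    exact ⟨a, b, c', d, e, h1, ⟨j - a * (s * h * c), by rw [hxx] at hj; linear_combination hj⟩, h3⟩
  let v : Fin 5 → ℤ := ![1, x, y, z, t]
  let α : Fin 5 → ℤ := ![0, c, 0, 0, 0]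
  let μ : Fin 5 → ℤ := ![1, 0, 0, 0, 0]
  let M : Matrix (Fin 5) (Fin 5) ℤ :=
    !![q, 0, 0, 0, 0; k * x, -k, 0, 0, 0; -y, 0, 1, 0, 0; -z, 0, 0, 1, 0; -t, 0, 0, 0, 1]
  let B : Matrix (Fin 5) (Fin 5) ℤ := Matrix.of fun i j => α i * v j + q * M i j
  let A : Matrix (Fin 5) (Fin 5) ℤ :=
    Matrix.of fun i j => α i * α j * r + α i * μ j + α j * μ i + ∑ l, M i l * M j l
  have hμ : ∀ i, M i 0 + M i 1 * x + M i 2 * y + M i 3 * z + M i 4 * t = q * μ i := fun i => by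
    fin_cases i <;> simp [M, μ]
  have hA : B * Bᵀ = q ^ 2 • A := by
    ext i j
    simp only [mul_apply, transpose_apply, B, A, of_apply, Matrix.smul_apply, smul_eq_mul,
      Fin.sum_univ_five, v, cons_val_zero, cons_val_one, cons_val]
    linear_combination α i * α j * hr + q * α i * hμ j + q * α j * hμ i
  have hB : B = !![q ^ 2, 0, 0, 0, 0; c + q * (k * x), 1, c * y, c * z, c * t; -(q * y), 0, q, 0, 0;
      -(q * z), 0, 0, q, 0; -(q * t), 0, 0, 0, q] := by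
    ext i j
    fin_cases i <;> fin_cases j <;> simp [B, M, α, v, pow_two, hk]
  have dB : B.det = q ^ 5 := by
    rw [hB]
    simp [det_succ_row_zero, Fin.sum_univ_succ, Fin.succAbove]
    ring
  have q0 : q ≠ 0 := hP.ne_zero
  obtain ⟨U, hU⟩ := uni 5 le_rfl A (by
      ext i j
      simp only [transpose_apply, A, of_apply, Fin.sum_univ_five]; ring) (fun u hu => by
      have e : q ^ 2 * (u ⬝ᵥ A *ᵥ u) = (u ᵥ* B) ⬝ᵥ (u ᵥ* B) := by
        rw [← smul_eq_mul, ← dotProduct_smul, ← smul_mulVec, ← hA, ← mulVec_mulVec,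
          dotProduct_mulVec, mulVec_transpose]
      have n0 : u ᵥ* B ≠ 0 := fun e' => hu (eq_zero_of_vecMul_eq_zero (by rw [dB]; positivity) e')
      have : 0 < (u ᵥ* B) ⬝ᵥ (u ᵥ* B) := lt_of_le_of_ne
        (Finset.sum_nonneg fun i _ => mul_self_nonneg _) fun e' => n0 (dotProduct_self_eq_zero.1 e'.symm)
      rw [← e] at this
      exact (mul_pos_iff_of_pos_left (by positivity)).1 this) (by
      have := congrArg det hA
      rw [det_mul, det_transpose, dB, det_smul, Fintype.card_fin] at this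
      exact mul_left_cancel₀ (show (q ^ 2) ^ 5 ≠ 0 by positivity) (by linear_combination -this))
  have hW : (Uᵀ * B) * (Uᵀ * B)ᵀ = q ^ 2 • (1 : Matrix (Fin 5) (Fin 5) ℤ) := by
    rw [transpose_mul, transpose_transpose, Matrix.mul_assoc, ← Matrix.mul_assoc B, hA,
      Matrix.smul_mul, Matrix.mul_smul, ← Matrix.mul_assoc, hU]
  have hWe : ∀ i j, (Uᵀ * B) i j = (∑ l, U l i * α l) * v j + q * ∑ l, U l i * M l j := fun i j => by
    simp only [mul_apply, transpose_apply, B, of_apply, Fin.sum_univ_five]; ring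
  generalize Uᵀ * B = W at hW hWe
  have dW : W.det ≠ 0 := fun e => by
    have := congrArg det hW
    rw [det_mul, e, zero_mul, det_smul, det_one, mul_one] at this
    exact absurd this.symm (by positivity)
  have h0 : (Wᵀ * W - q ^ 2 • (1 : Matrix (Fin 5) (Fin 5) ℤ)) *ᵥ Pi.single 0 1 = 0 := by
    refine eq_zero_of_mulVec_eq_zero dW ?_
    rw [mulVec_mulVec, Matrix.mul_sub, ← Matrix.mul_assoc, hW, Matrix.smul_mul, Matrix.mul_smul,
      Matrix.one_mul, Matrix.mul_one, sub_self, zero_mulVec]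
  have h1 : W 0 0 ^ 2 + W 1 0 ^ 2 + W 2 0 ^ 2 + W 3 0 ^ 2 + W 4 0 ^ 2 = q ^ 2 := by
    have := congrFun h0 0
    rw [mulVec_single_one] at this
    simp only [col_apply, Matrix.sub_apply, mul_apply, transpose_apply, Fin.sum_univ_five,
      Matrix.smul_apply, one_apply_eq, smul_eq_mul, Pi.zero_apply] at this
    linear_combination this
  obtain ⟨i, hi⟩ : ∃ i, W i 0 % 2 = 1 := by
    by_contra! H
    have := sq8 (W 0 0); have := sq8 (W 1 0); have := sq8 (W 2 0); have := sq8 (W 3 0)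
    have := sq8 (W 4 0); have := sq8 q
    have := H 0; have := H 1; have := H 2; have := H 3; have := H 4
    omega
  refine fin hP po (μ := ∑ l, U l i * μ l) hr ((hWe i 0).trans (by simp only [v, cons_val_zero, mul_one]; rfl))
    (hWe i 1) (hWe i 2) (hWe i 3) (hWe i 4) ?_ ?_ hi
  · simp only [Fin.sum_univ_five]
    linear_combination U 0 i * hμ 0 + U 1 i * hμ 1 + U 2 i * hμ 2 + U 3 i * hμ 3 + U 4 i * hμ 4
  · have := congrFun (congrFun hW i) i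
    simp only [mul_apply, transpose_apply, Fin.sum_univ_five, Matrix.smul_apply, one_apply_eq,
      smul_eq_mul] at this
    linear_combination this

end Cfsg.Agent.H16.K5Nei
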