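import Mathlib
import Cfsg.Agent.H16.KThreeGrp
import Cfsg.Agent.H22.Reynolds
import Cfsg.Agent.H69.RepFrob
import Cfsg.Agent.H20.BlockOrth
import Cfsg.Agent.H3.Frattini

/-! Blocks with normal abelian defect group and at most three characters. -/

namespace Cfsg.Agent.H16

open Cfsg.Agent.H22
open Cfsg.Agent.H18 (Cz mem_Cz)
open Cfsg.Agent.H17 (LamClosed)
open scoped ComplexConjugate commutatorElement

universe u

variable {p : ℕ} [Fact p.Prime] {M : Ideal AlgInt} {G : Type u} [Group G] [Finite G]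
  {B : Set (IrrCharacter G)} {A : Subgroup G} [hA : A.Normal]

/-- the members of `B` with `A` in the kernel -/
def kerPart (B : Set (IrrCharacter G)) (A : Subgroup G) : Set (IrrCharacter G) :=
  {χ | χ ∈ B ∧ ∀ a ∈ A, χ.1 a = χ.1 1}

open Classical in
theorem sum_block_mul_eq_kerPart [Fintype (IrrCharacter G)] (hM : IsPModular p M)
    (hB : LamClosed M B) (hAp : IsPGroup p A) {x r : G} (hx : ¬ p ∣ orderOf x)
    (hr : ¬ p ∣ orderOf r) : ∑ ψ with ψ ∈ B, ψ.1 x * ψ.1 r =
      Nat.card (A ⊓ Subgroup.centralizer {r} : Subgroup G) *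
        ∑ ψ with ψ ∈ kerPart B A, ψ.1 x * ψ.1 r := by
  have hp : p.Prime := Fact.out
  have := Fintype.ofFinite A
  obtain ⟨n, hn⟩ := hAp.exists_card_eq
  have h1 := H69.sum_coset_coprime (K := A) (r := r) (H23.le_normalizer' (Subgroup.mem_top r))
    (hn ▸ ((hp.coprime_iff_not_dvd.2 hr).pow_left n).symm)
    (f := fun g => ∑ ψ with ψ ∈ B, ψ.1 x * ψ.1 g)
    fun g h => Finset.sum_congr rfl fun ψ _ => by rw [H17.irr_isClassFunction ψ]
  rw [Finset.sum_eq_single_of_mem (s := H69.sfin (A ⊓ _)) 1 (H69.mem_sfin.2 (one_mem _))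
    fun c hc hc1 => ?_, one_mul, H69.sum_sfin, Finset.sum_comm] at h1
  · refine mul_left_cancel₀ (Nat.cast_ne_zero.2 (Nat.card_pos (α := A)).ne') ?_
    rw [← h1, mul_left_comm, Finset.mul_sum _ _ (Nat.card A : ℂ), Finset.sum_filter,
      Finset.sum_filter]
    refine congrArg _ (Finset.sum_congr rfl fun ψ _ => ?_)
    rw [← Finset.mul_sum]
    by_cases h2 : ψ ∈ kerPart B A
    · rw [if_pos h2, if_pos h2.1, Finset.sum_congr rfl fun (a : A) _ => H11.apply_mul_of_mem_charKer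
        ((H11.mem_charKer_irr_iff ψ.2).2 (h2.2 a a.2)) r, Finset.sum_const, Finset.card_univ,
        ← Nat.card_eq_fintype_card, nsmul_eq_mul, mul_left_comm]
    · rw [if_neg h2]
      split_ifs with h3
      · rw [H11.sum_coset_eq_zero ψ.2 A fun h => h2 ⟨h3, fun a ha =>
          H11.apply_eq_of_mem_charKer (h ha)⟩, mul_zero]
      · rfl
  · obtain ⟨h2, h3⟩ := H69.mem_sfin.1 hc
    obtain ⟨k, hk⟩ := (IsPGroup.iff_orderOf.1 hAp) ⟨c, h2⟩
    have h4 := H20.block_orth hM hB (H20.pPart_one_of_not_dvd hx) (h := (c * r)⁻¹) (y := c⁻¹)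
      ⟨r⁻¹, by rw [← mul_inv_rev, Subgroup.mem_centralizer_singleton_iff.1 h3],
        (Commute.inv_inv (Subgroup.mem_centralizer_singleton_iff.1 h3)),
        ⟨k, by rw [orderOf_inv, ← hk, Subgroup.orderOf_mk]⟩, by rwa [orderOf_inv]⟩
      fun h => hc1 (inv_eq_one.1 (isConj_one_right.1 h))
    rwa [inv_inv, H21.finsum_mem_eq_sum_filter'] at h4

theorem blockRank_le_card_kerPart (hM : IsPModular p M) (hB : LamClosed M B)
    (hAp : IsPGroup p A) : blockRank p B ≤ Nat.card (kerPart B A) := by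
  classical
  have := Fintype.ofFinite G
  have := Fintype.ofFinite (IrrCharacter G)
  let R := fun χ : IrrCharacter G => pRegularPart p χ.1
  have h1 : ∀ r : G, ∑ ψ with ψ ∈ B, ψ.1 r • R ψ ∈ Submodule.span ℂ (R '' kerPart B A) := by
    intro r
    by_cases hr : p ∣ orderOf r
    · convert Submodule.zero_mem _
      funext x
      by_cases hx : p ∣ orderOf x
      · simp [R, pRegularPart_of_dvd _ hx]
      · have := H20.weak_block_orth hM hB hx (y := r⁻¹) (by rwa [orderOf_inv])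
        rw [inv_inv, H21.finsum_mem_eq_sum_filter'] at this
        simpa [R, pRegularPart_of_not_dvd _ hx, mul_comm] using this
    · convert Submodule.smul_mem _ (Nat.card (A ⊓ Subgroup.centralizer {r} : Subgroup G) : ℂ)
        (Submodule.sum_mem _ (t := Finset.univ.filter (· ∈ kerPart B A)) fun ψ hψ =>
          Submodule.smul_mem _ (ψ.1 r) (Submodule.subset_span
            (Set.mem_image_of_mem R (Finset.mem_filter.1 hψ).2)))
      funext x
      by_cases hx : p ∣ orderOf x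
      · simp [R, pRegularPart_of_dvd _ hx]
      · simpa [R, pRegularPart_of_not_dvd _ hx, mul_comm] using
          sum_block_mul_eq_kerPart hM hB hAp hx hr
  have h2 : Submodule.span ℂ (R '' B) ≤ Submodule.span ℂ (R '' kerPart B A) := by
    refine Submodule.span_le.2 ?_
    rintro _ ⟨χ, hχ, rfl⟩
    refine (congrArg (· ∈ _) ?_).mp (Submodule.smul_mem _ (Nat.card G : ℂ)⁻¹ (Submodule.sum_mem _
      (t := Finset.univ) fun r _ => Submodule.smul_mem _ (conj (χ.1 r)) (h1 r)))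
    simp only [Finset.smul_sum, smul_smul]
    rw [Finset.sum_comm, Finset.sum_eq_single_of_mem χ (by simpa using hχ) fun ψ _ hψ => ?_]
    · have := H11.classInner_irr_self χ.2
      rw [← Finset.sum_smul, ← Finset.mul_sum, Finset.sum_congr rfl fun r _ => mul_comm _ _,
        show _ * _ = (1 : ℂ) from this, one_smul]
    · have := H11.classInner_irr_of_ne ψ.2 χ.2 fun e => hψ (Subtype.ext e)
      rw [← Finset.sum_smul, ← Finset.mul_sum, Finset.sum_congr rfl fun r _ => mul_comm _ _,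
        show _ * _ = (0 : ℂ) from this, zero_smul]
  refine (Submodule.finrank_mono h2).trans ((finrank_span_le_card _).trans ?_)
  rw [Set.toFinset_card, ← Nat.card_eq_fintype_card]
  exact Nat.card_image_le (Set.toFinite _)

omit [Finite G] [Fact p.Prime] hA in
theorem subgroupOf_Cz_sup_Cz : A.subgroupOf (Cz A) ⊔ Cz (A.subgroupOf (Cz A)) = ⊤ :=
  eq_top_iff.2 fun x _ => Subgroup.mem_sup_right
    (mem_Cz.2 fun a ha => Subtype.ext (mem_Cz.1 x.2 a ha))

theorem kerPart_above (hM : IsPModular p M) {b : Set (IrrCharacter (Cz A))} (hb : IsPBlock M b)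
    (hbd : IsDefectGroup p M b (A.subgroupOf (Cz A))) (hab : A ≤ Cz A)
    (hst : ∀ g, g ∈ stab (Cz A) b) : ∃ θ : IrrCharacter (Cz A), (∀ g, cjIrr (Cz A) g θ = θ) ∧
      kerPart (above (Cz A) b) A = above (Cz A) {θ} := by
  have := Fintype.ofFinite (Cz A)
  obtain ⟨θ, h1, h2, -, h3⟩ := existsUnique_canonical hM subgroupOf_Cz_sup_Cz hb hbd
  have hinv : ∀ g, cjIrr (Cz A) g θ = θ := fun g => h3 _
    ((show cjSet (Cz A) g b = b from hst g) ▸ (cjIrr_mem_cjSet _).2 h1) fun x hx => by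
      rw [cjIrr_apply, cjIrr_apply_one]
      exact h2 _ (hA.conj_mem' _ hx g)
  refine ⟨θ, hinv, Set.ext fun χ => ⟨fun ⟨⟨ψ, hψ, ho⟩, h4⟩ => ⟨ψ, h3 ψ hψ fun x hx => ?_, ho⟩,
    fun h => ⟨⟨θ, h1, mem_above_singleton.1 h⟩, fun a ha => ?_⟩⟩⟩
  · have h5 := H11.isCharacter_restrict (H11.irr_isCharacter χ) (Cz A)
    exact H11.apply_eq_of_mem_charKer (H11.charKer_le_of_constituent h5 ψ.2
      ((over_iff _ _ _).1 ho) ((H11.mem_charKer_iff h5).2 (h4 x hx)))
  · have h4 := res_eq_smul_of_invariant _ (mem_above_singleton.1 h) hinv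
    exact (h4 ⟨a, hab ha⟩).trans ((congrArg _ (h2 _ ha)).trans (h4 1).symm)

theorem three_relations (hM : IsPModular p M) (hB : LamClosed M B) (hAp : IsPGroup p A)
    {χ₁ χ₂ χ₃ : IrrCharacter G} (h12 : χ₁ ≠ χ₂) (h13 : χ₁ ≠ χ₃) (h23 : χ₂ ≠ χ₃)
    (hB3 : B = {χ₁, χ₂, χ₃}) (h1 : ∀ a ∈ A, χ₁.1 a = χ₁.1 1) (h2 : ∀ a ∈ A, χ₂.1 a = χ₂.1 1)
    (h3 : ¬ ∀ a ∈ A, χ₃.1 a = χ₃.1 1) : (∀ u ∈ A, ∀ v ∈ A, u ≠ 1 → v ≠ 1 → IsConj u v) ∧
      (Nat.card A - 1) * (charDegree χ₁.1 ^ 2 + charDegree χ₂.1 ^ 2) = charDegree χ₃.1 ^ 2 := by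
  classical
  have := Fintype.ofFinite A
  have hP : ∀ a ∈ A, IsPPart p a a := fun a ha => H20.pPart_self Fact.out (by
    obtain ⟨k, hk⟩ := (IsPGroup.iff_orderOf.1 hAp) ⟨a, ha⟩
    exact ⟨k, by rw [← hk, Subgroup.orderOf_mk]⟩)
  set s := charDegree χ₁.1 ^ 2 + charDegree χ₂.1 ^ 2 with hs
  have key : ∀ u ∈ A, ∀ v ∈ A, ¬ IsConj u v → (s : ℂ) + χ₃.1 u * χ₃.1 v⁻¹ = 0 := by
    intro u hu v hv huv
    have := H20.block_orth hM hB (hP u hu) (hP v hv) huv
    rw [hB3, finsum_mem_insert _ (by simp [h12, h13]) (Set.toFinite _), finsum_mem_pair h23,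
      h1 u hu, h2 u hu, h1 _ (inv_mem hv), h2 _ (inv_mem hv)] at this
    rw [← this, hs]
    push_cast
    simp only [H21.cast_deg]
    ring
  have hd : (charDegree χ₃.1 : ℂ) ≠ 0 := Nat.cast_ne_zero.2 (H21.deg_ne_zero χ₃)
  have h4 : ∀ u ∈ A, u ≠ 1 → χ₃.1 u * charDegree χ₃.1 = -s := fun u hu hu1 => by
    have := key u hu 1 (one_mem A) fun h => hu1 (isConj_one_left.1 h)
    rw [inv_one, ← H21.cast_deg] at this
    linear_combination this
  refine ⟨fun u hu v hv hu1 hv1 => by_contra fun h => ?_, ?_⟩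
  · have h5 : ((s * charDegree χ₃.1 ^ 2 + s ^ 2 : ℕ) : ℂ) = 0 := by
      push_cast
      linear_combination (charDegree χ₃.1 : ℂ) ^ 2 * key u hu v hv h -
        χ₃.1 v⁻¹ * charDegree χ₃.1 * h4 u hu hu1 + s * h4 _ (inv_mem hv) (inv_ne_one.2 hv1)
    have := H21.deg_pos χ₁
    exact absurd (Nat.cast_eq_zero.1 h5) (by positivity)
  · have h5 := H11.sum_restrict_eq_zero χ₃.2 A fun h => h3 fun a ha =>
      H11.apply_eq_of_mem_charKer (h ha)
    have h6 := congrArg (· * (charDegree χ₃.1 : ℂ)) h5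
    simp only [Finset.sum_mul, zero_mul] at h6
    rw [← Finset.add_sum_erase _ _ (Finset.mem_univ 1), Finset.sum_congr rfl fun (a : A) ha =>
      h4 a a.2 fun h => Finset.ne_of_mem_erase ha (Subtype.ext h), Finset.sum_const,
      Finset.card_erase_of_mem (Finset.mem_univ _), Finset.card_univ, ← Nat.card_eq_fintype_card,
      Subgroup.coe_one, ← H21.cast_deg, nsmul_eq_mul] at h6
    refine Nat.cast_injective (R := ℂ) ?_
    rw [Nat.cast_mul, Nat.cast_pow]
    linear_combination -h6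

theorem card_le_three_of_stable (hM : IsPModular p M) {b : Set (IrrCharacter (Cz A))}
    (hb : IsPBlock M b) (hbd : IsDefectGroup p M b (A.subgroupOf (Cz A))) (hab : A ≤ Cz A)
    (hst : ∀ g, g ∈ stab (Cz A) b) (hcop : ¬ p ∣ (Cz A).index)
    (hB : IsPBlock M (above (Cz A) b)) (hD : IsDefectGroup p M (above (Cz A) b) A)
    (h3 : Nat.card (above (Cz A) b) ≤ 3) : Nat.card A ≤ 3 := by
  classical
  have := Fintype.ofFinite (IrrCharacter G)
  have := Fintype.ofFinite A
  obtain ⟨θ, hinv, hθ⟩ := kerPart_above hM hb hbd hab hst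
  set B := above (Cz A) b
  have hL := H17.lamClosed_of_isPBlock hM.2.1 hB
  have hAp := H17.dg_isPGroup hD
  have h4 := H17.dg_card hM hB hD
  by_cases h5 : blockRank p B = 1
  · rw [h4, pow_defect_eq_card_of_rank_one hM hB h5 (by omega)]; exact h3
  by_cases hd : blockDefect p B = 0
  · rw [h4, hd]; norm_num
  have h6 := H21.blockRank_lt_card hM hB hd
  have h7 := H21.blockRank_pos hM hB
  have h8 := blockRank_le_card_kerPart hM hL hAp
  have h9 : kerPart B A ⊂ B := by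
    refine ⟨fun _ h => h.1, fun h => ?_⟩
    obtain ⟨a, ha, ha1⟩ := (Subgroup.bot_or_exists_ne_one A).resolve_left
      fun h => hd ((H17.dg_eq_bot_iff hM hB hD).1 h)
    obtain ⟨k, hk⟩ := (IsPGroup.iff_orderOf.1 hAp) ⟨a, ha⟩
    have h10 := H20.block_orth hM hL (H20.pPart_self Fact.out ⟨0, orderOf_one⟩)
      (H20.pPart_self Fact.out ⟨k, (Subgroup.orderOf_mk a ha).symm.trans hk⟩)
      fun h => ha1 (isConj_one_right.1 h)
    rw [finsum_mem_congr rfl fun χ hχ => by rw [(h hχ).2 _ (inv_mem ha), ← H21.cast_deg,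
      ← Nat.cast_mul], H21.finsum_mem_eq_sum_filter', ← Nat.cast_sum, Nat.cast_eq_zero,
      Finset.sum_eq_zero_iff] at h10
    obtain ⟨χ, hχ⟩ := H21.block_nonempty hM.2.1 hB
    exact H21.deg_ne_zero χ (mul_self_eq_zero.1 (h10 χ (by simpa using hχ)))
  have h10 := Set.ncard_lt_ncard h9
  simp only [Nat.card_coe_set_eq] at h3 h6 h8
  obtain ⟨χ₁, χ₂, h12, h11⟩ := Set.ncard_eq_two.1 (show (kerPart B A).ncard = 2 by omega)
  obtain ⟨χ₃, h13, h14⟩ := Set.exists_of_ssubset h9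
  have h15 : χ₁ ∈ kerPart B A := by simp [h11]
  have h16 : χ₂ ∈ kerPart B A := by simp [h11]
  have h17 : χ₁ ≠ χ₃ := fun h => h14 (h ▸ h15)
  have h18 : χ₂ ≠ χ₃ := fun h => h14 (h ▸ h16)
  obtain ⟨h19, h20⟩ := three_relations hM hL hAp h12 h17 h18 (Set.eq_of_subset_of_ncard_le (by
    rintro _ (rfl | rfl | rfl)
    exacts [h15.1, h16.1, h13]) (h3.trans (Set.ncard_eq_three.2 ⟨_, _, _, h12, h17, h18, rfl⟩).ge)).symm
    h15.2 h16.2 fun h => h14 ⟨h13, h⟩
  have h21 := sum_deg_sq_above hinv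
  rw [← hθ, show Finset.univ.filter (· ∈ kerPart B A) = {χ₁, χ₂} by ext; simp [h11],
    Finset.sum_pair h12] at h21
  obtain ⟨a, ha, -⟩ := exists_deg_eq_mul_dvd_of_over (mem_above_singleton.1 (hθ ▸ h15))
  obtain ⟨c, hc, -⟩ := exists_deg_eq_mul_dvd_of_over (mem_above_singleton.1 (hθ ▸ h16))
  have h22 : (Cz A).index = a ^ 2 + c ^ 2 := by
    refine mul_right_cancel₀ (pow_ne_zero 2 (H21.deg_ne_zero θ)) ?_
    rw [← h21, ha, hc]; ring
  obtain ⟨e, he⟩ : charDegree θ.1 ∣ charDegree χ₃.1 :=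
    (Nat.pow_dvd_pow_iff two_ne_zero).1 (by
      rw [← h20, h21]; exact (dvd_mul_left _ _).mul_left _)
  refine card_le_three_of_trans hAp hcop h19 hinv (by rw [← hθ, Nat.card_coe_set_eq]; omega)
    (fun h => H21.deg_ne_zero χ₁ (by rw [ha, h, zero_mul]))
    (fun h => H21.deg_ne_zero χ₂ (by rw [hc, h, zero_mul])) h22 (c := e) ?_
  refine mul_right_cancel₀ (pow_ne_zero 2 (H21.deg_ne_zero θ)) ?_
  rw [← mul_pow, mul_comm e, ← he, ← h20, h21, h22, mul_assoc]

omit hA in
theorem card_le_three_aux (hM : IsPModular p M) (n : ℕ) : ∀ {G : Type u} [Group G] [Finite G]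
    {B : Set (IrrCharacter G)} {A : Subgroup G} [A.Normal], Nat.card G = n → IsPBlock M B →
    IsDefectGroup p M B A → A ≤ Cz A → Nat.card B ≤ 3 → Nat.card A ≤ 3 := by
  induction n using Nat.strong_induction_on with
  | _ n ih =>
  intro G _ _ B A _ hn hB hD hab h3
  have := Fintype.ofFinite G
  obtain ⟨b, hb, rfl, hbd, h4⟩ := exists_root_of_normal hM hB hD hab le_rfl
  by_cases hT : stab (Cz A) b = ⊤
  · exact card_le_three_of_stable hM hb hbd hab (fun g => hT ▸ Subgroup.mem_top g)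
      (by rwa [hT, Subgroup.relIndex_top_right] at h4) hB hD h3
  obtain ⟨B', hB', -, h5, h6⟩ := (covers_above hM.2.1 hb).exists_fr hM.2.1 hb (le_stab _ b)
    le_rfl hB
  obtain ⟨D, hD'⟩ := H17.exists_dg (p := p) hM.2.1 hB'
  have h7 := H17.dg_eq_of_normal hM hB hD (h6 ▸ h5.isDefectGroup hM hB' hD')
  obtain rfl : D = A.subgroupOf (stab (Cz A) b) :=
    (Subgroup.comap_map_eq_self_of_injective Subtype.val_injective D).symm.trans
      (congrArg (Subgroup.comap _) h7)
  rw [← Nat.card_congr (Subgroup.subgroupOfEquivOfLe (hab.trans (le_stab _ b))).toEquiv]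
  refine ih _ ?_ rfl hB' hD' (fun x hx => mem_Cz.2 fun a ha => Subtype.ext
    (mem_Cz.1 (hab hx) a ha)) (by rwa [← h5.card_indSet, ← h6])
  exact hn ▸ lt_of_le_of_ne (Subgroup.card_le_card_group _)
    fun h => hT (Subgroup.eq_top_of_card_eq _ h)

/-- a block with normal abelian defect group and at most three characters -/
theorem card_le_three_of_normal (hM : IsPModular p M) (hB : IsPBlock M B)
    (hD : IsDefectGroup p M B A) (hab : A ≤ Cz A) (h3 : Nat.card B ≤ 3) : Nat.card A ≤ 3 :=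
  card_le_three_aux hM _ rfl hB hD hab h3

theorem card_le_three_of_height_zero (hM : IsPModular p M) (hB : IsPBlock M B)
    (hD : IsDefectGroup p M B A)
    (h3 : Nat.card {χ : IrrCharacter G // χ ∈ B ∧ blockHeight p B χ.1 = 0} ≤ 3) :
    Nat.card A ≤ 3 := by
  have hAp := H17.dg_isPGroup hD
  let f := QuotientGroup.mk' ⁅A, A⁆
  have hf : Function.Surjective f := QuotientGroup.mk'_surjective _
  have hk : f.ker = ⁅A, A⁆ := QuotientGroup.ker_mk' _
  have hle : ⁅A, A⁆ ≤ A := Subgroup.commutator_le_left _ _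
  obtain ⟨b, hb, h4, h5⟩ := exists_dominated_dg hf hM (hAp.to_le (hk.trans_le hle)) hB hD
  have : (A.map f).Normal := hA.map f hf
  have h6 : ∀ x y : A, ⁅(x : G), (y : G)⁆ ∈ f.ker := fun x y =>
    hk.ge (Subgroup.commutator_mem_commutator x.2 y.2)
  have h0 : ∀ ψ ∈ b, blockHeight p B (infl hf ψ).1 = 0 := fun ψ hψ => by
    have := Fintype.ofFinite A
    obtain ⟨ζ, hζ⟩ := exists_under A (infl hf ψ)
    have h8 := H11.isCharacter_restrict (H11.irr_isCharacter (infl hf ψ)) A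
    have h9 := H11.irr_apply_one_of_commutator_le ζ.2 (le_trans (fun x hx =>
      (H11.mem_charKer_iff h8).2 (infl_apply_of_mem_ker hf ψ (by
        rw [hk, ← Subgroup.map_subtype_commutator]; exact ⟨x, hx, rfl⟩)))
      (H11.charKer_le_of_constituent h8 ζ.2 ((over_iff _ _ _).1 hζ)))
    rw [height_of_normal_dg hM hB hD (h4 hψ) hζ, H21.nu, H21.charDegree_eq (n := 1) (by simpa),
      Nat.factorization_one, Finsupp.zero_apply]
  have h7 := card_le_three_of_normal hM hb h5 (by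
    rintro _ ⟨x, hx, rfl⟩
    refine mem_Cz.2 ?_
    rintro _ ⟨y, hy, rfl⟩
    rw [← commutatorElement_eq_one_iff_mul_comm, ← map_commutatorElement]
    exact h6 ⟨y, hy⟩ ⟨x, hx⟩) (le_trans (Nat.card_le_card_of_injective
      (Set.MapsTo.restrict (infl hf) b {χ | χ ∈ B ∧ blockHeight p B χ.1 = 0}
        fun ψ hψ => ⟨h4 hψ, h0 ψ hψ⟩)
      ((Set.MapsTo.restrict_inj _).2 (infl_injective hf).injOn)) h3)
  focus
    have : IsCyclic (A.map f) := by
      have h8 := Nat.card_pos (α := A.map f)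
      interval_cases h : Nat.card (A.map f)
      · exact isCyclic_of_card_dvd_prime (p := 2) (h ▸ one_dvd 2)
      · exact isCyclic_of_prime_card h
      · exact isCyclic_of_prime_card h
    have h8 : (f.subgroupMap A).ker = commutator A := by
      rw [Subgroup.ker_subgroupMap, hk, ← Subgroup.map_subtype_commutator, Subgroup.subgroupOf,
        Subgroup.comap_map_eq_self_of_injective Subtype.val_injective]
    have : IsCyclic A := H3.isCyclic_of_isCyclic_quotient_frattini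
      (h8.trans_le (H3.commutator_le_frattini hAp))
      ((QuotientGroup.quotientKerEquivOfSurjective _ (f.subgroupMap_surjective A)).isCyclic.2 this)
    rwa [← Nat.card_congr (Equiv.ofBijective _ ⟨(f.subgroupMap A).ker_eq_bot_iff.1
      (h8.trans (commutator_eq_bot _)), f.subgroupMap_surjective A⟩)] at h7

end Cfsg.Agent.H16
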