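import Cfsg.Agent.H16.KnC2dF

/-!
# Case II is impossible
-/

set_option autoImplicit false

namespace Cfsg.Agent.H16.KnC2d

open Equiv Subgroup Cfsg.Agent.H63 Cfsg.Agent.H17.Kn
open Cfsg.Agent.H89.Rec (Syl)

universe u

variable {G : Type u} [Group G] [Finite G]

theorem syl_conj {R K X : Subgroup G} (h : Syl R K) (hX : IsPGroup 2 X) (le : X ≤ K) :
    ∃ k ∈ K, ∀ x ∈ X, k * x * k⁻¹ ∈ R := by
  obtain ⟨P, hP⟩ := (hX.comap_subtype (K := K)).exists_le_sylow
  obtain ⟨k, hk⟩ := MulAction.exists_smul_eq K P h.toSylow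
  refine ⟨k, k.2, fun x hx => ?_⟩
  have : k * ⟨x, le hx⟩ * k⁻¹ ∈ (h.toSylow : Subgroup K) := by
    rw [← hk]
    exact Subgroup.smul_mem_pointwise_smul _ (MulAut.conj k) _ (hP hx)
  exact this

/-- the preimage under a conjugation -/
def pb (h : G) (X : Subgroup G) : Subgroup G := X.comap (MulAut.conj h).toMonoidHom

omit [Finite G] in
theorem pb_two {X : Subgroup G} (h : G) (hX : IsPGroup 2 X) : IsPGroup 2 (pb h X) :=
  hX.comap_of_injective _ (MulAut.conj h).injective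

theorem card_le_conj {X Y : Subgroup G} (h : G) (k : ∀ x ∈ X, h * x * h⁻¹ ∈ Y) :
    Nat.card X ≤ Nat.card Y :=
  Nat.card_le_card_of_injective (fun x : X => (⟨h * x * h⁻¹, k x x.2⟩ : Y)) fun a b e =>
    Subtype.ext (by simpa using e)

theorem onto_conj {X Y : Subgroup G} (h : G) (k : ∀ x ∈ X, h * x * h⁻¹ ∈ Y)
    (c : Nat.card Y ≤ Nat.card X) : ∀ y ∈ Y, h⁻¹ * y * h ∈ X := fun y hy => by
  have e : X = pb h Y := eq_of_le_of_card_ge k ((card_le_conj h fun _ hx => hx).trans c)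
  rw [e]
  change h * (h⁻¹ * y * h) * h⁻¹ ∈ Y
  simpa [mul_assoc] using hy

theorem card_two {A K : Subgroup G} (h : ∀ x ∈ A, ∀ y ∈ A, x ∉ K → y ∉ K → x * y⁻¹ ∈ K) :
    Nat.card A ≤ 2 * Nat.card (A ⊓ K : Subgroup G) := by
  have e := (K.subgroupOf A).card_mul_index
  rw [← inf_subgroupOf_right, Nat.card_congr (subgroupOfEquivOfLe inf_le_right).toEquiv,
    inf_subgroupOf_right, inf_comm] at e
  change _ * K.relIndex A = _ at e
  by_cases hle : A ≤ K
  · rw [relIndex_eq_one.mpr hle] at e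
    omega
  · obtain ⟨s, hs, hsK⟩ := SetLike.not_le_iff_exists.mp hle
    have : K.relIndex A = 2 := by
      refine relIndex_eq_two_iff_exists_notMem_and.mpr ⟨s⁻¹, A.inv_mem hs,
        fun h' => hsK (by simpa using K.inv_mem h'), fun g hg => ?_⟩
      by_cases hg' : g ∈ K
      · exact Or.inr hg'
      · exact Or.inl (h g hg s hs hg' hsK)
    rw [this] at e
    omega

omit [Finite G] in
theorem cc {a b : G} (g : G) (h : Commute a b) : Commute (g * a * g⁻¹) (g * b * g⁻¹) :=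
  h.map (MulAut.conj g)

omit [Finite G] in
theorem cc' {a b : G} (g : G) (h : Commute (g * a * g⁻¹) (g * b * g⁻¹)) : Commute a b := by
  simpa [mul_assoc] using cc g⁻¹ h

section
variable (hB : Base.{u}) {J : N2 → G} {φ : G → Perm H11.A16.Ω} {t : G} (h : Tg J φ t)
  (tt : t * t = 1)
include hB

omit [Finite G] in
theorem U1_le : U1 ≤ T0 := inf_le_left

omit [Finite G] hB in
theorem z_mem : z2 ∈ T0 := f4.2.2.1.1

omit [Finite G] hB in
theorem v_mem : v0 ∈ T0 := f4.2.2.2.1.1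

omit [Finite G] hB in
theorem v1_mem : v1 ∈ T0 := mul_mem v_mem z_mem

include h

omit [Finite G] hB in
theorem tJ {u : N2} (hu : u ∈ T0) : t * J u = J (gm u) * t := by
  rw [← h.act u hu, inv_mul_cancel_right]

omit [Finite G] hB in
theorem fix_comm {u : N2} (hu : u ∈ T0) (e : gm u = u) : Commute (J u) t := by
  have := tJ h hu
  rw [e] at this
  exact this.symm

omit [Finite G] in
theorem outer {u w : N2} (hu : u ∈ T0) (hw : w ∈ T0) :
    J u * t * J (xe 1 4) * (J u * t)⁻¹ ≠ J w * J (xe 1 4) * (J w)⁻¹ := fun e => by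
  obtain ⟨-, -, -, -, q1, q2, q3, -, -, -, -, -, q4, -⟩ := f4
  have m1 : xe 1 4 ∈ T0 := hB.m2.le.2.1 q1
  have m2 : xe 0 3 ∈ T0 := q4 ▸ hB.m3.gma.mem _ m1
  have k : J u * t * J (xe 1 4) * (J u * t)⁻¹ = J u * J (xe 0 3) * (J u)⁻¹ := by
    rw [← q4, ← h.act _ m1]; group
  rw [k, h.em.self hu m2, h.em.self hw m1] at e
  have e2 := h.em.inj _ (mul_mem (mul_mem hu m2) (inv_mem hu)) _
    (mul_mem (mul_mem hw m1) (inv_mem hw)) e
  have := ((hB.m2.nrm (w⁻¹ * u)).2.2.2.1 (mul_mem (inv_mem hw) hu).1).2 _ q2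
  rw [show w⁻¹ * u * xe 0 3 * (w⁻¹ * u)⁻¹ = w⁻¹ * (u * xe 0 3 * u⁻¹) * w by group, e2] at this
  exact q3 (by simpa [mul_assoc] using this)

omit [Finite G] in
theorem t_not : t ∉ im J T0 := fun k => by
  obtain ⟨w, hw, e⟩ := h.em.mem.1 k
  exact outer hB h (one_mem _) hw (by rw [h.em.one, one_mul, e])

include tt

omit [Finite G] in
theorem memS {s : G} : s ∈ TT J t ↔ ∃ u ∈ T0, s = J u ∨ s = J u * t := by
  have g := hB.m3.gma.mem
  let K : Subgroup G :=
    { carrier := {s | ∃ u ∈ T0, s = J u ∨ s = J u * t}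
      one_mem' := ⟨1, one_mem _, Or.inl h.em.one.symm⟩
      mul_mem' := by
        rintro _ _ ⟨u, hu, rfl | rfl⟩ ⟨w, hw, rfl | rfl⟩
        · exact ⟨_, mul_mem hu hw, Or.inl (h.em.mul u hu w hw).symm⟩
        · exact ⟨_, mul_mem hu hw, Or.inr (by rw [h.em.mul u hu w hw, mul_assoc])⟩
        · exact ⟨_, mul_mem hu (g w hw), Or.inr (by
            rw [h.em.mul u hu _ (g w hw), mul_assoc, tJ h hw, mul_assoc])⟩
        · exact ⟨_, mul_mem hu (g w hw), Or.inl (by
            rw [h.em.mul u hu _ (g w hw), mul_assoc, ← mul_assoc t, tJ h hw, mul_assoc, tt,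
              mul_one])⟩
      inv_mem' := by
        rintro _ ⟨u, hu, rfl | rfl⟩
        · exact ⟨_, inv_mem hu, Or.inl (h.em.inv hu).symm⟩
        · exact ⟨_, g _ (inv_mem hu), Or.inr (by
            rw [← tJ h (inv_mem hu), h.em.inv hu, mul_inv_rev, inv_eq_of_mul_eq_one_right tt])⟩ }
  refine ⟨fun k => (sup_le (im_le fun u hu => ⟨u, hu, Or.inl rfl⟩) (zpowers_le.2
    ⟨1, one_mem _, Or.inr (by rw [h.em.one, one_mul])⟩) : TT J t ≤ K) k, ?_⟩
  rintro ⟨u, hu, rfl | rfl⟩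
  · exact mem_sup_left (mem_im hu)
  · exact mul_mem (mem_sup_left (mem_im hu)) (mem_sup_right (mem_zpowers t))

omit [Finite G] in
theorem z_cen {s : G} (hs : s ∈ TT J t) : Commute s (J z2) := by
  have k : ∀ u ∈ T0, Commute (J u) (J z2) := fun u hu => by
    rw [Commute, SemiconjBy, ← h.em.mul u hu _ z_mem, ← h.em.mul _ z_mem u hu,
      hB.m2.ab.2.2.2.2.2.2 u]
  obtain ⟨u, hu, rfl | rfl⟩ := (memS hB h tt).1 hs
  · exact k u hu
  · exact (k u hu).mul_left (fix_comm h z_mem f4.2.2.2.2.2.2.2.2.2.1).symm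

omit [Finite G] in
theorem cenS {s : G} (hs : s ∈ TT J t) (c : ∀ a ∈ TT J t, Commute s a) : s = 1 ∨ s = J z2 := by
  have le : QQ ≤ T0 := hB.m2.le.2.1
  obtain ⟨u, hu, rfl | rfl⟩ := (memS hB h tt).1 hs
  · rcases hB.m3.cQQ u fun a ha => h.em.inj _ (mul_mem hu (le ha)) _ (mul_mem (le ha) hu) (by
      rw [h.em.mul _ hu _ (le ha), h.em.mul _ (le ha) _ hu]
      exact c _ (mem_sup_left (mem_im (le ha)))) with rfl | rfl
    · exact Or.inl h.em.one
    · exact Or.inr rfl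
  · refine absurd ?_ (outer hB h hu (one_mem _))
    rw [c _ (mem_sup_left (mem_im (le f4.2.2.2.2.1))), h.em.one]
    group

omit [Finite G] in
theorem out_inv {s : G} (hs : s ∈ TT J t) (ss : s * s = 1) (n : s ∉ im J T0) :
    ∃ c ∈ T0, s = J c * t * (J c)⁻¹ := by
  obtain ⟨y, hy, rfl | rfl⟩ := (memS hB h tt).1 hs
  · exact absurd (mem_im hy) n
  · have g := hB.m3.gma.mem
    rw [mul_assoc, ← mul_assoc t, tJ h hy, mul_assoc, tt, mul_one, ← h.em.mul _ hy _ (g y hy),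
      ← h.em.one] at ss
    obtain ⟨c, hc, rfl⟩ := hB.m3.gmc y hy (h.em.inj _ (mul_mem hy (g y hy)) _ (one_mem _) ss)
    refine ⟨c, hc, ?_⟩
    rw [h.em.mul _ hc _ (inv_mem (g c hc)), h.em.inv (g c hc), ← h.act c hc]
    group

omit [Finite G] in
theorem memC {c : G} (hc : c ∈ TT J t) (k : Commute c t) :
    ∃ a b c' e, fx a b c' e ∈ T0 ∧ gm (fx a b c' e) = fx a b c' e ∧
      ∃ s, (s = 1 ∨ s = t) ∧ c = J (fx a b c' e) * s := by
  obtain ⟨u, hu, e⟩ := (memS hB h tt).1 hc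
  have k2 : Commute (J u) t := by
    rcases e with rfl | rfl
    · exact k
    · simpa using k.mul_left (Commute.refl t).inv_left
  have k3 : gm u = u := h.em.inj _ (hB.m3.gma.mem u hu) _ hu (by
    rw [← h.act u hu, ← k2.eq, mul_inv_cancel_right])
  obtain ⟨a, b, c', e', r⟩ := (hB.m3.gmf u hu).1 k3
  change u = fx a b c' e' at r
  subst r
  refine ⟨a, b, c', e', hu, k3, ?_⟩
  rcases e with e | e
  · exact ⟨1, Or.inl rfl, by rw [mul_one, e]⟩
  · exact ⟨t, Or.inr rfl, e⟩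

theorem cardC : Nat.card (TT J t ⊓ C1[t] : Subgroup G) ≤ 32 := by
  let f : ZMod 2 × ZMod 2 × ZMod 2 × ZMod 2 × Bool → G := fun p =>
    J (fx p.1 p.2.1 p.2.2.1 p.2.2.2.1) * if p.2.2.2.2 then t else 1
  have k : ((TT J t ⊓ C1[t] : Subgroup G) : Set G) ⊆ Set.range f := fun c hc => by
    obtain ⟨a, b, c', e, -, -, s, hs, rfl⟩ :=
      memC hB h tt hc.1 (mem_centralizer_singleton_iff.1 hc.2)
    rcases hs with rfl | rfl
    · exact ⟨(a, b, c', e, false), rfl⟩
    · exact ⟨(a, b, c', e, true), rfl⟩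
  refine (Nat.card_mono (Set.toFinite _) k).trans ((Finite.card_range_le f).trans ?_)
  simp

omit [Finite G] in
theorem commC {c c' : G} (hc : c ∈ TT J t) (k : Commute c t) (hc' : c' ∈ TT J t)
    (k' : Commute c' t) : c * c' = c' * c ∨ c * c' = c' * c * J v1 := by
  obtain ⟨a, b, d, e, hu, fu, s, hs, rfl⟩ := memC hB h tt hc k
  obtain ⟨a', b', d', e', hu', fu', s', hs', rfl⟩ := memC hB h tt hc' k'
  have r := f3 a b d e a' b' d' e'
  generalize fx a b d e = u at hu fu r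
  generalize fx a' b' d' e' = u' at hu' fu' r
  have cm : ∀ {s : G}, s = 1 ∨ s = t → ∀ {x : G}, Commute x t → Commute x s := by
    rintro _ (rfl | rfl) x hx
    · exact Commute.one_right x
    · exact hx
  have ss : Commute s s' := cm hs' (cm hs (Commute.refl t)).symm
  have e1 : J u * s * (J u' * s') = J (u * u') * (s * s') := by
    rw [h.em.mul _ hu _ hu', mul_assoc, ← mul_assoc s, ← (cm hs (fix_comm h hu' fu')).eq]
    group
  have e2 : J u' * s' * (J u * s) = J (u' * u) * (s * s') := by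
    rw [h.em.mul _ hu' _ hu, mul_assoc, ← mul_assoc s', ← (cm hs' (fix_comm h hu fu)).eq, ss.eq]
    group
  have v := fix_comm h v1_mem f4.2.2.2.2.2.2.2.2.2.2.2.1
  rw [e1, e2]
  rcases r with r | r
  · exact Or.inl (by rw [r])
  · refine Or.inr ?_
    rw [r, h.em.mul _ (mul_mem hu' hu) _ v1_mem, mul_assoc, mul_assoc (J _) (s * s'),
      ((cm hs v).mul_right (cm hs' v)).eq]

omit [Finite G] in
theorem v_cls {s : G} (hs : s ∈ TT J t) : s * J v0 = J v0 * s ∨ s * J v0 = J v1 * s := by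
  have k : ∀ u ∈ T0, J u * J v0 = J v0 * J u ∨ J u * J v0 = J v1 * J u := fun u hu => by
    rw [← h.em.mul _ hu _ v_mem, ← h.em.mul _ v_mem _ hu, ← h.em.mul _ v1_mem _ hu]
    have := f1 (en u 0 1) (en u 0 2) (en u 0 3) (en u 0 4) (en u 1 2) (en u 1 3) (en u 1 4)
      (en u 2 3) (en u 2 4) (en u 3 4)
    rw [← ut_eq, ← hB.m1.nf u hu] at this
    exact this.imp (congrArg J) (congrArg J)
  obtain ⟨u, hu, rfl | rfl⟩ := (memS hB h tt).1 hs
  · exact k u hu
  · rw [mul_assoc, ← (fix_comm h v_mem f4.2.2.2.2.2.2.2.2.2.2.1).eq, ← mul_assoc, ← mul_assoc,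
      ← mul_assoc]
    exact (k u hu).imp (congrArg (· * t)) (congrArg (· * t))

theorem sylV (hS : Syl (TT J t) ⊤) (hC : Cc J) : Syl (TT J t ⊓ C1[J v0]) C1[J v0] := by
  by_contra n
  obtain ⟨S', h1, h2, h3, x, hx, nx, -⟩ :=
    hB.gen.up _ _ (hS.grp.to_le inf_le_left) inf_le_right n
  have c1 : Nat.card (TT J t) ≤ 2 * Nat.card (TT J t ⊓ C1[J v0] : Subgroup G) :=
    card_two fun a ha b hb na nb => by
      rw [mem_centralizer_singleton_iff] at na nb ⊢
      have k1 := (v_cls hB h tt ha).resolve_left na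
      have k2 := (v_cls hB h tt hb).resolve_left nb
      have k3 := (v_cls hB h tt (mul_mem ha (inv_mem hb)))
      refine k3.resolve_right fun k => f5.2.2.2.2.1 ?_
      have k4 : J v1 = J v0 * J z2 := h.em.mul _ v_mem _ z_mem
      have k5 := (z_cen hB h tt ha).eq
      have k6 := (z_cen hB h tt hb).eq
      have k7 : J z2 * J z2 = 1 := by
        rw [← h.em.mul _ z_mem _ z_mem, f5.2.2.2.2.2.2.2.1, h.em.one]
      have k8 : b⁻¹ * J v0 = J v1 * b⁻¹ := by
        calc b⁻¹ * J v0 = b⁻¹ * (J v0 * (J z2 * J z2) * b) * b⁻¹ := by rw [k7]; group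
          _ = b⁻¹ * (J v1 * b * J z2) * b⁻¹ := by rw [k4, mul_assoc _ b, k6]; group
          _ = J v0 * J z2 * b⁻¹ := by rw [← k2]; group
          _ = _ := by rw [k4]
      rw [mul_assoc, k8, ← mul_assoc, ← mul_assoc, mul_left_inj, ← k1, k4, ← mul_assoc] at k
      refine h.em.inj _ z_mem _ (one_mem _) ?_
      rw [h.em.one]
      simpa using k
  have c2 : 2 * Nat.card (TT J t ⊓ C1[J v0] : Subgroup G) ≤ Nat.card S' := by
    obtain ⟨m, hm⟩ := card_dvd_of_le h2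
    have : Nat.card (TT J t ⊓ C1[J v0] : Subgroup G) < Nat.card S' :=
      lt_of_not_ge fun k => nx (eq_of_le_of_card_ge h2 k ▸ hx)
    rw [hm] at this ⊢
    have m2 : 2 ≤ m := by
      by_contra k
      have : m = 0 ∨ m = 1 := by omega
      rcases this with rfl | rfl <;> omega
    rw [mul_comm]
    exact Nat.mul_le_mul_left _ m2
  obtain ⟨k, -, hk⟩ := syl_conj hS h1 le_top
  have vS : J v0 ∈ TT J t := mem_sup_left (mem_im v_mem)
  rcases cenS hB h tt (hk _ (h2 ⟨vS, mem_centralizer_singleton_iff.2 rfl⟩)) fun a ha => by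
    have := cc k (show Commute (k⁻¹ * a * k) (J v0) from
      mem_centralizer_singleton_iff.1 (h3 (onto_conj k hk (c1.trans c2) a ha)))
    simpa [mul_assoc] using this.symm with e | e
  · refine f5.2.2.1 (h.em.inj _ v_mem _ (one_mem _) ?_)
    rw [h.em.one]
    simpa using e
  · exact hC.ne k⁻¹ (R.symm e)

theorem maxC (he : C2eStmt.{u}) (hS : Syl (TT J t) ⊤) (hC : Cc J) {P : Subgroup G}
    (h2 : IsPGroup 2 P) (l1 : TT J t ⊓ C1[t] ≤ P) (l2 : P ≤ C1[t]) (l3 : P ≤ C1[J z2]) :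
    P ≤ TT J t ⊓ C1[t] := by
  have sy : Syl (TT J t) C1[J z2] :=
    hS.mono (fun s hs => mem_centralizer_singleton_iff.2 (z_cen hB h tt hs)) le_top
  obtain ⟨k, kz, hk⟩ := syl_conj sy h2 l3
  have tS : t ∈ TT J t := mem_sup_right (mem_zpowers t)
  have tP : t ∈ P := l1 ⟨tS, mem_centralizer_singleton_iff.2 rfl⟩
  have n : k * t * k⁻¹ ∉ im J T0 := fun n => he J φ t h hS tt hC k kz n fun c hc ct =>
    hk c (l1 ⟨hc, mem_centralizer_singleton_iff.2 ct⟩)
  obtain ⟨c, hc, e⟩ := out_inv hB h tt (hk t tP) (by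
    rw [show k * t * k⁻¹ * (k * t * k⁻¹) = k * (t * t) * k⁻¹ by group, tt]; group) n
  have cS : J c ∈ TT J t := mem_sup_left (mem_im hc)
  have e2 : (J c)⁻¹ * k * t * ((J c)⁻¹ * k)⁻¹ = t := by
    rw [show (J c)⁻¹ * k * t * ((J c)⁻¹ * k)⁻¹ = (J c)⁻¹ * (k * t * k⁻¹) * J c by group, e]
    group
  refine (eq_of_le_of_card_ge l1 (card_le_conj ((J c)⁻¹ * k) fun x hx => ⟨?_, ?_⟩)).ge
  · have := mul_mem (mul_mem (inv_mem cS) (hk x hx)) cS
    simpa [mul_assoc] using this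
  · have := cc ((J c)⁻¹ * k) (show Commute x t from mem_centralizer_singleton_iff.1 (l2 hx))
    rw [e2] at this
    exact mem_centralizer_singleton_iff.2 this

end

theorem c2d (hB : Base.{u}) (he : C2eStmt.{u}) : C2dStmt.{u} := by
  intro G _ _ J φ t h hS tt hC hG
  have tS : t ∈ TT J t := mem_sup_right (mem_zpowers t)
  have ti : t⁻¹ = t := inv_eq_of_mul_eq_one_right tt
  have JS : ∀ {u}, u ∈ T0 → J u ∈ TT J t := fun hu => mem_sup_left (mem_im hu)
  have J1 : ∀ {u}, u ∈ T0 → J u = 1 → u = 1 := fun hu e =>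
    h.em.inj _ hu _ (one_mem _) (e.trans h.em.one.symm)
  have t1 : t ≠ 1 := fun e => t_not hB h (e ▸ one_mem _)
  obtain ⟨q1, q2, q3, q4, -, -, -, g1, g2, g3, g4, g5, -, g6⟩ := f4
  obtain ⟨r1, r2, r3, r4, r5, r6, r7, r8, r9, r10⟩ := f5
  have zz : J z2 * J z2 = 1 := by rw [← h.em.mul _ z_mem _ z_mem, r8, h.em.one]
  have inv : ∀ {a g : G} {u : N2}, u ∈ T0 → a * a = 1 → a ≠ 1 → g * a * g⁻¹ = J u →
      u * u = 1 ∧ u ≠ 1 := fun {a g u} hu k1 k2 e => by
    refine ⟨J1 (mul_mem hu hu) ?_, fun k => k2 ?_⟩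
    · rw [h.em.mul _ hu _ hu, ← e, show g * a * g⁻¹ * (g * a * g⁻¹) = g * (a * a) * g⁻¹ by group,
        k1]
      group
    · rw [k, h.em.one] at e
      simpa using e
  have z1 : J z2 ≠ 1 := fun e => r5 (J1 z_mem e)
  have nv : ∀ {g : G} {u : N2}, u ∈ T0 → g * J z2 * g⁻¹ = J u → tv u := fun {g u} hu e => by
    by_contra n
    obtain ⟨g', e'⟩ := hC.two u hu (inv hu zz z1 e).1 (inv hu zz z1 e).2 n
    exact hC.ne _ (R.trans e e')
  obtain ⟨u0, hu0, g, e⟩ : ∃ u0, (u0 = z2 ∨ u0 = v0) ∧ ∃ g, g * t * g⁻¹ = J u0 := by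
    obtain ⟨g, hg⟩ := hB.gen.tho (TT J t) (im J T0) t ((hB.kit J φ h.toKi).ind hG) hS
      le_sup_left tS (t_not hB h) (fun s hs => by
        obtain ⟨u, hu, rfl | rfl⟩ := (memS hB h tt).1 hs
        · exact Or.inl (mem_im hu)
        · refine Or.inr ?_
          rw [ti, ← mul_assoc, tJ h hu, mul_assoc, tt, mul_one]
          exact mem_im (hB.m3.gma.mem u hu)) tt
    obtain ⟨u, hu, e⟩ := h.em.mem.1 hg
    obtain ⟨k1, k2⟩ := inv hu tt t1 e.symm
    by_cases k : tv u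
    · obtain ⟨g', e'⟩ := hC.one u hu k1 k
      exact ⟨_, Or.inl rfl, g' * g, by rw [← e', e]; group⟩
    · obtain ⟨g', e'⟩ := hC.two u hu k1 k2 k
      exact ⟨_, Or.inr rfl, g' * g, by rw [← e', e]; group⟩
  have uU : u0 ∈ U1 := by rcases hu0 with rfl | rfl <;> assumption
  have uT : u0 ∈ T0 := uU.1
  have ug : gm u0 = u0 := by rcases hu0 with rfl | rfl <;> assumption
  obtain ⟨k, e, hk⟩ := hB.gen.extr (TT J t) t (J u0) g hS (JS uT) (by
    rcases hu0 with rfl | rfl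
    · have l : TT J t ≤ C1[J z2] := fun s hs => mem_centralizer_singleton_iff.2 (z_cen hB h tt hs)
      rw [inf_eq_left.2 l]
      exact hS.mono l le_top
    · exact sylV hB h tt hS hC) tS e
  have zt : Commute (J z2) t := fix_comm h z_mem g3
  have yS := hk _ (JS z_mem) zt
  have star : ∀ d ∈ TT J t, Commute d (J u0) → Commute d (k * J z2 * k⁻¹) →
      k⁻¹ * d * k ∈ TT J t ⊓ C1[t] := fun d hd c1 c2 => by
    refine maxC hB h tt he hS hC (P := pb k (TT J t) ⊓ C1[t] ⊓ C1[J z2])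
      ((pb_two k hS.grp).to_le (inf_le_left.trans inf_le_left)) (fun c hc => ⟨⟨hk c hc.1
        (mem_centralizer_singleton_iff.1 hc.2), hc.2⟩,
        mem_centralizer_singleton_iff.2 (z_cen hB h tt hc.1)⟩) (inf_le_left.trans inf_le_right)
      inf_le_right ⟨⟨?_, mem_centralizer_singleton_iff.2 (cc' k ?_)⟩,
        mem_centralizer_singleton_iff.2 (cc' k ?_)⟩
    · change k * (k⁻¹ * d * k) * k⁻¹ ∈ TT J t
      simpa [mul_assoc] using hd
    · rw [e]
      simpa [mul_assoc] using c1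
    · simpa [mul_assoc] using c2
  have cU : ∀ a ∈ U1, ∀ b ∈ U1, Commute (J a) (J b) := fun a ha b hb => by
    rw [Commute, SemiconjBy, ← h.em.mul _ ha.1 _ hb.1, ← h.em.mul _ hb.1 _ ha.1,
      hB.m2.ab.2.1 a ha.2 b hb.2]
  have big : ∀ s ∈ TT J t, (∀ a ∈ U1, Commute (s * J a * s⁻¹) (J u0) ∧
      Commute (s * J a * s⁻¹) (k * J z2 * k⁻¹)) → False := fun s hs c => by
    have k1 := card_le_conj (X := im J U1) (Y := TT J t ⊓ C1[t]) (k⁻¹ * s) fun x hx => by
      obtain ⟨a, ha, rfl⟩ := (h.em.mono (U1_le hB)).mem.1 hx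
      have := star _ (mul_mem (mul_mem hs (JS ha.1)) (inv_mem hs)) (c a ha).1 (c a ha).2
      simpa [mul_assoc] using this
    have k2 := cardC hB h tt
    rw [(h.em.mono (U1_le hB)).card, hB.m1.cU1] at k1
    omega
  by_cases yT : k * J z2 * k⁻¹ ∈ im J T0
  · obtain ⟨y, hy, ey⟩ := h.em.mem.1 yT
    rw [← ey] at star big
    have f := f2 (en y 0 1) (en y 0 2) (en y 0 3) (en y 0 4) (en y 1 2) (en y 1 3) (en y 1 4)
      (en y 2 3) (en y 2 4) (en y 3 4)
    rw [← ut_eq, ← hB.m1.nf y hy] at f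
    rcases f (inv hy zz z1 ey.symm).1 (nv hy ey.symm) with f | f | ⟨f, p, -, p1, p2, p3, p4, p5⟩
    · exact big 1 (one_mem _) fun a ha => by simpa using ⟨cU a ha _ uU, cU a ha _ f⟩
    · refine big t tS fun a ha => ⟨?_, ?_⟩
      · have := cc t (cU a ha _ uU)
        rwa [h.act _ uT, ug] at this
      · have := cc t (cU a ha _ f)
        rwa [h.act _ (hB.m3.gma.mem y hy), hB.m3.gm2 y hy] at this
    · have cJ : ∀ {a b}, a ∈ T0 → b ∈ T0 → Commute a b → Commute (J a) (J b) := fun ha hb c => by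
        rw [Commute, SemiconjBy, ← h.em.mul _ ha _ hb, ← h.em.mul _ hb _ ha, c.eq]
      obtain rfl : u0 = z2 := hu0.resolve_right fun k0 => f (by
        subst k0
        have := cc k zt
        rw [e, ← ey] at this
        exact h.em.inj _ (mul_mem hy uT) _ (mul_mem uT hy) (by
          rw [h.em.mul _ hy _ uT, h.em.mul _ uT _ hy, this.eq]))
      have s1 := star _ (JS p1) (z_cen hB h tt (JS p1)) (cJ p1 hy p3)
      have s2 := star _ (JS p2) (z_cen hB h tt (JS p2)) (cJ p2 hy p4)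
      have pp : J p.1 * J p.2 = J p.2 * J p.1 * J z2 := by
        rw [← h.em.mul _ p1 _ p2, p5, h.em.mul _ (mul_mem p2 p1) _ z_mem, h.em.mul _ p2 _ p1]
      have e1 : k⁻¹ * J p.1 * k * (k⁻¹ * J p.2 * k) =
          k⁻¹ * J p.2 * k * (k⁻¹ * J p.1 * k) * (k⁻¹ * J z2 * k) := by
        calc _ = k⁻¹ * (J p.1 * J p.2) * k := by group
          _ = _ := by rw [pp]; group
      rcases commC hB h tt s1.1 (mem_centralizer_singleton_iff.1 s1.2) s2.1
        (mem_centralizer_singleton_iff.1 s2.2) with c | c <;> rw [e1] at c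
      · exact z1 (by simpa [mul_assoc] using congrArg (fun x => k * x * k⁻¹) (mul_eq_left.1 c))
      · exact r2 (nv (g := k⁻¹) v1_mem (by simpa using c))
  · obtain ⟨c, hc, ec⟩ := out_inv hB h tt yS (by
      rw [show k * J z2 * k⁻¹ * (k * J z2 * k⁻¹) = k * (J z2 * J z2) * k⁻¹ by group, zz]; group) yT
    have e2 : (J c)⁻¹ * k * J z2 * ((J c)⁻¹ * k)⁻¹ = t := by
      rw [show (J c)⁻¹ * k * J z2 * ((J c)⁻¹ * k)⁻¹ = (J c)⁻¹ * (k * J z2 * k⁻¹) * J c by group, ec]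
      group
    have hw : ∀ a ∈ TT J t, Commute a t → (J c)⁻¹ * k * a * ((J c)⁻¹ * k)⁻¹ ∈ TT J t ∧
        Commute ((J c)⁻¹ * k * a * ((J c)⁻¹ * k)⁻¹) t := fun a ha c1 => by
      refine ⟨?_, ?_⟩
      · have := mul_mem (mul_mem (inv_mem (JS hc)) (hk a ha c1)) (JS hc)
        simpa [mul_assoc] using this
      · have := cc ((J c)⁻¹ * k) (z_cen hB h tt ha)
        rwa [e2] at this
    generalize (J c)⁻¹ * k = w at e2 hw
    have pp : J (xe 1 3) * J a0 = J a0 * J (xe 1 3) * J v1 := by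
      rw [← h.em.mul _ q1 _ q2, g6, h.em.mul _ (mul_mem q2 q1) _ v1_mem, h.em.mul _ q2 _ q1]
    have e1 : w * J (xe 1 3) * w⁻¹ * (w * J a0 * w⁻¹) =
        w * J a0 * w⁻¹ * (w * J (xe 1 3) * w⁻¹) * (w * J v1 * w⁻¹) := by
      calc _ = w * (J (xe 1 3) * J a0) * w⁻¹ := by group
        _ = _ := by rw [pp]; group
    have s1 := hw _ (JS q1) (fix_comm h q1 g1)
    have s2 := hw _ (JS q2) (fix_comm h q2 g2)
    have e3 : w * J v1 * w⁻¹ = J v1 := by
      rcases commC hB h tt s1.1 s1.2 s2.1 s2.2 with c | c <;> rw [e1] at c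
      · exact absurd (J1 v1_mem (by simpa using c)) r4
      · exact mul_left_cancel c
    have e4 : w * J v0 * w⁻¹ = J v1 * t := by
      rw [← r10, h.em.mul _ v1_mem _ z_mem, ← e2]
      conv_rhs => rw [← e3]
      group
    obtain ⟨c', -, e5⟩ := out_inv hB h tt (mul_mem (JS v1_mem) tS) (by
      rw [mul_assoc, ← mul_assoc t, ← (fix_comm h v1_mem g5).eq, mul_assoc, tt, mul_one,
        ← h.em.mul _ v1_mem _ v1_mem, r7, h.em.one]) fun n =>
      t_not hB h ((mul_mem_cancel_left (mem_im v1_mem)).1 n)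
    refine r1 (nv (g := w⁻¹ * J c' * w) v_mem ?_)
    calc _ = w⁻¹ * (J c' * (w * J z2 * w⁻¹) * (J c')⁻¹) * w := by group
      _ = _ := by rw [e2, ← e5, ← e4]; group

end Cfsg.Agent.H16.KnC2d
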