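import Cfsg.Agent.H17.KnDef2

/-!
# Finite facts on the unitriangular group
-/

set_option autoImplicit false
set_option maxRecDepth 100000

namespace Cfsg.Agent.H16.KnC2d

open Equiv Subgroup Cfsg.Agent.H17.Kn

/-- the unitriangular matrix with given entries -/
def u10 (a b c d e f g h k l : ZMod 2) : N2 :=
  xc d 0 4 * xc g 1 4 * xc k 2 4 * xc l 3 4 * xc c 0 3 * xc f 1 3 * xc h 2 3 * xc b 0 2 *
    xc e 1 2 * xc a 0 1

theorem ut_eq (c : Fin 5 → Fin 5 → ZMod 2) : ut c =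
    u10 (c 0 1) (c 0 2) (c 0 3) (c 0 4) (c 1 2) (c 1 3) (c 1 4) (c 2 3) (c 2 4) (c 3 4) := rfl

/-- the fixed points of the graph automorphism -/
def fx (a b c e : ZMod 2) : N2 :=
  zp a * xc b 1 3 * (xc c 0 3 * xc c 1 4) * (xc e 0 1 * xc e 3 4)

/-- a fixed point -/
def a0 : N2 := xe 0 1 * xe 3 4

/-- the commutator in the group of fixed points -/
def v1 : N2 := v0 * z2

/-- the class of `v0` -/
def Q1 (y : N2) : Prop := y * v0 = v0 * y ∨ y * v0 = v1 * y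

instance (y : N2) : Decidable (Q1 y) := by unfold Q1; infer_instance

theorem f1_00 : ∀ b c d e f g h k : ZMod 2, Q1 (u10 0 b c d e f g h k 0) := by
  decide +kernel

theorem f1_01 : ∀ b c d e f g h k : ZMod 2, Q1 (u10 0 b c d e f g h k 1) := by
  decide +kernel

theorem f1_10 : ∀ b c d e f g h k : ZMod 2, Q1 (u10 1 b c d e f g h k 0) := by
  decide +kernel

theorem f1_11 : ∀ b c d e f g h k : ZMod 2, Q1 (u10 1 b c d e f g h k 1) := by
  decide +kernel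

theorem z01 : ∀ a : ZMod 2, a = 0 ∨ a = 1 := by decide

theorem f1 (a b c d e f g h k l : ZMod 2) :
    u10 a b c d e f g h k l * v0 = v0 * u10 a b c d e f g h k l ∨
    u10 a b c d e f g h k l * v0 = v1 * u10 a b c d e f g h k l := by
  rcases z01 a with rfl | rfl <;> rcases z01 l with rfl | rfl
  exacts [f1_00 .., f1_01 .., f1_10 .., f1_11 ..]

/-- the alternatives for a transvection -/
def Q (y : N2) : Prop := y * y = 1 → tv y → y ∈ U1 ∨ gm y ∈ U1 ∨ (¬ Commute y v0 ∧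
  ∃ p ∈ [(xe 1 4, xe 0 1), (xe 1 4, xe 0 1 * xe 0 3), (xe 3 4, xe 0 3), (xe 3 4 * xe 1 4, xe 0 3)],
    p.1 ∈ T0 ∧ p.2 ∈ T0 ∧ Commute p.1 y ∧ Commute p.2 y ∧ p.1 * p.2 = p.2 * p.1 * z2)

instance (y : N2) : Decidable (Q y) := by unfold Q; infer_instance

theorem f2_0000 : ∀ b c d f g k : ZMod 2, Q (u10 0 b c d 0 f g 0 k 0) := by
  decide +kernel

theorem f2_0001 : ∀ b c d f g k : ZMod 2, Q (u10 0 b c d 0 f g 1 k 0) := by
  decide +kernel

theorem f2_0010 : ∀ b c d f g k : ZMod 2, Q (u10 0 b c d 1 f g 0 k 0) := by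
  decide +kernel

theorem f2_0011 : ∀ b c d f g k : ZMod 2, Q (u10 0 b c d 1 f g 1 k 0) := by
  decide +kernel

theorem f2_0100 : ∀ b c d f g k : ZMod 2, Q (u10 0 b c d 0 f g 0 k 1) := by
  decide +kernel

theorem f2_0101 : ∀ b c d f g k : ZMod 2, Q (u10 0 b c d 0 f g 1 k 1) := by
  decide +kernel

theorem f2_0110 : ∀ b c d f g k : ZMod 2, Q (u10 0 b c d 1 f g 0 k 1) := by
  decide +kernel

theorem f2_0111 : ∀ b c d f g k : ZMod 2, Q (u10 0 b c d 1 f g 1 k 1) := by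
  decide +kernel

theorem f2_1000 : ∀ b c d f g k : ZMod 2, Q (u10 1 b c d 0 f g 0 k 0) := by
  decide +kernel

theorem f2_1001 : ∀ b c d f g k : ZMod 2, Q (u10 1 b c d 0 f g 1 k 0) := by
  decide +kernel

theorem f2_1010 : ∀ b c d f g k : ZMod 2, Q (u10 1 b c d 1 f g 0 k 0) := by
  decide +kernel

theorem f2_1011 : ∀ b c d f g k : ZMod 2, Q (u10 1 b c d 1 f g 1 k 0) := by
  decide +kernel

theorem f2_1100 : ∀ b c d f g k : ZMod 2, Q (u10 1 b c d 0 f g 0 k 1) := by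
  decide +kernel

theorem f2_1101 : ∀ b c d f g k : ZMod 2, Q (u10 1 b c d 0 f g 1 k 1) := by
  decide +kernel

theorem f2_1110 : ∀ b c d f g k : ZMod 2, Q (u10 1 b c d 1 f g 0 k 1) := by
  decide +kernel

theorem f2_1111 : ∀ b c d f g k : ZMod 2, Q (u10 1 b c d 1 f g 1 k 1) := by
  decide +kernel

theorem f2 (a b c d e f g h k l : ZMod 2) : Q (u10 a b c d e f g h k l) := by
  rcases z01 a with rfl | rfl <;> rcases z01 l with rfl | rfl <;> rcases z01 e with rfl | rfl <;>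
    rcases z01 h with rfl | rfl
  exacts [f2_0000 b c d f g k, f2_0001 b c d f g k, f2_0010 b c d f g k, f2_0011 b c d f g k,
    f2_0100 b c d f g k, f2_0101 b c d f g k, f2_0110 b c d f g k, f2_0111 b c d f g k,
    f2_1000 b c d f g k, f2_1001 b c d f g k, f2_1010 b c d f g k, f2_1011 b c d f g k,
    f2_1100 b c d f g k, f2_1101 b c d f g k, f2_1110 b c d f g k, f2_1111 b c d f g k]

theorem f3 : ∀ a b c e a' b' c' e' : ZMod 2,
    fx a b c e * fx a' b' c' e' = fx a' b' c' e' * fx a b c e ∨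
    fx a b c e * fx a' b' c' e' = fx a' b' c' e' * fx a b c e * v1 := by decide +kernel

theorem f4 : xe 1 3 ∈ T0 ∧ a0 ∈ T0 ∧ z2 ∈ U1 ∧ v0 ∈ U1 ∧ xe 1 4 ∈ QQ ∧ xe 0 3 ∈ AP ∧ xe 1 4 ∉ AP ∧
    gm (xe 1 3) = xe 1 3 ∧ gm a0 = a0 ∧ gm z2 = z2 ∧ gm v0 = v0 ∧ gm v1 = v1 ∧
    gm (xe 1 4) = xe 0 3 ∧ xe 1 3 * a0 = a0 * xe 1 3 * v1 := by decide +kernel

theorem f5 : ¬ tv v0 ∧ ¬ tv v1 ∧ v0 ≠ 1 ∧ v1 ≠ 1 ∧ z2 ≠ 1 ∧ v0 * v0 = 1 ∧ v1 * v1 = 1 ∧
    z2 * z2 = 1 ∧ z2 * v1 = v0 ∧ v1 * z2 = v0 := by decide +kernel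

end Cfsg.Agent.H16.KnC2d
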