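import Cfsg.Agent.H36.LTS3
import Cfsg.Agent.H93.LT2Defs

/-! # Type H: the group `R = K⟨t⟩` -/

set_option autoImplicit false

namespace Cfsg.Agent.H16.LTH
open Subgroup Cfsg.Agent.H85 Cfsg.Agent.H36.LTS

variable {G : Type*} [Group G]

theorem cv_cv' (x g k : G) : cv x (cv g k) = cv (cv (cv x k⁻¹) g) k := by
  simp only [cv]; group

theorem cm_closure {S : Set G} {g : G} (h : ∀ s ∈ S, Commute s g) {x : G} (hx : x ∈ closure S) :
    Commute x g :=
  cm_of ((cv_eq_closure (k := 1) (fun s hs => (cv_of (h s hs)).trans (cv_one' s).symm) hx).trans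
    (cv_one' x))

/-- the relations in `R⟨b⟩`; normal form `b t κ m k z f a` -/
structure RK (t z f a b k m κ : G) : Prop extends B0 t z f a b where
  kk : k * k = z
  mm : m * m = a
  kt : cv k t = k * z
  mt : cv m t = m * a
  kb : Commute k b
  mb : cv m b = m * (k * (z * a))
  κb : Commute κ b
  mκ : Commute m κ
  kκ : Commute k κ
  km : Commute k m
  zκ : Commute z κ
  fκ : Commute f κ
  aκ : Commute a κ
  zm : Commute z m
  fm : Commute f m
  am : Commute a m
  zk : Commute z k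
  fk : Commute f k
  ak : Commute a k
  hκ : κ = 1 ∨ (κ * κ = f ∧ cv κ t = κ * f)

theorem inv4 {u c : G} (h : u * u = c) (cc : c * c = 1) : u⁻¹ = u * c := by
  rw [inv_eq_iff_mul_eq_one, ← mul_assoc, h, cc]

/-- normal form `b t κ m k z f a` -/
macro "ek" R:term:max "[" ls:Lean.Parser.Tactic.simpLemma,* "]"
    loc:(Lean.Parser.Tactic.location)? : tactic =>
  `(tactic| en (B0.toB1 (RK.toB0 $R)) [cvd, rs (RK.kk $R), rs (RK.mm $R), rl (RK.kt $R),
    rl (RK.mt $R), rc (RK.kb $R), rl (RK.mb $R), rc (RK.κb $R), rc (RK.mκ $R), rc (RK.kκ $R),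
    rc (RK.km $R), rc (RK.zκ $R), rc (RK.fκ $R), rc (RK.aκ $R), rc (RK.zm $R), rc (RK.fm $R),
    rc (RK.am $R), rc (RK.zk $R), rc (RK.fk $R), rc (RK.ak $R),
    inv4 (RK.kk $R) (B1.zz (B0.toB1 (RK.toB0 $R))), inv4 (RK.mm $R) (B1.aa (B0.toB1 (RK.toB0 $R))),
    $ls,*] $(loc)?)

/-- refute an equation between words -/
macro "eko" R:term:max "[" ls:Lean.Parser.Tactic.simpLemma,* "]" e:term : tactic =>
  `(tactic| (have _e := inv_mul_eq_one.2 $e
             ek $R [B0.n (RK.toB0 $R), $ls,*] at _e))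

/-- `W = Z(R)` -/
abbrev WW (z f a : G) : Subgroup G := closure {z, f, a}
/-- `K` -/
abbrev KK (z f a k m κ : G) : Subgroup G := closure {κ, m, k, z, f, a}
/-- `R` -/
abbrev RR (t z f a k m κ : G) : Subgroup G := closure {t, κ, m, k, z, f, a}

namespace RK
variable {t z f a b k m κ : G} (R : RK t z f a b k m κ)
include R

omit R in
theorem WK : WW z f a ≤ KK z f a k m κ := closure_mono (by intro x; simp only [Set.mem_insert_iff]; tauto)
omit R in
theorem KR : KK z f a k m κ ≤ RR t z f a k m κ := closure_mono (Set.subset_insert _ _)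
omit R in
theorem WR : WW z f a ≤ RR t z f a k m κ := WK.trans KR
omit R in
theorem ER : closure {t, z, f, a} ≤ RR t z f a k m κ :=
  closure_mono (by intro x; simp only [Set.mem_insert_iff]; tauto)

theorem cK {u v : G} (hu : u ∈ KK z f a k m κ) (hv : v ∈ KK z f a k m κ) : Commute u v := by
  refine cm_closure (fun s hs => (cm_closure (fun s' hs' => ?_) hv).symm) hu
  rcases hs with rfl | rfl | rfl | rfl | rfl | rfl <;>
    rcases hs' with rfl | rfl | rfl | rfl | rfl | rfl <;> rw [Commute, SemiconjBy] <;> ek R []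

theorem invK {u : G} (hu : u ∈ KK z f a k m κ) : cv u t = u⁻¹ := by
  induction hu using closure_induction with
  | mem s hs =>
    rcases hs with rfl | rfl | rfl | rfl | rfl | rfl
    · rcases R.hκ with rfl | ⟨h1, h2⟩
      · ek R []
      · rw [h2, inv4 h1 R.ff]
    all_goals ek R []
  | one => rw [cv_one, inv_one]
  | mul x y hx hy h1 h2 => rw [cv_mul, h1, h2, ← mul_inv_rev, (R.cK hx hy).eq]
  | inv x _ h1 => rw [cv_inv, h1]

theorem memR {u : G} (hu : u ∈ RR t z f a k m κ) :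
    u ∈ KK z f a k m κ ∨ ∃ w ∈ KK z f a k m κ, u = t * w :=
  mem_ins (R.tt ▸ one_mem _) (fun _ hs => by
    rw [R.invK (subset_closure hs)]; exact inv_mem (subset_closure hs)) hu

theorem sqW {w : G} (hw : w ∈ WW z f a) : w * w = 1 := R.toB1.ee (WE hw)

theorem cWt {w : G} (hw : w ∈ WW z f a) : Commute w t := cm_of (R.toB1.cE (WE hw) m1)

theorem cW {w u : G} (hw : w ∈ WW z f a) (hu : u ∈ RR t z f a k m κ) : Commute w u := by
  rcases R.memR hu with h | ⟨v, h, rfl⟩
  · exact R.cK (WK hw) h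
  · exact (R.cWt hw).mul_right (R.cK (WK hw) h)

theorem sq_t {w : G} (hw : w ∈ KK z f a k m κ) : t * w * (t * w) = 1 := by
  have := R.invK hw
  rw [cv, (ri R.tt).1] at this
  rw [← mul_assoc, this, inv_mul_cancel]

theorem κκ : κ * κ ∈ WW z f a := by
  rcases R.hκ with rfl | ⟨h, -⟩
  · rw [mul_one]; exact one_mem _
  · rw [h]; memc

theorem memK {u : G} (hu : u ∈ KK z f a k m κ) : ∃ w ∈ WW z f a, u = w ∨ u = k * w ∨ u = m * w ∨
    u = m * (k * w) ∨ u = κ * w ∨ u = κ * (k * w) ∨ u = κ * (m * w) ∨ u = κ * (m * (k * w)) := by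
  have c : ∀ {S : Set G} {s g : G}, s ∈ S → S ⊆ {κ, m, k, z, f, a} → g ∈ KK z f a k m κ →
      cv s g ∈ closure S := fun hs hS hg => by
    rw [cv_of (R.cK (subset_closure (hS hs)) hg)]; exact subset_closure hs
  have k1 : ∀ v ∈ closure ({k, z, f, a} : Set G), ∃ w ∈ WW z f a, v = w ∨ v = k * w := fun v hv => by
    rcases mem_ins (by rw [R.kk]; memc) (fun s hs => c hs (by
      intro x; simp only [Set.mem_insert_iff]; tauto) (by memc)) hv with h | ⟨w, h, rfl⟩
    exacts [⟨v, h, .inl rfl⟩, ⟨w, h, .inr rfl⟩]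
  have k2 : ∀ v ∈ closure ({m, k, z, f, a} : Set G), ∃ w ∈ WW z f a,
      v = w ∨ v = k * w ∨ v = m * w ∨ v = m * (k * w) := fun v hv => by
    rcases mem_ins (by rw [R.mm]; memc) (fun s hs => c hs (by
      intro x; simp only [Set.mem_insert_iff]; tauto) (by memc)) hv with h | ⟨w, h, rfl⟩ <;>
      obtain ⟨w', h', rfl | rfl⟩ := k1 _ h <;> exact ⟨_, h', by simp only [true_or, or_true]⟩
  rcases mem_ins (closure_mono (by intro x; simp only [Set.mem_insert_iff]; tauto) R.κκ)
    (fun s hs => c hs (Set.subset_insert _ _) (by memc)) hu with h | ⟨w, h, rfl⟩ <;>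
    obtain ⟨w', h', rfl | rfl | rfl | rfl⟩ := k2 _ h <;>
    exact ⟨_, h', by simp only [true_or, or_true]⟩

theorem sq_mul {u w : G} (hu : u ∈ KK z f a k m κ) (hw : w ∈ KK z f a k m κ) :
    u * w * (u * w) = u * u * (w * w) := by
  rw [mul_assoc, ← mul_assoc w, ← (R.cK hu hw).eq]; simp only [mul_assoc]

theorem sqK {u : G} (hu : u ∈ KK z f a k m κ) : u * u ∈ WW z f a := by
  induction hu using closure_induction with
  | mem s hs =>
    rcases hs with rfl | rfl | rfl | rfl | rfl | rfl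
    · exact R.κκ
    all_goals ek R []; memc
  | one => memc
  | mul x y hx hy h1 h2 => rw [R.sq_mul hx hy]; memc
  | inv x _ h1 => rw [← mul_inv_rev]; memc

theorem omK {u : G} (hu : u ∈ KK z f a k m κ) (e : u * u = 1) : u ∈ WW z f a := by
  obtain ⟨w, hw, h⟩ := R.memK hu
  have k : ∀ s ∈ KK z f a k m κ, u = s * w → s * s = 1 := fun s hs h => by
    rwa [h, R.sq_mul hs (WK hw), R.sqW hw, mul_one] at e
  simp only [← mul_assoc] at h
  rcases h with rfl | h | h | h | h | h | h | h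
  · exact hw
  · eko R [] (k _ (by memc) h)
  · eko R [] (k _ (by memc) h)
  · eko R [] (k _ (by memc) h)
  all_goals rcases R.hκ with rfl | ⟨h1, -⟩
  · rwa [h, one_mul]
  · eko R [rs h1] (k _ (by memc) h)
  · eko R [] (k _ (by memc) h)
  · eko R [rs h1] (k _ (by memc) h)
  · eko R [] (k _ (by memc) h)
  · eko R [rs h1] (k _ (by memc) h)
  · eko R [] (k _ (by memc) h)
  · eko R [rs h1] (k _ (by memc) h)

theorem ofk {u : G} (hu : u ∈ RR t z f a k m κ) (e : cv k u = k) : u ∈ KK z f a k m κ := by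
  rcases R.memR hu with h | ⟨w, h, rfl⟩
  · exact h
  · rw [cv_cv, R.kt, cv_of (R.cK (by memc) h)] at e
    eko R [] e

theorem cenR {u : G} (hu : u ∈ RR t z f a k m κ) (e : cv k u = k) (e' : cv t u = t) :
    u ∈ WW z f a := by
  have h := R.ofk hu e
  have := R.invK h
  rw [cv_of' (cm_of e')] at this
  exact R.omK h (by nth_rw 1 [this]; rw [inv_mul_cancel])

theorem ofsq {u : G} (hu : u ∈ RR t z f a k m κ) (e : u * u ≠ 1) : u ∈ KK z f a k m κ := by
  rcases R.memR hu with h | ⟨w, h, rfl⟩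
  · exact h
  · exact absurd (R.sq_t h) e

theorem nW {c w : G} (hc : c ∈ normalizer (RR t z f a k m κ : Set G)) (hw : w ∈ WW z f a) :
    cv w c ∈ WW z f a := by
  have k : ∀ s ∈ RR t z f a k m κ, cv s (cv w c) = s := fun s hs => by
    rw [cv_cv', cv_of' (R.cW hw (cv_nrm hs (inv_mem hc))), ← cv_cv, inv_mul_cancel, cv_one']
  exact R.cenR (cv_nrm (WR hw) hc) (k _ (by memc)) (k _ m1)

theorem nK {c u : G} (hc : c ∈ normalizer (RR t z f a k m κ : Set G)) (hu : u ∈ KK z f a k m κ) :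
    cv u c ∈ KK z f a k m κ := by
  by_cases e : u * u = 1
  · exact WK (R.nW hc (R.omK hu e))
  · refine R.ofsq (cv_nrm (KR hu) hc) fun e' => e (cv_inj (g := c) ?_)
    rw [cv_mul, e', cv_one]

theorem tK {c : G} (hc : c ∈ normalizer (RR t z f a k m κ : Set G)) :
    t⁻¹ * cv t c ∈ KK z f a k m κ := by
  rcases R.memR (cv_nrm m1 hc) with h | ⟨w, h, e⟩
  · have := R.nK (inv_mem hc) h
    rw [← cv_cv, mul_inv_cancel, cv_one'] at this
    have e := R.kt
    rw [cv_of (R.cK (by memc) this)] at e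
    eko R [] e
  · rwa [e, inv_mul_cancel_left]

theorem pR : IsPGroup 2 (RR t z f a k m κ) := fun ⟨u, hu⟩ => ⟨2, Subtype.ext (by
  show u ^ 2 ^ 2 = 1
  have : u * u * (u * u) = 1 := by
    rcases R.memR hu with h | ⟨w, h, rfl⟩
    · exact R.sqW (R.sqK h)
    · rw [R.sq_t h, mul_one]
  rw [← this, show 2 ^ 2 = 2 * 2 from rfl, pow_mul, sq, sq])⟩

theorem bN [Finite G] : b ∈ normalizer (RR t z f a k m κ : Set G) :=
  nrm_of fun _ => cv_closure (by
    rintro _ (rfl | rfl | rfl | rfl | rfl | rfl | rfl) <;> ek R [] <;> memc)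

/-- an element of odd order normalising `R` and centralising `E₁` centralises `R` -/
theorem odd_cent [Finite G] {o : G} (ho : Odd (orderOf o))
    (hn : o ∈ normalizer (RR t z f a k m κ : Set G)) (ht : cv t o = t)
    (hW : ∀ w ∈ WW z f a, cv w o = w) {u : G} (hu : u ∈ RR t z f a k m κ) : cv u o = u := by
  have k : ∀ u ∈ KK z f a k m κ, cv u o = u := fun u hu => by
    have h1 := R.nK hn hu
    have h2 : u⁻¹ * cv u o ∈ WW z f a := R.omK (by memc) (by
      rw [R.sq_mul (inv_mem hu) h1, ← cv_mul, hW _ (R.sqK hu), ← mul_inv_rev, inv_mul_cancel])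
    refine fix_of_odd ho ?_
    have e : cv u o = u * (u⁻¹ * cv u o) := by rw [mul_inv_cancel_left]
    rw [e, cv_mul, hW _ h2, e, mul_assoc, ← e, R.sqW h2, mul_one]
  rcases R.memR hu with h | ⟨w, h, rfl⟩
  · exact k u h
  · rw [cv_mul, ht, k w h]

end RK

open Cfsg.Agent.H93.LT

theorem κ_ne (h : TT G) (hy : h.y ≠ 1) : h.κ = h.y * h.t := if_neg hy
theorem κ_eq (h : TT G) (hy : h.y = 1) : h.κ = 1 := if_pos hy

theorem ty_of (h : TT G) (hy : h.y ≠ 1) : cv h.t h.y = h.t * h.f := by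
  rcases h.alt with e | e | e
  exacts [absurd e.1 hy, absurd e.1 hy, e.1]

/-- the relations of type H -/
theorem rk {h : HH G} (K : Kit h.toHyp) : RK h.t h.z h.f h.a h.b (h.x * h.t) h.m h.κ := by
  have B := b0 K
  have B' := B.toB1
  have zx : Commute h.z h.x := by
    rw [B'.z_eq]; exact (((h.xa.mul_right h.xb).mul_right h.xa).mul_right h.xb).symm
  have zy : Commute h.z h.y := by
    rw [B'.z_eq]; exact (((h.ya.mul_right h.yb).mul_right h.ya).mul_right h.yb).symm
  have tx : cv h.t h.x = h.t * h.z := h.tx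
  have tm : cv h.t h.m = h.t * h.a := h.tm
  have xm : cv h.x h.m = h.x * h.a := h.xm
  have kk : h.x * h.t * (h.x * h.t) = h.z := by en B' [rl tx, ri h.xx]
  have km : Commute (h.x * h.t) h.m := cm_of (by
    rw [cv_mul, tm, xm]; en B' [])
  have zk : Commute h.z (h.x * h.t) := zx.mul_right B'.zt
  have ak : Commute h.a (h.x * h.t) := h.xa.symm.mul_right B'.at'
  have c : ∀ u, Commute u h.y → Commute u h.t → Commute u h.κ := fun u h1 h2 => by
    by_cases hy : h.y = 1
    · rw [κ_eq _ hy]; exact Commute.one_right u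
    · rw [κ_ne _ hy]; exact h1.mul_right h2
  refine { B with
    kk := kk, mm := h.mm, kt := ?_, mt := ?_, kb := h.xb.mul_left h.tb, mb := ?_,
    κb := (c _ h.yb.symm h.tb.symm).symm, mκ := ?_, kκ := ?_, km := km, zκ := c _ zy B'.zt,
    fκ := c _ h.yf.symm B'.ft, aκ := c _ h.ya.symm B'.at', zm := h.mz.symm, fm := h.mf.symm,
    am := h.ma.symm, zk := zk, fk := h.xf.symm.mul_right B'.ft, ak := ak, hκ := ?_ }
  · en B' [cvd, rl tx, ri h.xx]
  · have := (rl tm).1
    rw [cv, (ri h.tt).1, this]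
    en B' []
  · have : cv h.m h.b = (h.x * h.t * h.m)⁻¹ := h.mb
    rw [this, mul_inv_rev, inv4 kk B'.zz, inv4 h.mm B'.aa, mul_assoc, ← mul_assoc h.a,
      ak.eq, mul_assoc _ h.a, B'.az.eq]
  · by_cases hy : h.y = 1
    · rw [κ_eq _ hy]; exact Commute.one_right _
    · have ym : cv h.y h.m = h.y * h.a := h.ym hy
      rw [κ_ne _ hy]
      exact (cm_of (by rw [cv_mul, ym, tm]; en B' [])).symm
  · by_cases hy : h.y = 1
    · rw [κ_eq _ hy]; exact Commute.one_right _
    · have xy : cv h.x h.y = h.x * h.f * h.z := h.xy hy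
      rw [κ_ne _ hy]
      exact cm_of (by rw [cv_cv, cv_mul, xy, ty_of _ hy]; en B' [cvd, rl tx, ri h.xx])
  · by_cases hy : h.y = 1
    · exact .inl (κ_eq _ hy)
    · rw [κ_ne _ hy]
      exact .inr ⟨by en B' [rl (ty_of _ hy), ri h.yy], by en B' [cvd, rl (ty_of _ hy), ri h.yy]⟩

theorem K_eq (h : TT G) : h.K = KK h.z h.f h.a (h.x * h.t) h.m h.κ :=
  congrArg Subgroup.closure (by ext x; simp only [Set.mem_insert_iff, Set.mem_singleton_iff]; tauto)

theorem R_eq (h : TT G) : h.R = RR h.t h.z h.f h.a (h.x * h.t) h.m h.κ := by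
  have e : ∀ u : G, u = u * h.t * h.t := fun u => by rw [mul_assoc, h.tt, mul_one]
  refine le_antisymm ((closure_le _).2 ?_) ((closure_le _).2 ?_)
  · rintro _ (rfl | rfl | rfl | rfl | rfl | rfl | rfl)
    pick_goal 4
    · have : h.x * h.t * h.t ∈ RR h.t h.z h.f h.a (h.x * h.t) h.m h.κ :=
        mul_mem (subset_closure (by simp only [Set.mem_insert_iff, true_or, or_true])) m1
      rwa [← e] at this
    pick_goal 4
    · by_cases hy : h.y = 1
      · rw [hy]; exact one_mem _
      · rw [e h.y, ← κ_ne _ hy]; exact mul_mem m2 m1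
    all_goals exact subset_closure (by simp)
  · rintro _ (rfl | rfl | rfl | rfl | rfl | rfl | rfl)
    pick_goal 2
    · by_cases hy : h.y = 1
      · rw [κ_eq _ hy]; exact one_mem _
      · rw [κ_ne _ hy]; exact mul_mem (subset_closure (by simp)) (subset_closure (by simp))
    pick_goal 3
    · exact mul_mem (subset_closure (by simp)) (subset_closure (by simp))
    all_goals exact subset_closure (by simp)

end Cfsg.Agent.H16.LTH
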