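import Cfsg.Agent.H16.LTH1
import Cfsg.Agent.H19.MWKit4

/-! # Type H: the centraliser of `W` in `N(R)` -/

set_option autoImplicit false

namespace Cfsg.Agent.H16.LTH
open Subgroup Cfsg.Agent.H85 Cfsg.Agent.H36.LTS

variable {G : Type*} [Group G]

local notation "C[" A "]" => Subgroup.centralizer (SetLike.coe A)
local notation "N[" A "]" => Subgroup.normalizer (SetLike.coe A)

/-- the elements `r` and `p` -/
structure PK (t z f a b k m κ r p : G) : Prop extends RK t z f a b k m κ where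
  rr : Rr t z f a r
  kr : cv k r = m
  mr : cv m r = m * (k * (z * a))
  κr : cv κ r = κ
  zp : Commute z p
  ap : Commute a p
  bp : Commute b p
  kp : Commute k p
  fp : cv f p = z * f
  tp : cv t p = t * k
  mp : cv m p = m ∨ cv m p = m * z
  κp : κ ≠ 1 → cv κ p = κ * (k * f)
  pp : p * p = k * z
  sp : ∀ c ∈ N[RR t z f a k m κ], t⁻¹ * cv t c ∈ WW z f a →
    ∃ u ∈ KK z f a k m κ, cv t (c * u) = t ∧ cv f (c * u) = f

/-- `v` is the translation of an element of `C_{N(R)}(W)` -/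
def Tr (t z f a k m κ v : G) : Prop := ∃ c ∈ N[RR t z f a k m κ], (∀ w ∈ WW z f a, cv w c = w) ∧
  (t⁻¹ * cv t c) * (t⁻¹ * cv t c) = v

variable {t z f a b k m κ r p : G}

theorem RK.tr_cj (R : RK t z f a b k m κ) {v d : G} (h : Tr t z f a k m κ v)
    (hd : d ∈ N[RR t z f a k m κ]) : Tr t z f a k m κ (cv v d) := by
  obtain ⟨c, hc, hW, rfl⟩ := h
  refine ⟨cv c d, cv_mem hc hd, fun w hw => ?_, ?_⟩
  · rw [cv_cv', hW _ (R.nW (inv_mem hd) hw), ← cv_cv, inv_mul_cancel, cv_one']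
  · have hu := R.tK (inv_mem hd)
    have hk := R.tK hc
    have e : t⁻¹ * cv t (cv c d) =
        cv ((t⁻¹ * cv t d⁻¹)⁻¹ * (t⁻¹ * cv t c) * cv (t⁻¹ * cv t d⁻¹) c) d := by
      simp only [cv]; group
    generalize t⁻¹ * cv t d⁻¹ = u at hu e
    generalize t⁻¹ * cv t c = s at hk e
    rw [e, ← cv_mul, R.sq_mul (mul_mem (inv_mem hu) hk) (R.nK hc hu), R.sq_mul (inv_mem hu) hk,
      ← cv_mul, hW _ (R.sqK hu), ← mul_inv_rev]
    exact congrArg (cv · d) (cv_of (R.cK (mul_mem hk hk) (mul_mem hu hu)))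

theorem RK.tr_mul (R : RK t z f a b k m κ) {v v' : G} (h : Tr t z f a k m κ v)
    (h' : Tr t z f a k m κ v') : Tr t z f a k m κ (v' * v) := by
  obtain ⟨c, hc, hW, rfl⟩ := h
  obtain ⟨d, hd, hW', rfl⟩ := h'
  refine ⟨c * d, mul_mem hc hd, fun w hw => by rw [cv_cv, hW w hw, hW' w hw], ?_⟩
  have e : t⁻¹ * cv t (c * d) = t⁻¹ * cv t d * cv (t⁻¹ * cv t c) d := by simp only [cv]; group
  rw [e, R.sq_mul (R.tK hd) (R.nK hd (R.tK hc)), ← cv_mul, hW' _ (R.sqK (R.tK hc))]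

namespace PK
variable (P : PK t z f a b k m κ r p)
include P

theorem pinv : p⁻¹ = p * k := by
  rw [inv_eq_iff_mul_eq_one, ← mul_assoc, P.pp]; ek P.toRK []

variable [Finite G]

theorem rN : r ∈ N[RR t z f a k m κ] := nrm_of fun _ => cv_closure (by
  rintro _ (rfl | rfl | rfl | rfl | rfl | rfl | rfl) <;>
    simp only [P.rr.rw, P.kr, P.mr, P.κr] <;> memc)

theorem pN : p ∈ N[RR t z f a k m κ] := nrm_of fun _ => cv_closure (by
  rintro s (rfl | rfl | rfl | rfl | rfl | rfl | rfl)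
  · rw [P.tp]; memc
  · by_cases e : s = 1
    · rw [e, cv_one]; exact one_mem _
    · rw [P.κp e]; memc
  · rcases P.mp with e | e <;> rw [e] <;> memc
  · rw [cv_of P.kp]; memc
  · rw [cv_of P.zp]; memc
  · rw [P.fp]; memc
  · rw [cv_of P.ap]; memc)

theorem not_tr : ¬ Tr t z f a k m κ z := by
  rintro ⟨c, hc, hW, e⟩
  have R := P.toRK
  have e1 : t⁻¹ * cv t (c * p) = k * cv (t⁻¹ * cv t c) p := by
    rw [cv_mul, cv_inv, P.tp, cv_cv]; group
  have hk := R.nK P.pN (R.tK hc)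
  obtain ⟨u, hu, -, e2⟩ := P.sp _ (mul_mem hc P.pN) (R.omK (R.tK (mul_mem hc P.pN)) (by
    rw [e1, R.sq_mul (by memc) hk, ← cv_mul, e, cv_of P.zp, R.kk, R.zz]))
  rw [cv_cv, cv_cv, hW f (by memc), P.fp, cv_of (R.cK (by memc) hu)] at e2
  eko R [] e2

theorem fixW {c : G} (hc : c ∈ N[RR t z f a k m κ]) (hW : ∀ w ∈ WW z f a, cv w c = w) :
    t⁻¹ * cv t c ∈ WW z f a := by
  have R := P.toRK
  have h : Tr t z f a k m κ _ := ⟨c, hc, hW, rfl⟩
  refine R.omK (R.tK hc) ?_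
  have h1 := R.tr_mul h (R.tr_cj h P.pN)
  have h2 := R.tr_cj h P.rN
  have h3 := R.tr_cj h2 P.rN
  have n := P.not_tr
  rcases R.toB1.memW (R.sqK (R.tK hc)) with e | e | e | e | e | e | e | e <;>
    rw [e] at h h1 h2 h3
  · exact e
  · exact absurd (by convert h1 using 1; rw [P.fp]; ek R []) n
  · exact absurd h n
  · exact absurd (by convert h1 using 1; rw [cv_mul, P.fp, cv_of P.zp]; ek R []) n
  · exact absurd (by convert h3 using 1; simp only [P.rr.rw, cv_mul]; ek R []) n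
  · exact absurd (by convert h1 using 1; rw [cv_mul, P.fp, cv_of P.ap]; ek R []) n
  · exact absurd (by convert h2 using 1; simp only [P.rr.rw, cv_mul]; ek R []) n
  · exact absurd (by
      convert h1 using 1; rw [cv_mul, cv_mul, P.fp, cv_of P.zp, cv_of P.ap]; ek R []) n

/-- `C_{N(R)}(W) = R × O` -/
theorem exists_O (syl : IsSyl 2 (closure {t, z, f, a}) C[closure ({t, z, f, a} : Set G)]) :
    ∃ O : Subgroup G, Odd (Nat.card O) ∧ O ≤ C[RR t z f a k m κ] ∧ N[RR t z f a k m κ] ≤ N[O] ∧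
      ∀ c ∈ N[RR t z f a k m κ], cv z c = z → cv f c = f → cv a c = a →
        ∃ u ∈ RR t z f a k m κ, ∃ o ∈ O, c = u * o := by
  haveI : Fact (Nat.Prime 2) := ⟨Nat.prime_two⟩
  have R := P.toRK
  obtain ⟨O1, o1, o2, o3⟩ := H19.MW.exists_odd_part
    (H8.isSylowIn_of_maximal syl.1 syl.2.1 fun Q a b c => (syl.2.2 Q a c b).le) le_rfl
  have mO : ∀ x, x ∈ O1 ⊓ C[RR t z f a k m κ] ↔ x ∈ C[RR t z f a k m κ] ∧ Odd (orderOf x) :=
    fun x => ⟨fun h => ⟨h.2, ((o2 x).1 h.1).2⟩,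
      fun h => ⟨(o2 x).2 ⟨centralizer_le RK.ER h.1, h.2⟩, h.1⟩⟩
  refine ⟨O1 ⊓ C[RR t z f a k m κ], o1.of_dvd_nat (card_dvd_of_le inf_le_left), inf_le_right,
    fun c hc => nrm_of fun x hx => (mO _).2 ⟨cv_nrm ((mO x).1 hx).1
      (normalizer_le_normalizer_centralizer _ hc), by rw [orderOf_cv]; exact ((mO x).1 hx).2⟩,
    fun c hc hz hf ha => ?_⟩
  have hW : ∀ w ∈ WW z f a, cv w c = w := fun w hw =>
    (cv_eq_closure (k := 1) (by rintro _ (rfl | rfl | rfl) <;> rwa [cv_one']) hw).trans (cv_one' w)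
  obtain ⟨u, hu, e, -⟩ := P.sp c hc (P.fixW hc hW)
  have hW' : ∀ w ∈ WW z f a, cv w (c * u) = w := fun w hw => by
    rw [cv_cv, hW w hw, cv_of (R.cK (RK.WK hw) hu)]
  have cE : c * u ∈ C[closure ({t, z, f, a} : Set G)] := mem_centralizer_iff.2 fun x hx => by
    obtain ⟨w, hw, rfl | rfl⟩ := R.toB1.memE hx
    · exact cm_of (hW' _ hw)
    · exact cm_of (by rw [cv_mul, e, hW' _ hw])
  obtain ⟨w, hw, ho⟩ := o3 _ cE
  obtain ⟨h1, h2⟩ := (o2 _).1 ho
  have hn : w * (c * u) ∈ N[RR t z f a k m κ] :=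
    mul_mem (le_normalizer (RK.ER hw)) (mul_mem hc (le_normalizer (RK.KR hu)))
  have hC : w * (c * u) ∈ C[RR t z f a k m κ] := mem_centralizer_iff.2 fun x hx =>
    cm_of (R.odd_cent h2 hn (cv_of (mem_centralizer_iff.1 h1 t m1))
      (fun v hv => cv_of (mem_centralizer_iff.1 h1 v (WE hv))) hx)
  refine ⟨w⁻¹ * u⁻¹, mul_mem (inv_mem (RK.ER hw)) (inv_mem (RK.KR hu)), _, ⟨ho, hC⟩, ?_⟩
  rw [mul_assoc, mem_centralizer_iff.1 hC _ (inv_mem (RK.KR hu))]
  group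

end PK

theorem eqns_LTH2 : True := by
  have := @Tr.eq_1.{0}
  trivial

end Cfsg.Agent.H16.LTH
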