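import Cfsg.Agent.H16.LTH2

/-! # Type H: the elements `q` and `ρ` -/

set_option autoImplicit false

namespace Cfsg.Agent.H16.LTH
open Subgroup Cfsg.Agent.H85 Cfsg.Agent.H36.LTS

variable {G : Type*} [Group G]

local notation "C[" A "]" => Subgroup.centralizer (SetLike.coe A)
local notation "N[" A "]" => Subgroup.normalizer (SetLike.coe A)

/-- the action of `q` on `R` -/
structure QK (t z f a k m κ p q : G) : Prop where
  zq : Commute z q
  aq : Commute a q
  mq : Commute m q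
  fq : cv f q = f * a
  tq : cv t q = t * m
  κq : κ ≠ 1 → cv κ q = κ * (m * f)
  qq : q * q = m * a
  kq : (cv m p = m ∧ cv k q = k) ∨ (cv m p = m * z ∧ cv k q = k * a)

/-- the four possibilities -/
def Var (t z f a b k m κ p q : G) : Prop :=
  (κ = 1 ∧ cv m p = m ∧ cv k q = k ∧
      ((cv p q = p ∧ cv b q = k * m * b * p) ∨
        (cv p q = z * a * p ∧ cv b q = z * a * f * k * m * b * p))) ∨
    (cv m p = m * z ∧ cv k q = k * a ∧
      ((cv p q = k * m * p ∧ cv b q = z * a * t * b * p) ∨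
        (cv p q = z * a * k * m * p ∧ cv b q = f * t * b * p)))

variable {t z f a b k m κ r p q : G}

theorem QK.qinv (h : QK t z f a k m κ p q) (R : RK t z f a b k m κ) : q⁻¹ = q * m := by
  rw [inv_eq_iff_mul_eq_one, ← mul_assoc, h.qq]; ek R []

/-- collection in `R⟨b, p⟩` -/
macro "ep" P:term:max e:term:max "[" ls:Lean.Parser.Tactic.simpLemma,* "]"
    loc:(Lean.Parser.Tactic.location)? : tactic =>
  `(tactic| ek (PK.toRK $P) [rs (PK.pp $P), PK.pinv $P, rc (PK.zp $P), rc (PK.ap $P), rc (PK.bp $P),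
    rc (PK.kp $P), rl (PK.fp $P), rl (PK.tp $P), rl $e, $ls,*] $(loc)?)

/-- collection with `q` -/
macro "eq2" P:term:max h:term:max e:term:max e':term:max "[" ls:Lean.Parser.Tactic.simpLemma,* "]"
    loc:(Lean.Parser.Tactic.location)? : tactic =>
  `(tactic| ep $P $e [rs (QK.qq $h), QK.qinv $h (PK.toRK $P), rc (QK.zq $h), rc (QK.aq $h),
    rc (QK.mq $h), rl (QK.fq $h), rl (QK.tq $h), rl $e', $ls,*] $(loc)?)

macro "epo" P:term:max e:term:max c:term:max : tactic =>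
  `(tactic| (have _e := inv_mul_eq_one.2 $c
             ep $P $e [B0.n (RK.toB0 (PK.toRK $P))] at _e
             done))

theorem QK.of_eq (h : QK t z f a k m κ p q) {q' : G}
    (e : ∀ u ∈ RR t z f a k m κ, cv u q' = cv u q) (qq : q' * q' = m * a) :
    QK t z f a k m κ p q' where
  zq := cm_of (by rw [e _ (by memc), cv_of h.zq])
  aq := cm_of (by rw [e _ (by memc), cv_of h.aq])
  mq := cm_of (by rw [e _ (by memc), cv_of h.mq])
  fq := by rw [e _ (by memc), h.fq]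
  tq := by rw [e _ (by memc), h.tq]
  κq := fun n => by rw [e _ (by memc), h.κq n]
  qq := qq
  kq := by rw [e k (by memc)]; exact h.kq

namespace PK
variable (P : PK t z f a b k m κ r p)
include P

theorem qk0 : QK t z f a k m κ p (cv p r) := by
  have R := P.toRK
  have z' : cv z r⁻¹ = z * a := cv_inv_of (by simp only [cv_mul, P.rr.rw]; ek R [])
  have k' : cv k r⁻¹ = m * (k * (z * a)) :=
    cv_inv_of (by simp only [cv_mul, P.rr.rw, P.kr, P.mr]; ek R [])
  refine ⟨cm_of ?_, cm_of ?_, cm_of ?_, ?_, ?_, fun n => ?_, ?_, ?_⟩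
  · rw [cv_cv', z', cv_of (P.zp.mul_left P.ap), ← z', ← cv_cv, inv_mul_cancel, cv_one']
  · rw [cv_cv', cv_inv_of P.rr.zr, cv_of P.zp, P.rr.zr]
  · rw [cv_cv', cv_inv_of P.kr, cv_of P.kp, P.kr]
  · rw [cv_cv', cv_inv_of P.rr.fr, P.fp]; simp only [cv_mul, P.rr.rw]; ek R []
  · rw [cv_cv', cv_inv_of P.rr.tr, P.tp, cv_mul, P.rr.tr, P.kr]
  · rw [cv_cv', cv_inv_of P.κr, P.κp n]; simp only [cv_mul, P.rr.rw, P.kr, P.κr]
  · rw [← cv_mul, P.pp, cv_mul, P.kr, P.rr.zr]
  · refine P.mp.imp (fun e => ⟨e, ?_⟩) fun e => ⟨e, ?_⟩ <;> rw [cv_cv', k'] <;>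
      simp only [cv_mul, e, cv_of P.kp, cv_of P.zp, cv_of P.ap, P.rr.rw, P.kr, P.mr] <;> ek R []

theorem qk_a (h : QK t z f a k m κ p q) : QK t z f a k m κ p (q * a) :=
  h.of_eq (fun u hu => by
    rw [← h.aq.eq, cv_cv, cv_of' (P.toRK.cW (by memc) hu)]) (by
    rcases h.kq with ⟨e, e'⟩ | ⟨e, e'⟩ <;> eq2 P h e e' [])

theorem cm_of_sq {v P0 : G} (hv : v ∈ WW z f a) (h0 : P0 ∈ RR t z f a k m κ)
    (e : P0 * p * v * (P0 * p * v) = P0 * p * (P0 * p)) : Commute v p := by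
  rw [mul_assoc, mul_right_inj, ← mul_assoc, ← mul_assoc, (P.toRK.cW hv h0).eq, mul_assoc,
    mul_assoc, mul_right_inj] at e
  rw [Commute, SemiconjBy, ← mul_left_inj v, mul_assoc, e, mul_assoc, P.toRK.sqW hv, mul_one]

theorem memV {v : G} (hv : v ∈ WW z f a) (c : Commute v p) :
    v = 1 ∨ v = z ∨ v = a ∨ v = z * a := by
  have c' := cv_of c
  rcases P.toRK.toB1.memW hv with e | e | e | e | e | e | e | e <;>
    simp only [e, true_or, or_true] <;> rw [e] at c' <;>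
    simp only [cv_mul, P.fp, cv_of P.zp, cv_of P.ap] at c' <;> eko P.toRK [] c'

set_option maxHeartbeats 1000000 in
theorem solveA (h : QK t z f a k m κ p q) (e : cv m p = m) (e' : cv k q = k) (n : κ = 1) {v w : G}
    (hv : v ∈ WW z f a) (hw : w ∈ WW z f a) (hp : cv p q = p * v)
    (hb : cv b q = k * m * b * p * w) : Var t z f a b k m κ p q ∨ Var t z f a b k m κ p (q * a) := by
  have R := P.toRK
  have c1 : Commute v p := P.cm_of_sq hv (P0 := 1) (one_mem _) (by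
    rw [one_mul, ← hp, ← cv_mul, P.pp, cv_mul, e', cv_of h.zq])
  have c2 : k * m * b * p * w * (k * m * b * p * w) = 1 := by rw [← hb, ← cv_mul, R.bb, cv_one]
  have c3 : k * m * b * p * w * (p * v) = p * v * (k * m * b * p * w) := by
    rw [← hb, ← hp]; exact (cm_cv P.bp q).eq
  have c4 : cv (k * m * b * p * w) q = cv b (m * a) := by rw [← hb, ← cv_cv, h.qq]
  have ka : cv k (q * a) = k := by rw [cv_cv, e', cv_of' R.ak]
  rcases R.toB1.memW hw with rfl | rfl | rfl | rfl | rfl | rfl | rfl | rfl <;>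
    (try (exfalso; epo P e c2)) <;>
    rcases P.memV hv c1 with rfl | rfl | rfl | rfl <;> (try (exfalso; epo P e c3)) <;>
    simp only [cv_mul, cv_one, hb, hp, e', cv_of h.zq, cv_of h.aq, cv_of h.mq, h.fq] at c4 <;>
    (try (exfalso; epo P e c4))
  · exact .inl (.inl ⟨n, e, e', .inl ⟨by rw [hp]; ep P e [], by rw [hb]; ep P e []⟩⟩)
  · exact .inr (.inl ⟨n, e, ka, .inl ⟨by rw [cv_cv, hp]; ep P e [], by rw [cv_cv, hb]; ep P e []⟩⟩)
  · exact .inr (.inl ⟨n, e, ka, .inr ⟨by rw [cv_cv, hp]; ep P e [], by rw [cv_cv, hb]; ep P e []⟩⟩)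
  · exact .inl (.inl ⟨n, e, e', .inr ⟨by rw [hp]; ep P e [], by rw [hb]; ep P e []⟩⟩)

set_option maxHeartbeats 1000000 in
theorem solveB (h : QK t z f a k m κ p q) (e : cv m p = m * z) (e' : cv k q = k * a) {v w : G}
    (hv : v ∈ WW z f a) (hw : w ∈ WW z f a) (hp : cv p q = k * m * p * v)
    (hb : cv b q = t * b * p * w) : Var t z f a b k m κ p q ∨ Var t z f a b k m κ p (q * a) := by
  have R := P.toRK
  have c1 : Commute v p := P.cm_of_sq hv (P0 := k * m) (by memc) (by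
    rw [← hp, ← cv_mul, P.pp, cv_mul, e', cv_of h.zq]; ep P e [])
  have c2 : t * b * p * w * (t * b * p * w) = 1 := by rw [← hb, ← cv_mul, R.bb, cv_one]
  have c3 : t * b * p * w * (k * m * p * v) = k * m * p * v * (t * b * p * w) := by
    rw [← hb, ← hp]; exact (cm_cv P.bp q).eq
  have c4 : cv (t * b * p * w) q = cv b (m * a) := by rw [← hb, ← cv_cv, h.qq]
  have ka : cv k (q * a) = k * a := by rw [cv_cv, e', cv_mul, cv_of' R.ak, cv_self]
  rcases R.toB1.memW hw with rfl | rfl | rfl | rfl | rfl | rfl | rfl | rfl <;>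
    (try (exfalso; epo P e c2)) <;>
    rcases P.memV hv c1 with rfl | rfl | rfl | rfl <;> (try (exfalso; epo P e c3)) <;>
    simp only [cv_mul, hb, hp, cv_of h.zq, cv_of h.aq, h.tq, h.fq] at c4 <;>
    (try (exfalso; epo P e c4))
  · exact .inr (.inr ⟨e, ka, .inr ⟨by rw [cv_cv, hp]; ep P e [], by rw [cv_cv, hb]; ep P e []⟩⟩)
  · exact .inl (.inr ⟨e, e', .inr ⟨by rw [hp]; ep P e [], by rw [hb]; ep P e []⟩⟩)
  · exact .inl (.inr ⟨e, e', .inl ⟨by rw [hp]; ep P e [], by rw [hb]; ep P e []⟩⟩)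
  · exact .inr (.inr ⟨e, ka, .inl ⟨by rw [cv_cv, hp]; ep P e [], by rw [cv_cv, hb]; ep P e []⟩⟩)

end PK

theorem eqns_LTH3 : True := by
  have := @Var.eq_1.{0}
  trivial

end Cfsg.Agent.H16.LTH
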