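import Cfsg.Agent.H16.LTH3

/-! # Type H: `HCStmt` -/

set_option autoImplicit false

namespace Cfsg.Agent.H16.LTH
open Subgroup Cfsg.Agent.H85 Cfsg.Agent.H36.LTS

local notation "C[" A "]" => Subgroup.centralizer (SetLike.coe A)
local notation "N[" A "]" => Subgroup.normalizer (SetLike.coe A)

section
variable {G : Type*} [Group G] [Finite G] {t z f a b k m κ r p q : G}

theorem adjust {V O : Subgroup G} (hV : IsPGroup 2 V) (hO : Odd (Nat.card O)) (hn : V ≤ N[O])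
    {g : G} (hg : ∀ v ∈ V, cv v g ∈ V ⊔ O) : ∃ o ∈ O, g * o ∈ N[V] := by
  obtain ⟨o, ho, e⟩ := H19.MW.adjust_odd hV hO hn (g := g⁻¹) fun v hv => by
    rw [inv_inv]; exact hg v hv
  exact ⟨o⁻¹, inv_mem ho, by simpa using inv_mem e⟩

theorem triv_of {V O : Subgroup G} (hV : IsPGroup 2 V) (hO : Odd (Nat.card O)) {o : G} (h1 : o ∈ V)
    (h2 : o ∈ O) : o = 1 := by
  obtain ⟨n, hn⟩ := H19.MW.two_of_mem hV h1
  exact H23.D2.eq_one_of_odd_two (H19.MW.odd_of_mem hO h2) hn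

omit [Finite G] in
theorem QK.qN [Finite G] (h : QK t z f a k m κ p q) : q ∈ N[RR t z f a k m κ] :=
  nrm_of fun _ => cv_closure (by
    rintro s (rfl | rfl | rfl | rfl | rfl | rfl | rfl)
    · rw [h.tq]; memc
    · by_cases e : s = 1
      · rw [e, cv_one]; exact one_mem _
      · rw [h.κq e]; memc
    · rw [cv_of h.mq]; memc
    · rcases h.kq with ⟨-, e⟩ | ⟨-, e⟩ <;> rw [e] <;> memc
    · rw [cv_of h.zq]; memc
    · rw [h.fq]; memc
    · rw [cv_of h.aq]; memc)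

namespace PK
variable (P : PK t z f a b k m κ r p)
include P

section
omit [Finite G]
variable (h : QK t z f a k m κ p q)
include h

theorem fix_p : cv z (p⁻¹ * cv p q) = z ∧ cv f (p⁻¹ * cv p q) = f ∧ cv a (p⁻¹ * cv p q) = a := by
  refine ⟨?_, ?_, ?_⟩ <;> rcases h.kq with ⟨e, e'⟩ | ⟨e, e'⟩ <;> eq2 P h e e' []

theorem fix_b : cv z ((b * p)⁻¹ * cv b q) = z ∧ cv f ((b * p)⁻¹ * cv b q) = f ∧
    cv a ((b * p)⁻¹ * cv b q) = a := by
  refine ⟨?_, ?_, ?_⟩ <;> rcases h.kq with ⟨e, e'⟩ | ⟨e, e'⟩ <;> eq2 P h e e' []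

theorem fA1 (e : cv m p = m) (e' : cv k q = k) :
    ∀ s ∈ [z, f, a, k, t], cv s (p⁻¹ * cv p q) = s := by
  simp only [List.forall_mem_cons]; refine ⟨?_, ?_, ?_, ?_, ?_, by simp⟩ <;> eq2 P h e e' []

theorem fA2 (e : cv m p = m) (e' : cv k q = k) :
    ∀ s ∈ [z, f, a, k, t], cv s ((k * m * b * p)⁻¹ * cv b q) = s := by
  simp only [List.forall_mem_cons]; refine ⟨?_, ?_, ?_, ?_, ?_, by simp⟩ <;> eq2 P h e e' []

theorem fA3 (e : cv m p = m) (e' : cv k q = k) (c : cv κ (p⁻¹ * cv p q) = κ) : κ = 1 := by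
  by_contra n
  obtain ⟨h1, h2⟩ := P.hκ.resolve_left n
  have _e := inv_mul_eq_one.2 c
  eq2 P h e e' [rs h1, inv4 h1 P.ff, rl h2, rl (P.κp n), rl (h.κq n), P.n] at _e

theorem fB1 (e : cv m p = m * z) (e' : cv k q = k * a) :
    ∀ s ∈ [z, f, a, k, t], cv s ((k * m * p)⁻¹ * cv p q) = s := by
  simp only [List.forall_mem_cons]; refine ⟨?_, ?_, ?_, ?_, ?_, by simp⟩ <;> eq2 P h e e' []

theorem fB2 (e : cv m p = m * z) (e' : cv k q = k * a) :
    ∀ s ∈ [z, f, a, k, t], cv s ((t * b * p)⁻¹ * cv b q) = s := by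
  simp only [List.forall_mem_cons]; refine ⟨?_, ?_, ?_, ?_, ?_, by simp⟩ <;> eq2 P h e e' []

end

theorem main (syl : IsSyl 2 (closure {t, z, f, a}) C[closure ({t, z, f, a} : Set G)]) :
    ∃ q ρ, QK t z f a k m κ p q ∧ Var t z f a b k m κ p q ∧
      (∀ u ∈ RR t z f a k m κ, cv u ρ = cv u r) ∧
      ρ ∈ N[(RR t z f a k m κ ⊔ closure {p, q} : Subgroup G)] ∧ (cv p ρ = q ∨ cv p ρ = q * a) := by
  have R := P.toRK
  obtain ⟨O, oO, OC, NO, hN⟩ := P.exists_O syl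
  have cO : ∀ o ∈ O, ∀ u ∈ RR t z f a k m κ, cv u o = u := fun o ho u hu =>
    cv_of (mem_centralizer_iff.1 (OC ho) u hu)
  have g1 : ∀ {S : Set G} {g : G}, g ∈ N[RR t z f a k m κ] → RR t z f a k m κ ≤ closure S →
      ∀ s ∈ ({t, κ, m, k, z, f, a} : Set G), cv s g ∈ closure S := fun hg hS s hs =>
    hS (cv_nrm (subset_closure hs) hg)
  set Q : Subgroup G := closure (insert p (insert b {t, κ, m, k, z, f, a})) with hQ
  have RQ1 : RR t z f a k m κ ≤ closure (insert b {t, κ, m, k, z, f, a}) :=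
    closure_mono (Set.subset_insert _ _)
  have RQ : RR t z f a k m κ ≤ Q := RQ1.trans (closure_mono (Set.subset_insert _ _))
  have pQ : IsPGroup 2 Q := pg_ins (pg_ins R.pR (R.bb ▸ one_mem _) (g1 R.bN le_rfl))
    (by rw [P.pp]; memc) (by
      rintro s (rfl | hs)
      · rw [cv_of P.bp]; exact m1
      · exact g1 P.pN RQ1 s hs)
  have QN : Q ≤ N[RR t z f a k m κ] := (closure_le _).2 (by
    rintro s (rfl | rfl | hs)
    exacts [P.pN, R.bN, le_normalizer (subset_closure hs)])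
  have mp : p ∈ Q := m1
  have mb : b ∈ Q := m2
  -- cosets of `R O`
  have cos : ∀ {V : Subgroup G} {c d : G}, RR t z f a k m κ ≤ V → c ∈ V →
      c ∈ N[RR t z f a k m κ] → d ∈ N[RR t z f a k m κ] → cv z (c⁻¹ * d) = z →
      cv f (c⁻¹ * d) = f → cv a (c⁻¹ * d) = a → d ∈ V ⊔ O := fun hV hc c1 d1 e1 e2 e3 => by
    obtain ⟨u, hu, o, ho, e⟩ := hN _ (mul_mem (inv_mem c1) d1) e1 e2 e3
    rw [inv_mul_eq_iff_eq_mul.1 e]
    exact mul_mem (mem_sup_left hc) (mul_mem (mem_sup_left (hV hu)) (mem_sup_right ho))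
  have h0 := P.qk0
  generalize hp' : cv p r = p' at h0
  obtain ⟨o1, ho1, n1⟩ := adjust pQ oO (QN.trans NO) (g := p') fun _ hv => cv_closure (by
    rintro s (rfl | rfl | hs)
    · exact cos RQ mp P.pN (cv_mem P.pN h0.qN) (P.fix_p h0).1 (P.fix_p h0).2.1 (P.fix_p h0).2.2
    · exact cos RQ (mul_mem mb mp) (mul_mem R.bN P.pN) (cv_mem R.bN h0.qN) (P.fix_b h0).1
        (P.fix_b h0).2.1 (P.fix_b h0).2.2
    · exact mem_sup_left (g1 h0.qN RQ s hs)) hv
  -- removing the odd part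
  have e1 : m * (p' * o1 * (p' * o1)) = cv o1 p' * o1 := by
    have : m * (p' * p') = 1 := by rw [h0.qq]; ek R []
    calc _ = m * (p' * p') * (cv o1 p' * o1) := by rw [cv]; group
      _ = _ := by rw [this, one_mul]
  have ho2 : m * (p' * o1 * (p' * o1)) ∈ O := e1 ▸ mul_mem (cv_nrm ho1 (NO h0.qN)) ho1
  have n2 : m * (p' * o1 * (p' * o1)) ∈ N[Q] :=
    mul_mem (le_normalizer (RQ (by memc))) (mul_mem n1 n1)
  have c2 : Commute (m * (p' * o1 * (p' * o1))) (p' * o1) :=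
    (h0.mq.mul_right (cm_of (cO _ ho1 m (by memc)))).mul_left
      ((Commute.refl _).mul_left (Commute.refl _))
  have e2 : p' * o1 * (p' * o1) = m * a * (m * (p' * o1 * (p' * o1))) := by
    rw [← mul_assoc (m * a), show m * a * m = 1 by ek R [], one_mul]
  generalize m * (p' * o1 * (p' * o1)) = o2 at ho2 n2 c2 e2
  obtain ⟨j, hj⟩ := H19.MW.odd_of_mem oO ho2
  obtain ⟨q, hq⟩ : ∃ q, q = p' * (o1 * o2 ^ j) := ⟨_, rfl⟩
  have ho : o1 * o2 ^ j ∈ O := mul_mem ho1 (pow_mem ho2 j)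
  have nq : q ∈ N[Q] := by rw [hq, ← mul_assoc]; exact mul_mem n1 (pow_mem n2 j)
  have h : QK t z f a k m κ p q := h0.of_eq
    (fun u hu => by rw [hq, cv_cv, cO _ ho _ (cv_nrm hu h0.qN)]) (by
      rw [hq, ← mul_assoc p' o1, mul_assoc _ (o2 ^ j), ← mul_assoc (o2 ^ j), (c2.pow_left j).eq,
        ← mul_assoc, ← mul_assoc, e2, mul_assoc, mul_assoc, ← pow_add, ← pow_succ', ← two_mul, ← hj,
        pow_orderOf_eq_one, mul_one])
  generalize o1 * o2 ^ j = o at hq ho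
  -- the group `N₂`
  have RN : RR t z f a k m κ ≤ RR t z f a k m κ ⊔ closure {p, q} := le_sup_left
  have pm : p ∈ RR t z f a k m κ ⊔ closure {p, q} := mem_sup_right m1
  have qm : q ∈ RR t z f a k m κ ⊔ closure {p, q} := mem_sup_right (subset_closure (.inr rfl))
  have p2 : IsPGroup 2 (RR t z f a k m κ ⊔ closure {p, q} : Subgroup G) :=
    (pg_ins pQ (by rw [h.qq]; memc) fun s hs => cv_nrm (subset_closure hs) nq).to_le
      (sup_le (RQ.trans (closure_mono (Set.subset_insert _ _)))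
        ((closure_le _).2 (by rintro _ (rfl | rfl); exacts [m2, m1])))
  have N2 : RR t z f a k m κ ⊔ closure {p, q} ≤ N[RR t z f a k m κ] :=
    sup_le le_normalizer ((closure_le _).2 (by rintro _ (rfl | rfl); exacts [P.pN, h.qN]))
  have z' : cv z r⁻¹ = z * a := cv_inv_of (by simp only [cv_mul, P.rr.rw]; ek R [])
  obtain ⟨o3, ho3, n3⟩ := adjust p2 oO (N2.trans NO) (g := r) fun _ hv => cv_closure
    (S := {t, κ, m, k, z, f, a} ∪ {p, q}) (by
    rintro s (hs | rfl | rfl)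
    · exact mem_sup_left (RN (g1 P.rN le_rfl s hs))
    · rw [hp', eq_mul_inv_of_mul_eq hq.symm]
      exact mul_mem (mem_sup_left qm) (mem_sup_right (inv_mem ho))
    · refine cos RN (mul_mem pm qm) (mul_mem P.pN h.qN) (cv_mem h.qN P.rN) ?_ ?_ ?_
      · rw [cv_cv, cv_of (P.zp.mul_right h.zq).inv_right, cv_cv', z',
          cv_of (h.zq.mul_left h.aq), ← z', ← cv_cv, inv_mul_cancel, cv_one']
      · have : cv (z * (f * a)) (p * s) = f := by
          simp only [cv_mul, cv_cv, cv_of P.zp, cv_of P.ap, P.fp, cv_of h.zq, cv_of h.aq, h.fq]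
          ek R []
        rw [cv_cv, cv_inv_of this, cv_cv']
        simp only [cv_mul, z', cv_inv_of P.rr.fr, cv_inv_of P.rr.zr, cv_of h.zq, cv_of h.aq, h.fq,
          P.rr.rw]
        ek R []
      · rw [cv_cv, cv_of (P.ap.mul_right h.aq).inv_right, cv_cv', cv_inv_of P.rr.zr, cv_of h.zq,
          P.rr.zr]) (by rwa [Subgroup.closure_union])
  have pρ : cv p (r * o3) = q := by
    have := triv_of p2 oO (mul_mem (inv_mem qm) (cv_nrm pm n3)) (by
      have e : q⁻¹ * cv p (r * o3) = o⁻¹ * (cv o3⁻¹ p' * o3) := by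
        rw [cv_cv, hp', hq]; simp only [cv]; group
      rw [e]
      exact mul_mem (inv_mem ho) (mul_mem (cv_nrm (inv_mem ho3) (NO h0.qN)) ho3))
    exact (inv_mul_eq_one.1 this).symm
  have ρR : ∀ u ∈ RR t z f a k m κ, cv u (r * o3) = cv u r := fun u hu => by
    rw [cv_cv, cO _ ho3 _ (cv_nrm hu P.rN)]
  -- the relations
  have inW : ∀ {c d : G}, c ∈ Q → d ∈ Q → (∀ s ∈ [z, f, a, k, t], cv s (c⁻¹ * cv d q) = s) →
      ∃ w ∈ WW z f a, cv d q = c * w := fun {c d} hc hd hs => by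
    have m1 := mul_mem (inv_mem hc) (cv_nrm hd nq)
    obtain ⟨u, hu, o, ho, e⟩ := hN _ (QN m1) (hs _ (by simp)) (hs _ (by simp)) (hs _ (by simp))
    have : o = 1 := triv_of pQ oO ((mul_mem_cancel_left (RQ hu)).1 (e ▸ m1)) ho
    rw [this, mul_one] at e
    exact ⟨_, R.cenR (e ▸ hu) (hs _ (by simp)) (hs _ (by simp)), (mul_inv_cancel_left _ _).symm⟩
  have var : Var t z f a b k m κ p q ∨ Var t z f a b k m κ p (q * a) := by
    rcases h.kq with ⟨e, e'⟩ | ⟨e, e'⟩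
    · obtain ⟨v, hv, hp⟩ := inW mp mp (P.fA1 h e e')
      obtain ⟨w, hw, hb⟩ := inW (c := k * m * b * p) (by memc) mb (P.fA2 h e e')
      refine P.solveA h e e' (P.fA3 h e e' ?_) hv hw hp hb
      rw [hp, inv_mul_cancel_left, cv_of' (R.cW hv m2)]
    · obtain ⟨v, hv, hp⟩ := inW (c := k * m * p) (by memc) mp (P.fB1 h e e')
      obtain ⟨w, hw, hb⟩ := inW (c := t * b * p) (by memc) mb (P.fB2 h e e')
      exact P.solveB h e e' hv hw hp hb
  rcases var with v | v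
  · exact ⟨q, _, h, v, ρR, n3, .inl pρ⟩
  · refine ⟨q * a, _, P.qk_a h, v, ρR, ?_, .inr (by rw [pρ, mul_assoc, R.aa, mul_one])⟩
    have ma : a ∈ RR t z f a k m κ := by memc
    convert n3 using 3
    refine le_antisymm (sup_le RN ((closure_le _).2 ?_)) (sup_le le_sup_left ((closure_le _).2 ?_))
    · rintro _ (rfl | rfl)
      exacts [pm, mul_mem qm (RN ma)]
    · rintro _ (rfl | rfl)
      · exact mem_sup_right m1
      · exact (mul_mem_cancel_right (mem_sup_left ma)).1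
          (mem_sup_right (subset_closure (.inr rfl)))

end PK
end

open Cfsg.Agent.H93.LT

universe u

theorem pk {G : Type u} [Group G] [Finite G] {h : H2 G} (K : Kit h.toHyp) (hs : SPStmt.{u}) :
    PK h.t h.z h.f h.a h.b (h.x * h.t) h.m h.κ h.r h.p := by
  have R := rk (h := h.toHH) K
  have n : h.κ ≠ 1 → h.y ≠ 1 := fun n e => n (κ_eq _ e)
  refine { R with
    rr := rr _, kr := h.xr, mr := ?_, κr := ?_, zp := h.pz.symm, ap := h.pa.symm, bp := h.pb.symm,
    kp := h.pk.symm, fp := h.fp.trans R.fz.eq, tp := h.tp, mp := h.mp, κp := fun e => ?_,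
    pp := h.pp.trans (inv4 R.kk R.zz), sp := fun c hc e => ?_ }
  · exact (h.mr.trans h.mb.symm).trans R.mb
  · by_cases hy : h.y = 1
    · rw [κ_eq _ hy, cv_one]
    · rw [κ_ne _ hy]; exact cv_of' (h.yr.mul_right h.rt)
  · have := h.κp (n e)
    rw [← κ_ne _ (n e), inv4 (R.hκ.resolve_left e).1 R.ff] at this
    exact this.trans (by rw [mul_assoc, R.fk.eq])
  · rw [← R_eq] at hc
    obtain ⟨u, hu, v, hv, e'⟩ := hs G h.toHH c hc e
    refine ⟨u, K_eq h.toTT ▸ hu, (e' _ m1).trans (cv_of' (cm_closure ?_ hv)),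
      (e' _ m3).trans (cv_of' (cm_closure ?_ hv))⟩
    · rintro _ (rfl | rfl); exacts [h.tb.symm, h.rt]
    · rintro _ (rfl | rfl); exacts [h.fb.symm, h.rf]

theorem hc (hk : KitStmt.{u}) (hs : SPStmt.{u}) : HCStmt.{u} := by
  intro G _ _ h
  have K := hk G h.toHyp
  have P := pk K hs
  have R := P.toRK
  obtain ⟨q, ρ, Q, v, h1, h2, h3⟩ := P.main K.sylE1
  rw [← R_eq] at h1 h2
  refine ⟨{ h with
    q := q, ρ := ρ, qz := Q.zq.symm, qa := Q.aq.symm, qm := Q.mq.symm, fq := Q.fq, tq := Q.tq,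
    κq := fun hy => ?_, qq := Q.qq.trans (inv4 R.mm R.aa).symm, var := ?_, ρR := h1, ρN := h2,
    pρ := h3 }⟩
  · have n : h.κ ≠ 1 := fun e => by
      have := ty_of _ hy
      rw [κ_ne _ hy, mul_eq_one_iff_eq_inv, (ri h.tt).1] at e
      rw [e, cv_self] at this
      eko R [] this
    rw [← κ_ne _ hy, inv4 (R.hκ.resolve_left n).1 R.ff, mul_assoc, R.fm.eq]
    exact Q.κq n
  · refine v.imp (fun v => ⟨by_contra fun hy => ?_, v.2⟩) id
    have := ty_of _ hy
    have e := v.1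
    rw [κ_ne _ hy, mul_eq_one_iff_eq_inv, (ri h.tt).1] at e
    rw [e, cv_self] at this
    eko R [] this

end Cfsg.Agent.H16.LTH
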