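import Cfsg.Agent.H16.Ly0
import Cfsg.Agent.H16.UnbX
import Cfsg.Agent.H19.MWKit4
import Cfsg.Agent.H5.FPFSolvable
import Cfsg.Agent.H52.Fitting
import Cfsg.Agent.S3100

/-! # Recognition: the simple normal subgroup and the branch of `Ly` -/

set_option autoImplicit false
open scoped Pointwise commutatorElement
open Subgroup

namespace Cfsg.Agent.H16.LY
open Cfsg.Agent.H24.MH Cfsg.Agent.H23.D2 Cfsg.Agent.H8
open Cfsg.Agent.H19.MW hiding Ctx DW Wr EC CtxStmt
open Cfsg.Agent.H42 (tb)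
open Cfsg.Agent.H16.Unb (XG)

local notation "C[" A "]" => Subgroup.centralizer (SetLike.coe A)
local notation "N[" A "]" => Subgroup.normalizer (SetLike.coe A)

universe u

/-- the branch of `McL` -/
def McStmt : Prop :=
  ∀ (Y : Type u) [Group Y] [Finite Y] (σ τ : ℕ → Y) (S : Subgroup Y), RC σ τ S →
    ∀ (N : Subgroup Y) [N.Normal] [IsSimpleGroup N], IsSylowIn 2 (T0 σ) N →
      (∀ A, tb m7 A = true → ∃ g ∈ N, Act σ g A) → Spor.IsoMcL N

namespace RC
variable {Y : Type*} [Group Y] {σ τ : ℕ → Y} {S : Subgroup Y} (h : RC σ τ S)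
include h

theorem T0_le : T0 σ ≤ S := by
  rcases h.two with e | ⟨r, -, -, -, e, -⟩
  · exact e.ge
  · exact e ▸ le_sup_left

theorem one_ne : σ 1 ≠ 1 := fun e => by
  have := (h.tm.eq_one (n := 1) (by norm_num)).1 e
  omega

theorem zS {x : Y} (hx : x ∈ S) (hc : x ∈ C[T0 σ]) : x = 1 ∨ x = σ 1 := by
  rcases h.two with e | ⟨r, rn, rv, rr, e, -⟩
  · exact h.tm.center (e ▸ hx) hc
  · rcases (mem_sup_t rr rn).1 (e ▸ hx) with k | k
    · exact h.tm.center k hc
    · refine absurd ?_ rv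
      have a : x ∈ N[VV σ] :=
        centralizer_le_normalizer _ (centralizer_le (VV_le_T0 σ) hc)
      have := mul_mem (inv_mem a) (h.tm.T0_le_NV k)
      rwa [inv_mul_cancel_left] at this

omit h in
theorem orbit {A : Subgroup Y} {ρ : ℕ → Y} (B : B0 A ρ)
    (real : ∀ M, tb m7 M = true → ∃ g, Act ρ g M) {N : Subgroup Y} [hN : N.Normal] {x : Y}
    (hx : x ∈ A) (x1 : x ≠ 1) (xN : x ∈ N) : A ≤ N := by
  have key : ∀ v < 16, v ≠ 0 → (ρ v ∈ N ↔ ρ 1 ∈ N) := fun v hv h0 => by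
    obtain ⟨M, hM, e⟩ := tr7 hv h0
    obtain ⟨g, a⟩ := real M hM
    have := a.2 1 (by norm_num)
    rw [e] at this
    rw [← this]
    exact hN.mem_comm_iff.trans (by rw [← mul_assoc, inv_mul_cancel, one_mul])
  obtain ⟨u, hu, rfl⟩ := B.surj x hx
  have u0 : u ≠ 0 := fun e => x1 (e ▸ B.mul.zero)
  intro y hy
  obtain ⟨v, hv, rfl⟩ := B.surj y hy
  by_cases v0 : v = 0
  · rw [v0, B.mul.zero]; exact one_mem _
  · exact (key v hv v0).2 ((key u hu u0).1 xN)

section
variable {N : Subgroup Y} [hN : N.Normal] (h1 : σ 1 ∈ N)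
include hN h1

theorem V_le : VV σ ≤ N :=
  orbit h.tm.bV h.real ((h.tm.th_VV (by norm_num)).2 (by norm_num)) h.one_ne h1

theorem U_le : UU σ ≤ N :=
  orbit h.bU h.realU ((h.tm.th_UU (by norm_num)).2 (by norm_num)) h.one_ne h1

theorem real_in {A : ℕ} (hA : tb m7 A = true) : ∃ g ∈ N, Act σ g A := by
  refine gen7 (P := fun A => ∃ g ∈ N, Act σ g A) ?_ ?_ ?_ hA
  · rintro A B ⟨a, aN, ha⟩ ⟨b, bN, hb⟩
    exact ⟨a * b, mul_mem aN bN, ha.mul hb⟩
  · rintro A B B' hB hB' e ⟨a, aN, ha⟩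
    obtain ⟨g, hg⟩ := h.real B hB
    exact ⟨g * (a * g⁻¹), by rw [← mul_assoc]; exact hN.conj_mem a aN g,
      hg.mul (ha.mul (hg.inv e (m7_lt hB')))⟩
  · exact ⟨σ 16, h.U_le h1 ((h.tm.th_UU (by norm_num)).2 (by norm_num)),
      (h.tm.act (by norm_num)).of_eq am_16⟩

theorem T0_le_N [Finite Y] : T0 σ ≤ N := by
  refine sp_le fun n hn _ => ?_
  obtain ⟨g, gN, a⟩ := h.real_in h1 (am_mem n hn)
  obtain ⟨v, hv, o⟩ := h.cen _ (h.tm.bV.same a (h.tm.act hn))
  refine two_mem_of_odd ⟨3, h.tm.pow_eight hn⟩ o (by rw [normalizer_eq_top]; trivial) ?_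
  have : σ n * (v * (g⁻¹ * σ n))⁻¹ = g * v⁻¹ := by group
  rw [this]
  exact mul_mem gN (inv_mem (h.V_le h1 hv))

/-- a nontrivial normal subgroup of `N` contains the central involution -/
theorem one_mem_of [Finite Y] {M : Subgroup Y} (le : M ≤ N) (n : N ≤ N[M]) (ne : M ≠ ⊥) :
    σ 1 ∈ M := by
  haveI : Fact (Nat.Prime 2) := ⟨Nat.prime_two⟩
  have s : IsSylowIn 2 (S ⊓ N) (⊤ ⊓ N) :=
    h.syl.inf_of_le_normalizer (by rw [normalizer_eq_top])
  rw [top_inf_eq] at s
  have s2 := s.inf_of_le_normalizer n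
  rw [inf_eq_right.2 le] at s2
  have ne2 : S ⊓ N ⊓ M ≠ ⊥ := fun e => by
    have nd := s2.not_dvd
    rw [e, relIndex_bot_left] at nd
    have := (H52.le_map_pPrimeCore_subtype (p := 2) le n
      ((Nat.coprime_comm.1 ((Nat.Prime.coprime_iff_not_dvd Nat.prime_two).2 nd)))).trans
      (H52.map_pPrimeCore_subtype_le_of_subnormal (Normal.isSubnormal hN))
    rw [h.core] at this
    exact ne (le_bot_iff.1 this)
  have T : T0 σ ≤ S ⊓ N := le_inf h.T0_le (h.T0_le_N h1)
  have nn : T0 σ ≤ N[(S ⊓ N ⊓ M : Subgroup Y)] := fun x hx => by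
    have a : x ∈ N[(S ⊓ N : Subgroup Y)] := le_normalizer (T hx)
    have b : x ∈ N[M] := n (T hx).2
    rw [mem_normalizer_iff] at a b ⊢
    intro y
    exact and_congr (a y) (b y)
  obtain ⟨z, hz, z1, hc⟩ :=
    H5.exists_ne_one_mem_centralizer_of_isPGroup h.tm.isPGroup s2.isPGroup ne2 nn
  rcases h.zS hz.1.1 (mem_centralizer_iff.2 hc) with e | e
  · exact absurd e z1
  · exact e ▸ hz.2

end

theorem simple [Finite Y] {N : Subgroup Y} (hNd : N = normalClosure {σ 1}) :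
    IsSimpleGroup N := by
  haveI : N.Normal := hNd ▸ normalClosure_normal
  have h1 : σ 1 ∈ N := hNd ▸ subset_normalClosure rfl
  haveI : Nontrivial N := ⟨⟨⟨σ 1, h1⟩, 1, fun e => h.one_ne (congrArg Subtype.val e)⟩⟩
  refine ⟨fun H hH => ?_⟩
  by_cases hb : H = ⊥
  · exact Or.inl hb
  right
  have le : H.map N.subtype ≤ N := map_subtype_le H
  have n : N ≤ N[H.map N.subtype] := fun x hx => by
    refine mem_normalizer_of_conj_smul_le fun y hy => ?_
    obtain ⟨w, hw, e⟩ := mem_conj_smul.1 hy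
    refine ⟨⟨x, hx⟩ * w * ⟨x, hx⟩⁻¹, hH.conj_mem w hw _, ?_⟩
    have e' : (w : Y) = x⁻¹ * y * x := e
    show x * (w : Y) * x⁻¹ = y
    rw [e']; group
  have ne : H.map N.subtype ≠ ⊥ := fun e =>
    hb ((map_eq_bot_iff_of_injective H N.subtype_injective).1 e)
  have core : σ 1 ∈ (H.map N.subtype).normalCore := fun g => by
    have gN : MulAut.conj g⁻¹ • N = N :=
      mem_normalizer_iff_conj_smul_eq.1 (by rw [normalizer_eq_top]; trivial)
    have := h.one_mem_of h1 (M := MulAut.conj g⁻¹ • H.map N.subtype)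
      ((pointwise_smul_le_pointwise_smul_iff.2 le).trans gN.le)
      (by rw [normalizer_conj_smul]; exact gN.ge.trans (pointwise_smul_le_pointwise_smul_iff.2 n))
      (fun e => ne (by
        have := congrArg (fun K => MulAut.conj g • K) e
        simpa only [conj_smul_conj_inv_smul, smul_bot] using this))
    simpa only [mem_conj_smul, inv_inv] using this
  have : N ≤ H.map N.subtype := hNd.le.trans <|
    (normalClosure_le_normal (Set.singleton_subset_iff.2 core)).trans (normalCore_le _)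
  rw [eq_top_iff]
  intro x _
  obtain ⟨w, hw, e⟩ := this x.2
  exact (Subtype.ext e : w = x) ▸ hw

end RC

theorem rec_of (hM : McStmt.{u}) : RecStmt.{u} := by
  intro Y _ _ σ τ S h
  haveI : Fact (Nat.Prime 2) := ⟨Nat.prime_two⟩
  have h1 : σ 1 ∈ normalClosure {σ 1} := subset_normalClosure rfl
  haveI := h.simple rfl
  set N := normalClosure ({σ 1} : Set Y) with hNd
  have T := h.T0_le_N h1
  refine ⟨N, inferInstance, T, ?_⟩
  have s : IsSylowIn 2 (S ⊓ N) (⊤ ⊓ N) :=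
    h.syl.inf_of_le_normalizer (by rw [normalizer_eq_top])
  rw [top_inf_eq] at s
  have mc : S ⊓ N = T0 σ → XG 8 N ∨ XG 11 N := fun e =>
    Or.inl (Unb.XG.mcl.2 (hM Y σ τ S h N (e ▸ s) fun A hA => h.real_in h1 hA))
  rcases h.two with e | ⟨r, rn, -, rr, e, P, ⟨f⟩⟩
  · exact mc (by rw [e]; exact inf_eq_left.2 T)
  by_cases rN : r ∈ N
  · have le : S ≤ N := e ▸ sup_le T (zpowers_le.2 rN)
    rw [inf_eq_left.2 le] at s
    refine Or.inr (Unb.XG.ly.2 (S3100.result (fun hc => ?_) s.toSylow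
      ⟨P, ⟨(subgroupOfEquivOfLe le).trans f⟩⟩))
    have a := T (th_T0 σ (n := 64) (by norm_num))
    have b := T (th_T0 σ (n := 2) (by norm_num))
    have := congrArg Subtype.val (hc.is_comm.comm (⟨_, a⟩ : N) ⟨_, b⟩)
    have := comm_two 64 (by norm_num) ((h.tm.comm_iff (by norm_num) (by norm_num)).1 this)
    omega
  · refine mc (le_antisymm (fun x hx => ?_) (le_inf h.T0_le T))
    rcases (mem_sup_t rr rn).1 (e ▸ hx.1) with k | k
    · exact k
    · refine absurd ?_ rN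
      have := mul_mem (inv_mem (mem_inf.1 hx).2) (T k)
      rwa [inv_mul_cancel_left] at this

theorem eqns_Ly7 : True := by
  have := @McStmt.eq_1.{0}
  trivial

end Cfsg.Agent.H16.LY
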