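import Mathlib
import Cfsg.Agent.H16.PairGen

/-! Simple groups with a cyclic Sylow `p`-subgroup have two elements of order `p` generating a
subgroup that is not `p`-solvable. -/

namespace Cfsg.Agent.H16

open Cfsg.Agent.H17 (Cg)
open Cfsg.Agent.H20
open Cfsg.Agent.H21 (triv)
open Subgroup (zpowers closure)

universe u

variable {p : ℕ} {M : Ideal AlgInt} {G : Type u} [Group G] {B : Set (IrrCharacter G)} {q e : ℕ}
  {X Y : Finset (IrrCharacter G)} {ε : IrrCharacter G → ℤ} {δ : ℤ}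

theorem CycTab.neg (t : CycTab p B q e X Y ε δ) : CycTab p B q e X Y (-ε) (-δ) :=
  { t with
    sign := fun χ => by rcases t.sign χ with h | h <;> simp [h]
    sgn := by rcases t.sgn with h | h <;> simp [h]
    reg := fun ψ hψ g hg => by simp [t.reg ψ hψ g hg]
    singX := fun χ hχ ξ hξ g hg => by simp [t.singX χ hχ ξ hξ g hg]
    singY := fun χ hχ g hg => by
      simp only [Pi.neg_apply, Int.cast_neg]
      linear_combination -t.singY χ hχ g hg
    deg := fun χ hχ ξ hξ => by simpa using (t.deg χ hχ ξ hξ).neg }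

theorem CycTab.sign_sq (t : CycTab p B q e X Y ε δ) (χ : IrrCharacter G) :
    (ε χ : ℂ) * ε χ = 1 := by rcases t.sign χ with h | h <;> simp [h]

theorem CycTab.sgn_sq (t : CycTab p B q e X Y ε δ) : (δ : ℂ) * δ = 1 := by
  rcases t.sgn with h | h <;> simp [h]

theorem CycTab.finsum_eq (t : CycTab p B q e X Y ε δ) (f : IrrCharacter G → ℂ) :
    ∑ᶠ χ ∈ B, f χ = ∑ χ ∈ X, f χ + ∑ χ ∈ Y, f χ := by
  classical
  rw [← Finset.sum_union t.disj, ← finsum_mem_coe_finset]
  exact finsum_mem_congr (Set.ext fun χ => by simp [t.mem]) fun _ _ => rfl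

theorem CycTab.deg_Y (hp : p.Prime) (t : CycTab p B q e X Y ε δ) {ψ : IrrCharacter G}
    (hψ : ψ ∈ Y) : δ * charDegree ψ.1 = ∑ χ ∈ X, ε χ * charDegree χ.1 := by
  have := t.reg ψ hψ 1 (by simpa using hp.one_lt.ne')
  simp only [← H21.cast_deg] at this
  exact_mod_cast this

theorem CycTab.deg_Y_eq (hp : p.Prime) (t : CycTab p B q e X Y ε δ) {ψ ξ : IrrCharacter G}
    (hψ : ψ ∈ Y) (hξ : ξ ∈ Y) : charDegree ψ.1 = charDegree ξ.1 := by
  have := (t.deg_Y hp hψ).trans (t.deg_Y hp hξ).symm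
  rcases t.sgn with h | h <;> simpa [h] using this

theorem CycTab.apply_X (t : CycTab p B q e X Y ε δ) (h1 : triv G ∈ X) (h2 : ε (triv G) = 1)
    {χ : IrrCharacter G} (hχ : χ ∈ X) {g : G} (hg : p ∣ orderOf g) : χ.1 g = ε χ := by
  have := t.singX χ hχ _ h1 g hg
  rw [h2, H21.triv_apply, Int.cast_one] at this
  linear_combination ε χ * this - χ.1 g * t.sign_sq χ

theorem CycTab.sum_Y (t : CycTab p B q e X Y ε δ) (h1 : triv G ∈ X) (h2 : ε (triv G) = 1)
    {g : G} (hg : p ∣ orderOf g) : ∑ ψ ∈ Y, ψ.1 g = -δ := by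
  have := t.singY _ h1 g hg
  rw [h2, H21.triv_apply, Int.cast_one] at this
  linear_combination δ * this - (∑ ψ ∈ Y, ψ.1 g) * t.sgn_sq

theorem CycTab.sum_X_mul (t : CycTab p B q e X Y ε δ) (h1 : triv G ∈ X) (h2 : ε (triv G) = 1)
    {g h : G} (hg : p ∣ orderOf g) (hh : p ∣ orderOf h) : ∑ χ ∈ X, χ.1 g * χ.1 h = e := by
  rw [Finset.sum_congr rfl fun χ hχ => by
    rw [t.apply_X h1 h2 hχ hg, t.apply_X h1 h2 hχ hh, t.sign_sq], Finset.sum_const, t.cardX]
  simp

theorem CycTab.deg_Y_modEq (hp : p.Prime) (t : CycTab p B q e X Y ε δ) (h1 : triv G ∈ X)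
    (h2 : ε (triv G) = 1) {ψ : IrrCharacter G} (hψ : ψ ∈ Y) :
    δ * charDegree ψ.1 ≡ e [ZMOD q] := by
  have := Int.ModEq.sum (s := X) fun χ hχ => t.deg χ hχ _ h1
  rw [h2, show charDegree (triv G).1 = 1 from H21.charDegree_one, Finset.sum_const, t.cardX] at this
  rw [t.deg_Y hp hψ]
  simpa using this

variable [Fact p.Prime] [Finite G]

theorem npc_Cg (P : Sylow p G) (hcyc : IsCyclic P) {w : G} (hw : w ∈ P) (h1 : w ≠ 1) :
    (P : Subgroup G) ≤ Cg w ∧ HasNormalPComplement p (Cg w) := by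
  have h : (P : Subgroup G) ≤ Cg w := fun x hx =>
    H17.mem_Cg.2 (congrArg Subtype.val (hcyc.isMulCommutative.is_comm.comm ⟨x, hx⟩ ⟨w, hw⟩))
  exact ⟨h, H93.hasNormalPComplement_of_isCyclic_of_center (P.subtype h)
    (isCyclic_subgroupOf h hcyc) (z := ⟨w, H17.self_mem_Cg w⟩) hw (fun e => h1 (congrArg Subtype.val e))
    (Subgroup.mem_center_iff.2 fun g => (self_central_Cg w g).symm)⟩

open Classical in
theorem CycTab.col (hM : IsPModular p M) (t : CycTab p (principalBlock M G) q e X Y ε δ)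
    (P : Sylow p G) (hcyc : IsCyclic P) {w : G} (hw : w ∈ P) (h1 : w ≠ 1) (g : G) :
    ∑ χ ∈ X, χ.1 g * χ.1 w⁻¹ + ∑ χ ∈ Y, χ.1 g * χ.1 w⁻¹ =
      if InSec p w g then (Nat.card P : ℂ) else 0 := by
  rw [← t.finsum_eq, principal_col hM (isPElt_of_mem P.isPGroup' hw) (npc_Cg P hcyc hw h1).2,
    card_sylow_eq_of_le P (npc_Cg P hcyc hw h1).1]

omit [Finite G] in
theorem dvd_orderOf_of_mem (P : Sylow p G) {w : G} (hw : w ∈ P) (h1 : w ≠ 1) : p ∣ orderOf w := by
  obtain ⟨k, hk⟩ := isPElt_of_mem P.isPGroup' hw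
  exact hk ▸ dvd_pow_self p fun h0 => h1 (orderOf_eq_one_iff.1 (by rw [hk, h0, pow_zero]))

omit [Finite G] in
theorem isConj_of_inSec {w g : G} (hg : ∃ k : ℕ, orderOf g = p ^ k) (h : InSec p w g) :
    IsConj w g := by
  obtain ⟨z, hz, h⟩ := h
  have hp : p.Prime := Fact.out
  rwa [pPart_unique hp hz ⟨1, mul_one g, Commute.one_right g, hg, by simpa using hp.one_lt.ne'⟩]
    at h

section Simple

variable [IsSimpleGroup G]

theorem CycTab.two_le (hG : ¬ IsMulCommutative G) (t : CycTab p B q e X Y ε δ)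
    (h1 : triv G ∈ B) : 2 ≤ e := by
  have := Fintype.ofFinite G
  by_contra h
  have := t.neX.card_pos
  obtain ⟨χ, rfl⟩ := Finset.card_eq_one.1 (show X.card = 1 by have := t.cardX; omega)
  have h2 : ∀ ψ ∈ Y, charDegree ψ.1 = charDegree χ.1 := fun ψ hψ => by
    have := congrArg Int.natAbs (t.deg_Y Fact.out hψ)
    rcases t.sgn with h | h <;> rcases t.sign χ with h' | h' <;> simpa [h, h'] using this
  have h3 : charDegree χ.1 = 1 := by
    rcases (t.mem _).1 h1 with h | h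
    · rw [← Finset.mem_singleton.1 h]; exact H21.charDegree_one
    · rw [← h2 _ h]; exact H21.charDegree_one
  obtain ⟨ψ, hψ⟩ := t.neY
  refine Finset.disjoint_left.1 t.disj (Finset.mem_singleton_self χ) ?_
  rwa [H58.eq_triv_of_deg_one (H58.commutator_eq_top hG) h3,
    ← H58.eq_triv_of_deg_one (H58.commutator_eq_top hG) ((h2 ψ hψ).trans h3)]

theorem CycTab.triv_mem (hG : ¬ IsMulCommutative G) (t : CycTab p B q e X Y ε δ)
    (h1 : triv G ∈ B) (hm : Y.card ≠ 1) : triv G ∈ X := by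
  have := Fintype.ofFinite G
  refine ((t.mem _).1 h1).resolve_right fun h => hm (Finset.card_eq_one.2 ⟨triv G,
    Finset.eq_singleton_iff_unique_mem.2 ⟨h, fun ψ hψ => ?_⟩⟩)
  exact H58.eq_triv_of_deg_one (H58.commutator_eq_top hG)
    ((t.deg_Y_eq Fact.out hψ h).trans H21.charDegree_one)

variable (hM : IsPModular p M) (P : Sylow p G) (hcyc : IsCyclic P)
  (hc : ∀ x y : G, orderOf x = p → orderOf y = p → IsPSolvable p (closure ({x, y} : Set G)))
  (t : CycTab p (principalBlock M G) (Nat.card P) e X Y ε δ) {u : G} (hu : u ∈ P)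
  (ho : orderOf u = p)
include hM hcyc hc t hu ho

theorem CycTab.card_Y_ne_one (h2 : p ≠ 2) : Y.card ≠ 1 := by
  classical
  intro h
  obtain ⟨ψ, rfl⟩ := Finset.card_eq_one.1 h
  have hu1 : u ≠ 1 := fun h => hM.1.one_lt.ne' (by rw [← ho, h, orderOf_one])
  have h3 : ∀ χ ∈ X, ∀ g, p ∣ orderOf g → χ.1 g = -(ε χ * δ) * ψ.1 g := fun χ hχ g hg => by
    have := t.singY χ hχ g hg
    rw [Finset.sum_singleton] at this
    linear_combination ε χ * this - χ.1 g * t.sign_sq χ
  have h4 : ∀ g, p ∣ orderOf g → ψ.1 g = ψ.1 u := fun g hg => by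
    rcases (t.mem _).1 (H21.triv_mem_principal hM.2.1) with h | h
    · have := (h3 _ h g hg).symm.trans (h3 _ h u ho.symm.dvd)
      linear_combination -(ε (triv G) * δ) * this + (ψ.1 u - ψ.1 g) * t.sign_sq (triv G) +
        (ψ.1 u - ψ.1 g) * ε (triv G) * ε (triv G) * t.sgn_sq
    · rw [← Finset.mem_singleton.1 h]; rfl
  refine h2 (eq_two_of_conj P hcyc.isMulCommutative hc hu ho (fun x hx h1 => ?_)
    (npc_Cg P hcyc hu hu1).2)
  have h5 := t.col hM P hcyc hu hu1 x
  have h6 := t.col hM P hcyc hu hu1 u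
  rw [if_pos ⟨u, ⟨1, mul_one u, Commute.one_right u, ⟨1, by rw [ho, pow_one]⟩,
    not_dvd_orderOf_one hM⟩, IsConj.refl u⟩] at h6
  have hx' := dvd_orderOf_of_mem P hx h1
  rw [Finset.sum_congr rfl fun χ hχ => by rw [h3 χ hχ x hx', h4 x hx', ← h3 χ hχ u ho.symm.dvd],
    Finset.sum_singleton, h4 x hx', ← Finset.sum_singleton (fun χ => χ.1 u * χ.1 u⁻¹) ψ, h6] at h5
  refine isConj_of_inSec (isPElt_of_mem P.isPGroup' hx) (by_contra fun h => ?_)
  rw [if_neg h] at h5
  exact Nat.card_pos.ne' (Nat.cast_eq_zero.1 h5)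

omit [IsSimpleGroup G] in
theorem CycTab.lt_five (hG : commutator G = ⊤) (h1 : triv G ∈ X) (h2 : ε (triv G) = 1)
    (he : 2 ≤ e) (hm : 2 ≤ Y.card) : p < 5 := by
  classical
  have := Fintype.ofFinite G
  by_contra! h5
  obtain ⟨ψ₀, hψ₀⟩ := t.neY
  have hq := t.cardY
  have h3 := pair_ineq P hcyc.isMulCommutative hc (X ∪ Y)
    (fun χ => if χ ∈ X then Y.card * ε χ else -δ) (q := Nat.card P) (fun g => by
      rw [Finset.sum_union t.disj, Finset.sum_congr rfl fun χ hχ => by rw [if_pos hχ, mul_assoc],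
        Finset.sum_congr (s₁ := Y) rfl fun χ hχ => by
          rw [if_neg (Finset.disjoint_right.1 t.disj hχ)], ← Finset.mul_sum]
      split_ifs with hg
      · rw [← Finset.mul_sum, t.sum_Y h1 h2 hg, Finset.sum_congr rfl fun χ hχ => by
          rw [t.apply_X h1 h2 hχ hg, t.sign_sq], Finset.sum_const, t.cardX, ← hq]
        push_cast
        linear_combination t.sgn_sq
      · rw [Finset.sum_congr (s₁ := Y) rfl fun χ hχ => by rw [neg_mul, t.reg χ hχ g hg]]
        simp) ho (n := 3) (by omega)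
  set σ : ℝ := ∑ χ ∈ X, (ε χ : ℝ) / charDegree χ.1 with hσ
  have hy : (0 : ℝ) < charDegree ψ₀.1 := Nat.cast_pos.2 (H21.deg_pos ψ₀)
  have hy2 := t.deg_Y_modEq hM.1 h1 h2 hψ₀
  have heq : e < Nat.card P := by nlinarith
  have h4 : ∀ j ∈ Finset.range (3 + 1), (∑ χ ∈ X ∪ Y, (if χ ∈ X then (Y.card : ℂ) * ε χ else -δ) *
      (χ.1 u * χ.1 (u ^ (j + 1)) / χ.1 1)).re ≤ Y.card * σ + 1 := fun j hj => by
    have hj1 : u ^ (j + 1) ≠ 1 := pow_ne_one_of_lt_orderOf j.succ_ne_zero (by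
      rw [Finset.mem_range] at hj; omega)
    have hj2 := dvd_orderOf_of_mem P (pow_mem hu _) hj1
    have h6 := t.col hM P hcyc (inv_mem (pow_mem hu (j + 1))) (inv_ne_one.2 hj1) u
    rw [inv_inv, t.sum_X_mul h1 h2 ho.symm.dvd hj2, ← eq_sub_iff_add_eq'] at h6
    have h7 : ∑ χ ∈ X, (if χ ∈ X then (Y.card : ℂ) * ε χ else -δ) *
        (χ.1 u * χ.1 (u ^ (j + 1)) / χ.1 1) = (Y.card * σ : ℝ) := by
      rw [hσ, Finset.mul_sum, Complex.ofReal_sum]
      refine Finset.sum_congr rfl fun χ hχ => ?_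
      rw [if_pos hχ, t.apply_X h1 h2 hχ ho.symm.dvd, t.apply_X h1 h2 hχ hj2, t.sign_sq,
        ← H21.cast_deg]
      push_cast
      ring
    rw [Finset.sum_union t.disj, h7, Finset.sum_congr rfl fun χ hχ => by
      rw [if_neg (Finset.disjoint_right.1 t.disj hχ), ← H21.cast_deg, t.deg_Y_eq hM.1 hχ hψ₀],
      ← Finset.mul_sum, ← Finset.sum_div, h6, Complex.add_re, Complex.ofReal_re]
    refine add_le_add_right ?_ _
    have h8 : ∀ a : ℤ, -δ * a ≤ charDegree ψ₀.1 →
        (-(δ : ℂ) * ((a : ℂ) / charDegree ψ₀.1)).re ≤ 1 := fun a ha => by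
      rw [show -(δ : ℂ) * ((a : ℂ) / charDegree ψ₀.1) =
        (((-δ * a : ℤ) : ℝ) / charDegree ψ₀.1 : ℝ) by push_cast; ring, Complex.ofReal_re,
        div_le_one hy]
      exact_mod_cast ha
    obtain ⟨k, hk⟩ := hy2.dvd
    have hy' : (0 : ℤ) < charDegree ψ₀.1 := by exact_mod_cast hy
    have heq' : (e : ℤ) < Nat.card P := by exact_mod_cast heq
    split_ifs
    · refine le_of_eq_of_le (by push_cast; rfl) (h8 (Nat.card P - e) ?_)
      rcases t.sgn with h | h <;> rw [h] at hk ⊢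
      · omega
      · have : 0 < k := by nlinarith
        nlinarith
    · refine le_of_eq_of_le (by push_cast; rfl) (h8 (0 - e) ?_)
      rcases t.sgn with h | h <;> rw [h] at hk ⊢
      · have : k < 1 := by nlinarith
        nlinarith
      · omega
  rw [Complex.re_sum] at h3
  have h6 := h3.trans (Finset.sum_le_card_nsmul _ _ _ h4)
  have h7 : σ ≤ 1 + (e - 1) / (Nat.card P + 1) := by
    rw [hσ, ← Finset.add_sum_erase _ _ h1, h2, show charDegree (triv G).1 = 1 from
      H21.charDegree_one]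
    refine add_le_add (by simp) ((Finset.sum_le_card_nsmul _ _ (1 / (Nat.card P + 1 : ℝ))
      fun χ hχ => ?_).trans (le_of_eq ?_))
    · have hx : (0 : ℝ) < charDegree χ.1 := Nat.cast_pos.2 (H21.deg_pos χ)
      rcases t.sign χ with h | h
      · obtain ⟨k, hk⟩ := (t.deg _ h1 χ (Finset.mem_of_mem_erase hχ)).dvd
        rw [h, h2, show charDegree (triv G).1 = 1 from H21.charDegree_one] at hk
        have h8 : charDegree χ.1 ≠ 1 := fun e =>
          Finset.ne_of_mem_erase hχ (H58.eq_triv_of_deg_one hG e)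
        have h9 := H21.deg_pos χ
        have h10 : 0 < k := by
          by_contra h
          have : (Nat.card P : ℤ) * k ≤ 0 := mul_nonpos_of_nonneg_of_nonpos (by omega) (by omega)
          omega
        have h11 : (Nat.card P + 1 : ℤ) ≤ charDegree χ.1 := by
          have : (0 : ℤ) ≤ Nat.card P * (k - 1) := mul_nonneg (Nat.cast_nonneg _) (by omega)
          push_cast at hk
          linarith
        rw [h, Int.cast_one]
        exact one_div_le_one_div_of_le (by positivity) (by exact_mod_cast h11)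
      · rw [h]
        exact (div_nonpos_of_nonpos_of_nonneg (by simp) hx.le).trans (by positivity)
    · rw [Finset.card_erase_of_mem h1, t.cardX, nsmul_eq_mul, Nat.cast_sub (by omega)]
      ring
  rw [Finset.card_range, nsmul_eq_mul, ← hq] at h6
  rw [← hq] at h7
  push_cast at h6 h7
  have he' : (2 : ℝ) ≤ e := by exact_mod_cast he
  have hm' : (2 : ℝ) ≤ Y.card := by exact_mod_cast hm
  generalize (Y.card : ℝ) = m at h6 h7 hm'
  have h8 : m * ((e - 1) / (e * m + 1 + 1)) * e ≤ e - 1 := by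
    rw [mul_right_comm, ← mul_div_assoc, div_le_iff₀ (by positivity)]
    nlinarith
  have h9 : m * σ ≤ m + m * ((e - 1) / (e * m + 1 + 1)) := by nlinarith
  generalize m * ((e - 1) / (e * m + 1 + 1)) = r at h8 h9
  nlinarith [mul_nonneg (sub_nonneg.2 he') (sub_nonneg.2 hm'),
    mul_nonneg (sub_nonneg.2 he') (sub_nonneg.2 he')]

omit [IsSimpleGroup G] in
theorem CycTab.ne_three (hG : commutator G = ⊤) (h1 : triv G ∈ X) (h2 : ε (triv G) = 1)
    (he : e = 2) (hm : 2 ≤ Y.card) (hi : IsConj u u⁻¹) : p ≠ 3 := by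
  classical
  have := Fintype.ofFinite G
  rintro rfl
  subst he
  have hq := t.cardY
  have hu1 : u ≠ 1 := fun h => hM.1.one_lt.ne' (by rw [← ho, h, orderOf_one])
  have hu3 : u ^ 3 = 1 := ho ▸ pow_orderOf_eq_one u
  obtain ⟨w, hw⟩ := IsCyclic.exists_generator (α := P)
  have hwo : orderOf (w : G) = Nat.card P := by
    rw [Subgroup.orderOf_coe, orderOf_eq_card_of_forall_mem_zpowers hw]
  have hw1 : (w : G) ≠ 1 := fun h => by
    rw [h, orderOf_one] at hwo
    omega
  have hw3 := dvd_orderOf_of_mem P (inv_mem w.2) (inv_ne_one.2 hw1)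
  have key : ∀ g, InSec 3 (w : G) g → 3 ∣ orderOf (g ^ 3) := fun g ⟨z, hz, hwz⟩ => by
    obtain ⟨a, rfl⟩ := isConj_iff.1 hwz
    refine Dvd.dvd.trans ?_ (orderOf_dvd_of_mem_zpowers (x := g ^ 3) (y := (a * w * a⁻¹) ^ 3) ?_)
    · rw [conj_pow, show orderOf (a * w ^ 3 * a⁻¹) = _ from (MulAut.conj a).orderOf_eq _]
      refine dvd_orderOf_of_mem P (pow_mem w.2 3) fun h => ?_
      have := Nat.le_of_dvd three_pos (orderOf_dvd_of_pow_eq_one h)
      omega
    · obtain ⟨k, hk⟩ := pPart_mem_zpowers hM.1 hz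
      exact ⟨k, by rw [← hk]; simp only [← zpow_natCast, ← zpow_mul, mul_comm]⟩
  have h3 := sum_sum_conj_conj (X ∪ Y) (fun χ => χ.1 (w : G)⁻¹) u u
  have hx : ∀ x, orderOf (x * u * x⁻¹) = 3 := fun x => by
    rw [← ho]; exact (MulAut.conj x).orderOf_eq u
  rw [Finset.sum_eq_zero fun x _ => Finset.sum_eq_zero fun y _ => by
    rw [Finset.sum_union t.disj]
    simp only [fun χ : IrrCharacter G => mul_comm (χ.1 (w : G)⁻¹)]
    rw [t.col hM P hcyc w.2 hw1, if_neg fun h => (pair_facts P hcyc.isMulCommutative (hx x) (hx y)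
      (hc _ _ (hx x) (hx y))).2 (key _ h)], eq_comm, mul_eq_zero, or_iff_right
      (pow_ne_zero 2 (Nat.cast_ne_zero.2 Nat.card_pos.ne')), Finset.sum_union t.disj] at h3
  obtain ⟨χ, hχ⟩ := Finset.card_eq_one.1 (show (X.erase (triv G)).card = 1 by
    rw [Finset.card_erase_of_mem h1, t.cardX])
  have hχ' : χ ∈ X.erase (triv G) := hχ ▸ Finset.mem_singleton_self χ
  have hX : ∀ {R : Type} [AddCommMonoid R] (f : IrrCharacter G → R),
      ∑ x ∈ X, f x = f (triv G) + f χ := fun f => by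
    rw [← Finset.add_sum_erase _ _ h1, hχ, Finset.sum_singleton]
  obtain ⟨ψ₀, hψ₀⟩ := t.neY
  have hy := t.deg_Y hM.1 hψ₀
  rw [hX, h2, show charDegree (triv G).1 = 1 from H21.charDegree_one] at hy
  choose d n hd hn using fun ψ : IrrCharacter G => exists_int_of_const
    (inferInstanceAs (IsMulCommutative (zpowers u))) (Subgroup.mem_zpowers u) hu1 ψ fun x hx h => by
      obtain ⟨k, hk, rfl⟩ := Finset.mem_image.1
        ((isOfFinOrder_of_finite u).mem_zpowers_iff_mem_range_orderOf.1 hx)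
      rw [ho, Finset.mem_range] at hk
      interval_cases k
      · simp at h
      · rw [pow_one]
      · rw [H17.irr_isConj ψ hi, eq_inv_of_mul_eq_one_left (show u ^ 2 * u = 1 from
          (pow_succ u 2).symm.trans hu3)]
  have h4 : ∑ ψ ∈ Y, d ψ = -δ := by
    have := t.sum_Y h1 h2 ho.symm.dvd
    simp only [hd] at this
    exact_mod_cast this
  have h5 : 2 + ∑ ψ ∈ Y, d ψ * d ψ = Nat.card P := by
    have := t.col hM P hcyc hu hu1 u
    rw [if_pos ⟨u, ⟨1, mul_one u, Commute.one_right u, ⟨1, by rw [ho, pow_one]⟩,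
      not_dvd_orderOf_one hM⟩, IsConj.refl u⟩, t.sum_X_mul h1 h2 ho.symm.dvd
      (by rw [orderOf_inv, ho])] at this
    simp only [← H17.irr_isConj _ hi, hd] at this
    exact_mod_cast this
  have hδ : δ * δ = 1 := by rcases t.sgn with h | h <;> simp [h]
  have h6 := (Finset.sum_eq_zero_iff_of_nonneg (s := Y)
    (f := fun ψ => (δ * d ψ - 2) * (δ * d ψ + 1)) fun ψ hψ => by
      obtain ⟨k, hk⟩ := ((t.deg_Y_modEq hM.1 h1 h2 hψ).of_dvd
        (Int.natCast_dvd_natCast.2 (ho ▸ Subgroup.orderOf_dvd_natCard (P : Subgroup G) hu))).dvd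
      rw [hn, Nat.card_zpowers, ho] at hk
      have : δ * d ψ = 2 - 3 * (k + δ * n ψ) := by push_cast at hk; linarith
      rw [this]
      generalize k + δ * n ψ = s
      rcases le_or_gt s 0 with h | h <;> nlinarith).1 (by
      rw [Finset.sum_congr rfl fun ψ _ => show _ = d ψ * d ψ - δ * d ψ - 2 by
        linear_combination d ψ * d ψ * hδ, Finset.sum_sub_distrib, Finset.sum_sub_distrib,
        ← Finset.mul_sum, h4, Finset.sum_const, nsmul_eq_mul]
      have : ((2 * Y.card + 1 : ℕ) : ℤ) = Nat.card P := congrArg _ hq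
      push_cast at this
      linarith)
  have h7 := t.col hM P hcyc w.2 hw1 u
  rw [if_neg fun h => by simpa [hu3] using key u h, t.sum_X_mul h1 h2 ho.symm.dvd hw3] at h7
  have h8 : ∑ ψ ∈ Y, ψ.1 (w : G)⁻¹ * (ψ.1 u * ψ.1 u / ψ.1 1) = -4 * δ / charDegree ψ₀.1 := by
    rw [Finset.sum_congr rfl fun ψ hψ => show _ = ((δ : ℂ) * (ψ.1 u * ψ.1 (w : G)⁻¹) +
      2 * ψ.1 (w : G)⁻¹) / charDegree ψ₀.1 by
        have : ((δ : ℂ) * d ψ - 2) * (δ * d ψ + 1) = 0 := by exact_mod_cast h6 ψ hψ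
        rw [← H21.cast_deg, t.deg_Y_eq hM.1 hψ hψ₀, hd, ← mul_div_assoc]
        congr 1
        linear_combination ψ.1 (w : G)⁻¹ * this - ψ.1 (w : G)⁻¹ * d ψ * d ψ * t.sgn_sq,
      ← Finset.sum_div, Finset.sum_add_distrib, ← Finset.mul_sum, ← Finset.mul_sum,
      t.sum_Y h1 h2 hw3, eq_neg_of_add_eq_zero_right h7]
    push_cast
    ring
  have hχX := Finset.mem_of_mem_erase hχ'
  rw [h8, hX, t.apply_X h1 h2 hχX hw3, t.apply_X h1 h2 hχX ho.symm.dvd, t.sign_sq,
    ← H21.cast_deg χ] at h3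
  simp only [H21.triv_apply] at h3
  have h9 : (charDegree χ.1 : ℂ) ≠ 0 := Nat.cast_ne_zero.2 (H21.deg_ne_zero χ)
  have h10 : (charDegree ψ₀.1 : ℂ) ≠ 0 := Nat.cast_ne_zero.2 (H21.deg_ne_zero ψ₀)
  field_simp at h3
  have h11 : (charDegree χ.1 + ε χ) * charDegree ψ₀.1 = 4 * δ * charDegree χ.1 := by
    have : ((charDegree χ.1 : ℂ) + ε χ) * charDegree ψ₀.1 = 4 * δ * charDegree χ.1 := by
      linear_combination h3
    exact_mod_cast this
  have h12 : charDegree χ.1 ≠ 1 := fun e =>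
    Finset.ne_of_mem_erase hχ' (H58.eq_triv_of_deg_one hG e)
  have h13 := H21.deg_pos χ
  have h14 := H21.deg_pos ψ₀
  have h15 : (2 : ℤ) ≤ charDegree χ.1 := by omega
  have h16 : (0 : ℤ) < charDegree ψ₀.1 := by omega
  push_cast at hy
  generalize (charDegree χ.1 : ℤ) = x at hy h11 h15
  generalize (charDegree ψ₀.1 : ℤ) = y at hy h11 h16
  rcases t.sgn with h | h <;> rcases t.sign χ with h' | h' <;> rw [h, h'] at hy h11
  · obtain rfl : y = 1 + x := by linarith
    nlinarith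
  · linarith
  · linarith
  · nlinarith

end Simple

theorem not_pair_of_simple [IsSimpleGroup G] (hG : ¬ IsMulCommutative G) (P : Sylow p G)
    (hcyc : IsCyclic P) (hP : (P : Subgroup G) ≠ ⊥)
    (hc : ∀ x y : G, orderOf x = p → orderOf y = p → IsPSolvable p (closure ({x, y} : Set G))) :
    False := by
  classical
  have hp : p.Prime := Fact.out
  obtain ⟨M, hM⟩ := H19.exists_isPModular hp
  obtain ⟨Z, hZ, hZp⟩ := exists_le_card_eq_prime P.isPGroup' hP
  obtain ⟨⟨u, huZ⟩, ho⟩ := exists_prime_orderOf_dvd_card' (G := Z) p hZp.symm.dvd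
  replace ho : orderOf u = p := (Subgroup.orderOf_coe _).trans ho
  have hu : u ∈ P := hZ huZ
  have h0 := H21.triv_mem_principal (G := G) hM.2.1
  obtain ⟨X, Y, ε, δ, t⟩ := exists_cycTab_principal hM P hcyc hP
  have he := t.two_le hG h0
  have he' := Nat.le_of_dvd (Nat.sub_pos_of_lt hp.one_lt) t.dvd
  have hm := t.card_Y_ne_one hM P hcyc hc hu ho (by omega)
  have hm' : 2 ≤ Y.card := by have := t.neY.card_pos; omega
  have h1 := t.triv_mem hG h0 hm
  obtain ⟨ε, δ, t, h2⟩ : ∃ ε δ, CycTab p (principalBlock M G) (Nat.card P)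
      ((H18.Cz (P : Subgroup G)).relIndex (H18.Nz P)) X Y ε δ ∧ ε (triv G) = 1 := by
    rcases t.sign (triv G) with h | h
    · exact ⟨_, _, t, h⟩
    · exact ⟨_, _, t.neg, by simp [h]⟩
  have h5 := t.lt_five hM P hcyc hc hu ho (H58.commutator_eq_top hG) h1 h2 he hm'
  have h3 : p = 3 := by
    have : p ≠ 4 := fun h => by rw [h] at hp; norm_num at hp
    omega
  refine t.ne_three hM P hcyc hc hu ho (H58.commutator_eq_top hG) h1 h2 (by omega) hm' ?_ h3
  obtain ⟨g, hg, hg'⟩ := SetLike.not_le_iff_exists.1 fun h : H18.Nz (P : Subgroup G) ≤ H18.Cz P =>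
    by rw [Subgroup.relIndex_eq_one.2 h] at he; omega
  have hu1 : u ≠ 1 := fun h => hp.one_lt.ne' (by rw [← ho, h, orderOf_one])
  have h6 : g * u * g⁻¹ ∈ zpowers u := by
    rw [eq_of_le_cyclic hcyc (Z' := zpowers u) (Z := zpowers (g * u * g⁻¹))
      (Subgroup.zpowers_le.2 ((Subgroup.mem_normalizer_iff.1 hg u).1 hu)) (Subgroup.zpowers_le.2 hu)
      (by rw [Nat.card_zpowers, Nat.card_zpowers]; exact ((MulAut.conj g).orderOf_eq u).symm)]
    exact Subgroup.mem_zpowers _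
  obtain ⟨k, hk, hk'⟩ := Finset.mem_image.1
    ((isOfFinOrder_of_finite u).mem_zpowers_iff_mem_range_orderOf.1 h6)
  rw [ho, h3, Finset.mem_range] at hk
  interval_cases k
  · exact absurd (conj_eq_one_iff.1 (hk'.symm.trans (pow_zero u))) hu1
  · refine absurd (H18.mem_Cz_of_fixed_of_isCyclic P.isPGroup' hcyc le_rfl (fun h => ?_) hg hu hu1
      (hk'.symm.trans (pow_one u))) hg'
    have := Nat.le_of_dvd (by omega) h
    omega
  · refine isConj_iff.2 ⟨g, hk'.symm.trans (eq_inv_of_mul_eq_one_left ?_)⟩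
    rw [← pow_succ, ← orderOf_dvd_iff_pow_eq_one, ho, h3]

end Cfsg.Agent.H16
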