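import Cfsg.Agent.Lead.PcDefs

/-! Project PL (row S3916): piece E2. -/

set_option autoImplicit false

namespace Cfsg.Agent.H16.PlE2

open Subgroup Cfsg.Agent.Lead.Pc
open scoped commutatorElement

universe u

theorem key {Q : Type*} [Group Q] {t w v : Q} (h1 : Commute t ⁅w, v⁆)
    (h2 : Commute (t * w * t⁻¹) ⁅t, v⁆) (h3 : Commute w ⁅w, v⁆)
    (h4 : Commute (t * w * t⁻¹) ⁅w, v⁆) (h5 : Commute ⁅w, v⁆ ⁅t, v⁆) : Commute ⁅t, w⁆ v := by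
  have e1 : w * v * w⁻¹ = ⁅w, v⁆ * v := by rw [commutatorElement_def]; group
  have e2 : t * v * t⁻¹ = ⁅t, v⁆ * v := by rw [commutatorElement_def]; group
  have e0 : ⁅t, w⁆ = t * w * t⁻¹ * w⁻¹ := rfl
  generalize ⁅w, v⁆ = c at *
  generalize ⁅t, v⁆ = f at *
  have A : f * (t * w * t⁻¹ * v * (t * w * t⁻¹)⁻¹) = f * (c * v) := by
    calc f * (t * w * t⁻¹ * v * (t * w * t⁻¹)⁻¹)
        = (f * (t * w * t⁻¹)) * v * (t * w * t⁻¹)⁻¹ := by group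
      _ = t * w * t⁻¹ * (f * v) * (t * w * t⁻¹)⁻¹ := by rw [← h2.eq]; group
      _ = t * (w * v * w⁻¹) * t⁻¹ := by rw [← e2]; group
      _ = (t * c) * v * t⁻¹ := by rw [e1]; group
      _ = c * (t * v * t⁻¹) := by rw [h1.eq]; group
      _ = (c * f) * v := by rw [e2]; group
      _ = _ := by rw [h5.eq]; group
  have A' := mul_left_cancel A
  have B : w⁻¹ * v * w = c⁻¹ * v := by
    calc w⁻¹ * v * w = (c * w)⁻¹ * (c * v) * w := by group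
      _ = (w * c)⁻¹ * (w * v * w⁻¹) * w := by rw [← e1, h3.eq]
      _ = _ := by group
  rw [e0]
  generalize t * w * t⁻¹ = z at *
  change z * w⁻¹ * v = v * (z * w⁻¹)
  calc z * w⁻¹ * v = z * (w⁻¹ * v * w) * z⁻¹ * (z * w⁻¹) := by group
    _ = (z * c⁻¹) * v * z⁻¹ * (z * w⁻¹) := by rw [B]; group
    _ = c⁻¹ * (z * v * z⁻¹) * (z * w⁻¹) := by rw [h4.inv_right.eq]; group
    _ = _ := by rw [A']; group

variable {G : Type u} [Group G]

theorem cj {H : Subgroup G} {g x : G} (hg : g ∈ Nm H) (hx : x ∈ H) : g * x * g⁻¹ ∈ H :=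
  (mem_normalizer_iff.1 hg x).1 hx

theorem nm_of {N H : Subgroup G} (h : ∀ g ∈ N, ∀ x ∈ H, g * x * g⁻¹ ∈ H) : N ≤ Nm H :=
  fun g hg => mem_normalizer_iff.2 fun x => ⟨h g hg x, fun hx => by
    have := h _ (inv_mem hg) _ hx
    simpa [mul_assoc] using this⟩

theorem cl {s : Set G} {g : G} (h : ∀ x ∈ s, g * x * g⁻¹ ∈ closure s) :
    ∀ x ∈ closure s, g * x * g⁻¹ ∈ closure s := fun x hx => by
  induction hx using closure_induction with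
  | mem x hx => exact h x hx
  | one => simp
  | mul x y _ _ a b =>
    have := mul_mem a b
    simpa [mul_assoc] using this
  | inv x _ a =>
    have := inv_mem a
    simpa [mul_assoc] using this

theorem sqm {T : Subgroup G} {a : G} (ha : a ∈ T) : a * a ∈ Sq T := subset_closure ⟨a, ha, rfl⟩

theorem sqle (T : Subgroup G) : Sq T ≤ T := (closure_le _).2 (by
  rintro _ ⟨a, ha, rfl⟩
  exact mul_mem ha ha)

theorem nSq (T : Subgroup G) : Nm T ≤ Nm (Sq T) := nm_of fun g hg => cl (by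
  rintro _ ⟨a, ha, rfl⟩
  have := sqm (cj hg ha)
  change _ ∈ Sq T
  simpa [mul_assoc] using this)

theorem nP3 (T : Subgroup G) : Nm T ≤ Nm (P3 T) := nm_of fun g hg x hx => by
  have : P3 T ≤ (P3 T).comap (MulAut.conj g).toMonoidHom := by
    refine sup_le (commutator_le.2 fun a ha b hb => ?_) fun y hy => ?_
    · rw [mem_comap, map_commutatorElement]
      exact mem_sup_left (commutator_mem_commutator (cj (nSq T hg) ha) (cj hg hb))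
    · exact mem_sup_right (cj (nSq _ (nSq T hg)) hy)
  exact this hx

theorem keyG {N P : Subgroup G} (hN : N ≤ Nm P) {t w v : G} (ht : t ∈ N) (hw : w ∈ N) (hv : v ∈ N)
    (h1 : ⁅t, ⁅w, v⁆⁆ ∈ P) (h2 : ⁅t * w * t⁻¹, ⁅t, v⁆⁆ ∈ P) (h3 : ⁅w, ⁅w, v⁆⁆ ∈ P)
    (h4 : ⁅t * w * t⁻¹, ⁅w, v⁆⁆ ∈ P) (h5 : ⁅⁅w, v⁆, ⁅t, v⁆⁆ ∈ P) : ⁅⁅t, w⁆, v⁆ ∈ P := by
  lift t to N using ht
  lift w to N using hw
  lift v to N using hv
  haveI : (P.subgroupOf N).Normal := normal_subgroupOf_of_le_normalizer hN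
  have cm : ∀ a b : N, ⁅(a : G), (b : G)⁆ ∈ P ↔ Commute (QuotientGroup.mk' (P.subgroupOf N) a)
      (QuotientGroup.mk' (P.subgroupOf N) b) := fun a b => by
    rw [← commutatorElement_eq_one_iff_commute, ← map_commutatorElement]
    exact (QuotientGroup.eq_one_iff (N := P.subgroupOf N) ⁅a, b⁆).symm
  have k1 := (cm t ⁅w, v⁆).1 h1
  have k2 := (cm (t * w * t⁻¹) ⁅t, v⁆).1 h2
  have k3 := (cm w ⁅w, v⁆).1 h3
  have k4 := (cm (t * w * t⁻¹) ⁅w, v⁆).1 h4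
  have k5 := (cm ⁅w, v⁆ ⁅t, v⁆).1 h5
  refine (cm ⁅t, w⁆ v).2 ?_
  simp only [map_commutatorElement, map_mul, map_inv] at k1 k2 k3 k4 k5 ⊢
  exact key k1 k2 k3 k4 k5

theorem cF {T : Subgroup G} {r : G} (h : ∀ a ∈ T, ⁅r, a⁆ ∈ Sq T) : ∀ f ∈ Sq T, ⁅r, f⁆ ∈ P3 T := by
  intro f hf
  induction hf using closure_induction with
  | mem x hx =>
    obtain ⟨a, ha, rfl⟩ := hx
    have e : ⁅r, a * a⁆ = ⁅r, a⁆ * ⁅r, a⁆ * ⁅⁅r, a⁆⁻¹, a⁆ := by
      simp only [commutatorElement_def, mul_inv_rev, inv_inv, mul_assoc, inv_mul_cancel_left,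
        mul_inv_cancel_left]
    rw [e]
    exact mul_mem (mem_sup_right (sqm (h a ha)))
      (mem_sup_left (commutator_mem_commutator (inv_mem (h a ha)) ha))
  | one => simp
  | mul x y hx _ a b =>
    have e : ⁅r, x * y⁆ = ⁅r, x⁆ * (x * ⁅r, y⁆ * x⁻¹) := by
      simp only [commutatorElement_def]; group
    rw [e]
    exact mul_mem a (cj (nP3 T (le_normalizer (sqle T hx))) b)
  | inv x hx a =>
    have e : ⁅r, x⁻¹⁆ = x⁻¹ * ⁅r, x⁆⁻¹ * x⁻¹⁻¹ := by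
      simp only [commutatorElement_def]; group
    rw [e]
    exact cj (nP3 T (le_normalizer (inv_mem (sqle T hx)))) (inv_mem a)

theorem sy {P : Subgroup G} {a b : G} (h : ⁅a, b⁆ ∈ P) : ⁅b, a⁆ ∈ P := by
  rw [← commutatorElement_inv]; exact inv_mem h

theorem ml {P : Subgroup G} {a b c : G} (ha : a ∈ Nm P) (h : ⁅a, c⁆ ∈ P) (h' : ⁅b, c⁆ ∈ P) :
    ⁅a⁻¹ * b, c⁆ ∈ P := by
  have e : ⁅a⁻¹ * b, c⁆ = a⁻¹ * (⁅b, c⁆ * ⁅a, c⁆⁻¹) * a⁻¹⁻¹ := by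
    simp only [commutatorElement_def]; group
  rw [e]
  exact cj (inv_mem ha) (mul_mem h' (inv_mem h))

theorem x : E2Stmt.{u} := by
  rintro G _ _ S T S1 S2 R - l b b4 ⟨t, ht, tt, tn, tv, hc⟩
  have RN : R ≤ Nm T := le_normalizer.trans b.nm
  have FR : Sq T ≤ R := (sqle T).trans l.tr
  have cR : ∀ r ∈ R, ∀ f ∈ Sq T, ⁅r, f⁆ ∈ P3 T := fun r hr =>
    cF fun a ha => b.cm r hr a (l.tr ha)
  have K : ∀ w ∈ R, ∀ v ∈ R, ⁅t, v⁆ ∈ Sq T → ⁅⁅t, w⁆, v⁆ ∈ P3 T := fun w hw v hv h =>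
    keyG (nP3 T) (b.nm ht) (RN hw) (RN hv) (cF tv _ (b.cm w hw v hv)) (cR _ (cj ht hw) _ h)
      (cR _ hw _ (b.cm w hw v hv)) (cR _ (cj ht hw) _ (b.cm w hw v hv))
      (cR _ (FR (b.cm w hw v hv)) _ h)
  rcases hc with hc | ⟨w, hw, hn⟩
  · have L : ∀ a ∈ T, ∀ v ∈ R, ⁅t, v⁆ ∈ Sq T → ⁅a, v⁆ ∈ P3 T := fun a ha v hv h => by
      obtain ⟨w, hw, hf⟩ := hc a ha
      have := ml (nP3 T (RN (FR hf))) (sy (cR v hv _ hf)) (K w hw v hv h)
      rwa [mul_inv_rev, inv_inv, inv_mul_cancel_right] at this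
    refine ⟨t * t, tt, tn, fun a ha c hc' => L a ha c (l.tr hc') (tv c hc'), fun a ha =>
      sy (L a ha _ tt ?_)⟩
    rw [commutatorElement_eq_one_iff_commute.2 ((Commute.refl t).mul_right (Commute.refl t))]
    exact one_mem _
  · have xR : ⁅t, w⁆ ∈ R := mul_mem (cj ht hw) (inv_mem hw)
    have xT : ∀ a ∈ T, ⁅⁅t, w⁆, a⁆ ∈ P3 T := fun a ha => K w hw a (l.tr ha) (tv a ha)
    generalize ⁅t, w⁆ = y at xR xT hn
    refine ⟨y, xR, hn, fun a ha c hc' => ?_, xT⟩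
    obtain ⟨g, hg, hf⟩ := b4 y xR (y * a) (mul_mem xR (l.tr ha)) hn
      fun h => hn (by simpa using mul_mem h (inv_mem ha))
    have g1 : ⁅g * y * g⁻¹, c⁆ ∈ P3 T := by
      have := cj (nP3 T (b.nm hg)) (xT _ (cj (inv_mem (b.nm hg)) hc'))
      have e : ⁅g * y * g⁻¹, c⁆ = g * ⁅y, g⁻¹ * c * g⁻¹⁻¹⁆ * g⁻¹ := by
        simp only [commutatorElement_def]; group
      rwa [e]
    have g2 := ml (nP3 T (RN (FR hf))) (sy (cR c (l.tr hc') _ hf)) g1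
    have g3 := ml (nP3 T (RN xR)) (xT c hc') g2
    simpa [mul_assoc] using g3

end Cfsg.Agent.H16.PlE2
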