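import Cfsg.Agent.H80.KSpC

/-!
# The centraliser of the non-central involution of the third Conway group
-/

set_option autoImplicit false
set_option maxRecDepth 100000

namespace Cfsg.Agent.H16.S93CPi

open Subgroup Cfsg.Agent.H75.KI Cfsg.Agent.H80.KS

/-- a quotient map with kernel of order at most two -/
def PK (H : Type*) [Group H] (X : Type*) [Group X] : Prop :=
  ∃ π : H →* X, Function.Surjective π ∧ ∃ t, ∀ c, π c = 1 → c = 1 ∨ c = t

theorem PK.congr {H H' X : Type*} [Group H] [Group H'] [Group X] (h : PK H X) (e : H ≃* H') :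
    PK H' X := by
  obtain ⟨π, h1, t, h2⟩ := h
  refine ⟨π.comp e.symm.toMonoidHom, h1.comp e.symm.surjective, e t, fun c hc => ?_⟩
  rcases h2 (e.symm c) hc with k | k
  · exact Or.inl (by simpa using congrArg e k)
  · exact Or.inr (by simpa using congrArg e k)

section lattice
open Cfsg.Agent.H48 Cfsg.Agent.H48.Rec Cfsg.Agent.H10.Co Cfsg.Agent.H10.CoI
open Cfsg.Agent.H42 (toSet dod0)
open scoped Pointwise

theorem pk_stab {D : Finset GolayPt} (hD : IsWord D) (h12 : Dᶜ.card = 12) :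
    PK (CC (signEl _ hD.compl) (twoInd D hD))
      ↥(M24 ⊓ MulAction.stabilizer (Equiv.Perm GolayPt) D) := by
  have hle := CC_le_mono hD.compl h12 (twoInd D hD)
  let ρ : CC (signEl _ hD.compl) (twoInd D hD) →* M24 := θ.comp (inclusion hle)
  have h1 : ∀ x, (ρ x).1 ∈ M24 ⊓ MulAction.stabilizer (Equiv.Perm GolayPt) D := fun x => by
    refine ⟨(ρ x).2, ?_⟩
    have h := conj_sign (inclusion hle x) _ hD.compl
    have e : x.1 * signEl _ hD.compl * x.1⁻¹ = signEl _ hD.compl := by
      rw [(mem_CC.1 x.2).2, mul_inv_cancel_right]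
    have h2 : Dᶜ = (ρ x).1 • Dᶜ := signEl_inj (e.symm.trans h)
    rw [smul_compl, compl_inj_iff] at h2
    exact h2.symm
  have hm : signEl _ hD.compl ∈ CC (signEl _ hD.compl) (twoInd D hD) :=
    mem_CC.2 ⟨sign_fix _ fun _ hi => if_neg (Finset.mem_compl.1 hi), rfl⟩
  refine ⟨(M24.subtype.comp ρ).codRestrict _ h1, fun σ => ⟨⟨_, perm_mem_CC hD ⟨σ.1, σ.2.1⟩ σ.2.2⟩,
    Subtype.ext (congrArg (·.1) (θ_perm ⟨σ.1, σ.2.1⟩))⟩, ⟨_, hm⟩, fun x hx => ?_⟩
  obtain ⟨c, hc, e⟩ := mem_Sg_of (m := inclusion hle x) (Subtype.ext (congrArg (·.1) hx))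
  have e' : x.1 = signEl c hc := e
  have sub : c ⊆ Dᶜ := fun i hi => Finset.mem_compl.2 fun k => by
    have := congrFun (congrArg Subtype.val (mem_CC.1 x.2).1) i
    rw [e', signEl_apply, if_pos hi] at this
    change -(if i ∈ D then (2 : ℤ) else 0) = if i ∈ D then (2 : ℤ) else 0 at this
    rw [if_pos k] at this
    omega
  have k1 := hc.card_cases
  have k2 := (hc.symmDiff hD.compl).card_cases
  rw [symmDiff_of_le (show c ≤ Dᶜ from sub), Finset.card_sdiff_of_subset sub, h12] at k2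
  have k3 := Finset.card_le_card sub
  by_cases k : c.card = 0
  · refine Or.inl (Subtype.ext ?_)
    rw [e', signEl_congr (Finset.card_eq_zero.1 k) hc isWord_empty, signEl_empty]
    rfl
  · refine Or.inr (Subtype.ext ?_)
    rw [e']
    exact signEl_congr (Finset.eq_of_subset_of_card_le sub (by omega)) hc hD.compl

theorem pk_m12 : PK (CC tD vD) Spor.M12 := by
  rw [Spor.M12, ← H42.toSet_dod0]
  exact pk_stab isWord_dod0 card_compl_dod0

theorem pk_D : ∃ s : St vV, orderOf s = 2 ∧ PK (centralizer {s}) Spor.M12 ∧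
    ¬ 7 ∣ Nat.card (centralizer {s}) := by
  obtain ⟨g, hg⟩ : vV ∈ MulAction.orbit Co0 vD := by
    rw [orbit_eq_norm (.inr (.inl (by decide +kernel)))]
    show sqNorm vV.1 = sqNorm vD.1
    decide +kernel
  have hg' : g • vD = vV := hg
  have h1 : (g * tD * g⁻¹) • vV = vV := by rw [← hg', mul_smul, mul_smul, inv_smul_smul, tD_fix]
  have e : CC tD vD ≃* centralizer {(⟨_, h1⟩ : St vV)} :=
    ((CC tD vD).equivMapOfInjective _ (MulAut.conj g).injective).trans
      ((MulEquiv.subgroupCongr ((cj_CC g tD vD).trans (by rw [hg']))).trans (centCC ⟨_, h1⟩).symm)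
  refine ⟨⟨_, h1⟩, ?_, pk_m12.congr e, Nat.card_congr e.toEquiv ▸ good_D.2⟩
  rw [← orderOf_coe]
  refine orderOf_eq_prime (by rw [conj_pow, pow_two, tD, signEl_mul_self]; group) fun h => ?_
  have h2 : tD = signEl ∅ isWord_empty := by
    rw [signEl_empty]
    simpa using h
  have h3 := card_compl_dod0
  rw [signEl_inj h2] at h3
  simp at h3

end lattice

theorem pk_v3 : orderOf v3 = 2 ∧ PK (centralizer ({v3} : Set Γ3)) Spor.M12 := by
  obtain ⟨s, h1, h2, h3⟩ := pk_D
  let e := H48.equivCo3.trans H43.Co3M.equiv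
  have h4 : orderOf (e s) = 2 := by rw [e.orderOf_eq, h1]
  rcases classes3 h4 with h | h
  · rw [Nat.card_congr ((centEquiv e s).trans (nonempty_centEquiv h).some.symm).toEquiv,
      card_cent_t3] at h3
    norm_num at h3
  · refine ⟨?_, h2.congr ((centEquiv e s).trans (nonempty_centEquiv h).some.symm)⟩
    obtain ⟨g, hg⟩ := isConj_iff.1 h
    rw [← h4, ← hg]
    exact ((MulAut.conj g).orderOf_eq v3).symm

theorem exists_pi : ∃ π : Subgroup.centralizer ({v3} : Set Γ3) →* Spor.M12,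
    Function.Surjective π ∧ ∀ c, π c = 1 → c = 1 ∨ (c : Γ3) = v3 := by
  obtain ⟨ho, π, h1, t, h2⟩ := pk_v3
  haveI := H74.simple_M12
  let v : centralizer ({v3} : Set Γ3) := ⟨v3, mem_centralizer_singleton_iff.2 rfl⟩
  have hz : π v ∈ center Spor.M12 := mem_center_iff.2 fun y => by
    obtain ⟨x, rfl⟩ := h1 y
    rw [← map_mul, ← map_mul]
    exact congrArg π (Subtype.ext (mem_centralizer_singleton_iff.1 x.2))
  have hv : π v = 1 := by
    rcases (inferInstance : (center Spor.M12).Normal).eq_bot_or_eq_top with k | k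
    · exact mem_bot.1 (k ▸ hz)
    · exact absurd ⟨⟨fun a b => (mem_center_iff.1 (k ▸ mem_top b) a)⟩⟩
        (show ¬ IsMulCommutative Spor.M12 from
          not_comm_of_simple (by rw [H74.card_M12]; norm_num))
  have ht : v = t := (h2 v hv).resolve_left fun k => by
    rw [show v3 = 1 from congrArg Subtype.val k, orderOf_one] at ho
    omega
  exact ⟨π, h1, fun c hc => (h2 c hc).imp_right fun k => by rw [k, ← ht]⟩

end Cfsg.Agent.H16.S93CPi
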