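import Cfsg.Agent.H46.J1Defs
import Cfsg.Agent.H46.TRed1
import Mathlib.GroupTheory.SpecificGroups.Alternating.Simple

/-!
# A standard subgroup of type `J₁`: the reduction
-/

set_option autoImplicit false
open scoped Pointwise commutatorElement
open Subgroup

namespace Cfsg.Agent.H16.S94Ja
open Cfsg.Agent.H8 Cfsg.Agent.H23.D2 Cfsg.Agent.H46.S94 Cfsg.Agent.H46.TRed1

universe u

local notation "C[" A "]" => Subgroup.centralizer (SetLike.coe A)
local notation "N[" A "]" => Subgroup.normalizer (SetLike.coe A)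

variable {Γ : Type} [Group Γ] {G : Type u} [Group G]

section
variable {z σ ρ : Γ} {V L : Subgroup Γ} (j : J1F z σ ρ V L)
include j

theorem zz : z * z = 1 := j.el z j.zV

theorem simp_L {M : Subgroup Γ} (hM : M ≤ L) (hN : L ≤ N[M]) : M = ⊥ ∨ M = L := by
  obtain ⟨e⟩ := j.iso
  haveI : IsSimpleGroup L := e.isSimpleGroup
  have hn : (M.subgroupOf L).Normal :=
    ⟨fun n hn g => (mem_normalizer_iff.1 (hN g.2) n).1 hn⟩
  rcases hn.eq_bot_or_eq_top with k | k
  · left
    refine eq_bot_iff.2 fun x hx => ?_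
    have : (⟨x, hM hx⟩ : L) ∈ M.subgroupOf L := hx
    rw [k] at this
    exact mem_bot.2 (congrArg Subtype.val (mem_bot.1 this))
  · right
    refine le_antisymm hM fun x hx => ?_
    have : (⟨x, hx⟩ : L) ∈ M.subgroupOf L := k ▸ mem_top _
    exact this

theorem ncomm : ¬ ∀ x ∈ L, ∀ y ∈ L, x * y = y * x := by
  intro h
  obtain ⟨e⟩ := j.iso
  have k : ∀ a b : alternatingGroup (Fin 5), a * b = b * a := fun a b => by
    have := h _ (e.symm a).2 _ (e.symm b).2
    have e2 : e.symm a * e.symm b = e.symm b * e.symm a := Subtype.ext this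
    simpa using congrArg e e2
  have := k ⟨Equiv.swap 0 1 * Equiv.swap 1 2, by simp [Equiv.Perm.mem_alternatingGroup]⟩
    ⟨Equiv.swap 0 1 * Equiv.swap 1 3, by simp [Equiv.Perm.mem_alternatingGroup]⟩
  have e2 := congrArg (fun g : alternatingGroup (Fin 5) => (g : Equiv.Perm (Fin 5)) 0) this
  revert e2
  decide

theorem ex_inv : ∃ y ∈ L, y * y = 1 ∧ y ≠ 1 := by
  haveI := j.base.fin
  have h : (V ⊓ L : Subgroup Γ) ≠ ⊥ := fun e => by
    have := j.cU
    rw [e, card_bot] at this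
    omega
  obtain ⟨⟨y, hy⟩, y1⟩ := (ne_bot_iff_exists_ne_one).1 h
  exact ⟨y, hy.2, j.el y hy.1, fun e => y1 (Subtype.ext e)⟩

theorem cen_one {c : Γ} (hc : c ∈ L) (h : ∀ x ∈ L, c * x = x * c) : c = 1 := by
  haveI := j.base.fin
  rcases simp_L j (M := L ⊓ C[L]) inf_le_left (fun l hl => mem_N_of fun n hn =>
    ⟨L.mul_mem (L.mul_mem hl hn.1) (L.inv_mem hl), by
      rw [mem_C.1 hn.2 l hl, mul_inv_cancel_right]; exact hn.2⟩) with k | k
  · have : c ∈ L ⊓ C[L] := ⟨hc, mem_C.2 fun x hx => (h x hx).symm⟩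
    rw [k] at this
    exact mem_bot.1 this
  · exact absurd (fun x hx y hy => mem_C.1 (k.ge hy).2 x hx) (ncomm j)

theorem rc : RC z z L (zpowers z) := by
  haveI := j.base.fin
  have hz : ∀ x ∈ L, x * z = z * x := fun x hx => mem_Cz.1 (j.Lz hx)
  refine ⟨?_, ?_, mem_zpowers z, zpowers_le.2 (mem_C.2 hz), fun α ha x hx => ?_,
    fun α ha hf => ?_, fun M hM hN => ?_⟩
  · rcases simp_L j (M := ⁅L, L⁆) (commutator_le.2 fun a ha b hb => by
        rw [commutatorElement_def]
        exact L.mul_mem (L.mul_mem (L.mul_mem ha hb) (L.inv_mem ha)) (L.inv_mem hb))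
      (normalizer_commutator_ge_left L L) with k | k
    · exact absurd (fun x hx y hy => by
        have := commutator_mem_commutator hx hy
        rw [k] at this
        exact commutatorElement_eq_one_iff_mul_comm.1 (mem_bot.1 this)) (ncomm j)
    · exact k
  · have hle : closure {x | x ∈ L ∧ x * x = 1} ≤ L := (closure_le _).2 fun x hx => hx.1
    rcases simp_L j hle (fun l hl => mem_N_of fun n hn => by
      induction hn using closure_induction with
      | mem x hx =>
        refine subset_closure ⟨L.mul_mem (L.mul_mem hl hx.1) (L.inv_mem hl), ?_⟩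
        calc l * x * l⁻¹ * (l * x * l⁻¹) = l * (x * x) * l⁻¹ := by group
          _ = 1 := by rw [hx.2]; group
      | one => simp
      | mul x y _ _ h1 h2 =>
        have : l * (x * y) * l⁻¹ = l * x * l⁻¹ * (l * y * l⁻¹) := by group
        rw [this]; exact mul_mem h1 h2
      | inv x _ h1 =>
        have : l * x⁻¹ * l⁻¹ = (l * x * l⁻¹)⁻¹ := by group
        rw [this]; exact inv_mem h1) with k | k
    · obtain ⟨y, hy, yy, y1⟩ := ex_inv j
      have : y ∈ closure {x | x ∈ L ∧ x * x = 1} := subset_closure ⟨hy, yy⟩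
      rw [k] at this
      exact absurd (mem_bot.1 this) y1
    · exact k.ge
  · obtain ⟨c, rfl⟩ := j.inn α
    have hc : c ∈ Cz z := mem_Cz.2 (by
      have : c * z * c⁻¹ = z := ha
      calc c * z = c * z * c⁻¹ * c := by group
        _ = z * c := by rw [this])
    rw [MulAut.conj_apply]
    rcases j.cz c hc with k | k
    · exact L.mul_mem (L.mul_mem k hx) (L.inv_mem k)
    · have : c * x * c⁻¹ = c * z * x * (c * z)⁻¹ := by
        rw [mul_assoc c z x, ← hz x hx]; group
      rw [this]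
      exact L.mul_mem (L.mul_mem k hx) (L.inv_mem k)
  · obtain ⟨c, rfl⟩ := j.inn α
    have hc : c ∈ Cz z := mem_Cz.2 (by
      have : c * z * c⁻¹ = z := ha
      calc c * z = c * z * c⁻¹ * c := by group
        _ = z * c := by rw [this])
    have hx : ∀ x ∈ L, c * x = x * c := fun x hx => by
      have : c * x * c⁻¹ = x := hf x hx
      calc c * x = c * x * c⁻¹ * c := by group
        _ = x * c := by rw [this]
    refine ⟨c, ?_, rfl⟩
    rcases j.cz c hc with k | k
    · rw [cen_one j k hx]; exact one_mem _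
    · have := cen_one j k fun x h => by
        rw [mul_assoc, ← hz x h, ← mul_assoc, hx x h, mul_assoc]
      rw [eq_inv_of_mul_eq_one_left this]
      exact inv_mem (mem_zpowers z)
  · rcases simp_L j hM hN with k | k
    · exact Or.inl (k ▸ bot_le)
    · obtain ⟨y, hy, yy, y1⟩ := ex_inv j
      exact Or.inr ⟨y, k ▸ hy, yy, y1, Or.inl (j.gen y hy yy y1)⟩

end

theorem root [Finite G] {φ : Γ →* G} {A P M : Subgroup G} (h : Cfg φ A P M) {z : Γ}
    {L : Subgroup Γ} (zz : z * z = 1) (r : RC z z L (zpowers z)) {T : Subgroup G}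
    (hT : IsPGroup 2 T) (hle : T ≤ P ⊓ N[A]) (h4 : 4 ∣ Nat.card T) {k : G} (hk : k ∈ C[A])
    (hs : φ z * k ∈ P) (e : φ z * k * (φ z * k) = 1) (e1 : φ z * k ≠ 1)
    (c : ∀ x ∈ T, x * (φ z * k) = φ z * k * x) : False := by
  rcases h.x0 r hk hs e e1 with hZ | ⟨y, -, -, -, -, k1⟩
  · have d : ∀ x ∈ T, x ≠ 1 → ∃ k ∈ C[A], x = φ z * k := fun x hx x1 => by
      obtain ⟨-, e', he, k', hk', rfl⟩ := h.x1 r hk hs e e1 hZ (hle hx) (c x hx)
      rcases mem_zp_two zz he with rfl | rfl
      · exact absurd (h.two hT hle hx (by simpa using hk')) x1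
      · exact ⟨k', hk', rfl⟩
    obtain ⟨x, hx, y, hy, x1, y1, xy⟩ := two_elts h4
    have m := mul_mem hx hy
    obtain ⟨k1, m1, rfl⟩ := d x hx x1
    obtain ⟨k2, m2, rfl⟩ := d y hy y1
    refine xy (h.two hT hle m ?_)
    have : φ z * k1 * (φ z * k2) = k1 * k2 := by
      rw [h.kc m1 z, mul_assoc, ← mul_assoc (φ z), ← map_mul, zz, map_one, one_mul]
    rw [this]
    exact mul_mem m1 m2
  · exact k1 (IsConj.refl z)

theorem ja : JAStmt.{u} := by
  intro Γ _ G _ _ φ z σ ρ V L j hi hA g hg h4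
  haveI : Fact (Nat.Prime 2) := ⟨Nat.prime_two⟩
  obtain ⟨h1, -, h3, h5⟩ := red_data hA hg
  have h : Cfg φ φ.range (MulAut.conj g • C[φ.range])
      N[(MulAut.conj g • φ.range : Subgroup G)] := by
    refine ⟨j.base, hi, rfl, fun x hx hk ⟨n, hn⟩ => ?_, fun a ha x hx => ?_,
      fun s hs ss s1 c hc => ?_, fun k => ?_⟩
    · exact eq_one_of_odd_two (h1.of_dvd_nat (H10.orderOf_dvd_card_of_mem ⟨hx, hk⟩)) hn
    · rw [← centralizer_conj_smul] at hx ⊢
      exact C_conj ha hx
    · exact h3 s hs (ord_of_sq ss s1) (mem_centralizer_singleton_iff.2 hc)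
    · obtain ⟨s, hs, ho⟩ := H10.exists_mem_orderOf_eq (p := 2) (H := JJ φ g)
        (dvd_trans ⟨2, rfl⟩ h4)
      exact h5 s hs ho (by rintro _ ⟨a, rfl⟩; exact k a)
  obtain ⟨T, hT⟩ := exists_isSylowIn 2 (JJ φ g)
  have t4 := h.four hT h4
  obtain ⟨a, k, hk, sT, ss, s1, sc⟩ := h.pick hT.isPGroup hT.le t4
  have aa := (h.sq hk ss).1
  have a1 : a ≠ 1 := by
    rintro rfl
    exact s1 (h.two hT.isPGroup hT.le sT (by simpa using hk))
  obtain ⟨d, rfl⟩ := isConj_iff.1 (j.cls a aa a1)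
  exact root (h.tw d) (zz j) (rc j) hT.isPGroup hT.le t4 hk (hT.le sT).1 ss s1 sc

end Cfsg.Agent.H16.S94Ja
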