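import Cfsg.Agent.H46.J2Defs
import Cfsg.Agent.H52.Quasisimple

/-! The component of `C(E)` (project S94, piece YM). -/

set_option autoImplicit false
open scoped Pointwise commutatorElement
open Subgroup

namespace Cfsg.Agent.H16.S94Ym
open Cfsg.Agent.H8 Cfsg.Agent.H46.S94

universe u

local notation "C[" A "]" => Subgroup.centralizer (SetLike.coe A)
local notation "N[" A "]" => Subgroup.normalizer (SetLike.coe A)

section kit
variable {G X : Type u} [Group G] [Group X] {H E T A B : Subgroup G} {π : H →* X}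

/-- the image of `A ∩ H` -/
def br (π : H →* X) (A : Subgroup G) : Subgroup X := (A.subgroupOf H).map π

theorem mk_mem {x : H} (hx : (x : G) ∈ A) : π x ∈ br π A := ⟨x, hx, rfl⟩

theorem br_mono (h : A ≤ B) : br π A ≤ br π B := map_mono fun _ hx => h hx

theorem br_sup (hA : A ≤ H) (hB : B ≤ H) : br π (A ⊔ B) = br π A ⊔ br π B := by
  rw [br, subgroupOf_sup hA hB, Subgroup.map_sup]; rfl

theorem br_norm [Finite X] {x : H} (hx : (x : G) ∈ N[A]) : π x ∈ N[br π A] := by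
  refine mem_normalizer_fintype ?_
  rintro _ ⟨a, ha, rfl⟩
  rw [← map_inv, ← map_mul, ← map_mul]
  exact mk_mem ((mem_normalizer_iff.1 hx a).1 ha)

theorem br_cent {x : H} (hx : (x : G) ∈ C[A]) : π x ∈ C[br π A] := by
  rintro _ ⟨a, ha, rfl⟩
  rw [← map_mul, ← map_mul]
  exact congrArg π (Subtype.ext (hx a ha))

/-- the quotient map is onto with kernel `E` and injective on `T` -/
structure Qm (E T : Subgroup G) (π : H →* X) : Prop where
  sur : Function.Surjective π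
  ker : ∀ x : H, π x = 1 ↔ (x : G) ∈ E
  le : T ≤ H
  dis : ∀ x ∈ T, x ∈ E → x = 1
  cen : ∀ e ∈ E, ∀ x ∈ H, e * x = x * e
  EH : E ≤ H

namespace Qm
variable (q : Qm E T π)
include q

theorem ex {x y : H} (h : π x = π y) : ∃ e ∈ E, (x : G) = y * e :=
  ⟨(y⁻¹ * x : H), (q.ker _).1 (by rw [map_mul, map_inv, h, inv_mul_cancel]), by simp⟩

theorem inj {x y : H} (hx : (x : G) ∈ T) (hy : (y : G) ∈ T) (h : π x = π y) : (x : G) = y := by
  obtain ⟨e, he, h⟩ := q.ex h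
  rw [h, q.dis e ((mul_mem_cancel_left hy).1 (h ▸ hx)) he, mul_one]

theorem mem (hA : A ≤ T) {x : H} (hx : (x : G) ∈ T) (h : π x ∈ br π A) : (x : G) ∈ A := by
  obtain ⟨a, ha, e⟩ := h
  exact q.inj (hA ha) hx e ▸ ha

theorem mem_sup' {x : H} (h : π x ∈ br π A) : (x : G) ∈ A ⊔ E := by
  obtain ⟨a, ha, e⟩ := h
  obtain ⟨e, he, h⟩ := q.ex e.symm
  exact h ▸ mul_mem (mem_sup_left ha) (mem_sup_right he)

theorem eqv (hA : A ≤ T) : Nonempty (A ≃* br π A) :=
  ⟨(MonoidHom.ofInjective (f := π.comp (inclusion (hA.trans q.le))) fun a b h =>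
    Subtype.ext (q.inj (x := inclusion _ a) (y := inclusion _ b) (hA a.2) (hA b.2) h)).trans
    (MulEquiv.subgroupCongr (by rw [MonoidHom.range_comp, inclusion_range]; rfl))⟩

theorem card (hA : A ≤ T) : Nat.card (br π A) = Nat.card A :=
  have ⟨e⟩ := q.eqv hA
  (Nat.card_congr e.toEquiv).symm

theorem ord {x : H} (hx : (x : G) ∈ T) : orderOf (π x) = orderOf (x : G) :=
  orderOf_eq_orderOf_iff.2 fun n => by
    rw [← map_pow]
    exact ⟨fun h => q.inj (x := x ^ n) (y := 1) (pow_mem hx n) (one_mem _) (by rw [h, map_one]),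
      fun h => by rw [show x ^ n = 1 from Subtype.ext h, map_one]⟩

end Qm

theorem split {t x : X} {P : Subgroup X} (tt : t * t = 1) (hn : t ∈ N[P])
    (hx : x ∈ P ⊔ zpowers t) : x ∈ P ∨ ∃ p ∈ P, x = p * t := by
  rw [sup_comm] at hx
  obtain ⟨_, ⟨k, rfl⟩, p, hp, rfl⟩ := (H52.mem_sup_of_le_normalizer (zpowers_le.2 hn)).1 hx
  have h2 : t ^ (2 : ℤ) = 1 := by rw [zpow_two, tt]
  obtain ⟨k, rfl | rfl⟩ := Int.even_or_odd' k
  · left; simpa [zpow_mul, h2] using hp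
  · exact Or.inr ⟨_, (mem_normalizer_iff.1 hn p).1 hp, by simp [zpow_add, zpow_mul, h2]⟩

theorem pull [Finite G] [Finite X] {Z D P Λ : Subgroup G} {t : H} {τ : G} {X0 : Subgroup X}
    (hH : H = C[E]) (q : Qm E T π) (hE : IsPGroup 2 E) (tT : (t : G) ∈ T) (PT : P ≤ T)
    (LT : Λ ≤ T) (DP : D ≤ P) (hτ : T ≤ centralizer {τ}) (tt : (t : G) * t = 1)
    (tN : (t : G) ∈ N[P]) (P2 : IsPGroup 2 P) (P1 : P ≠ ⊥)
    (nc : ∀ a ∈ Z ⊔ E, ¬ IsConj (t : G) a) (te : ∀ e ∈ E, IsConj (t : G) (t * e) → e = 1)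
    (r : TR (π t) (br π D) (br π P) X0)
    (m : MS (br π Z) (br π D) (br π P) (br π (P ⊔ Λ)) X0) : YS (t : G) τ E Z D P (P ⊔ Λ) := by
  have MT : P ⊔ Λ ≤ T := sup_le PT LT
  set M := P ⊔ Λ with hM
  obtain ⟨e⟩ := q.eqv MT
  have ec : (center M).map e.toMonoidHom = center _ := by
    ext x
    rw [mem_map_equiv, mem_center_iff, mem_center_iff]
    exact ⟨fun h y => by simpa using congrArg e (h (e.symm y)),
      fun h y => e.injective (by simpa using h (e y))⟩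
  have qs : IsQuasisimple M := H52.IsQuasisimple.of_mulEquiv m.qs e.symm
  have oZ : Odd (Nat.card (center M)) := by
    refine m.oC.of_dvd_nat ?_
    rw [← card_map_of_injective (f := e.toMonoidHom) e.injective, ec,
      ← card_map_of_injective (br π M).subtype_injective, H52.map_center_subtype]
    exact card_dvd_of_le inf_le_right
  have tt' : π t * π t = 1 := by rw [← map_mul, show t * t = 1 from Subtype.ext tt, map_one]
  have SH : P ⊔ E ⊔ zpowers (t : G) ≤ H :=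
    sup_le (sup_le (PT.trans q.le) q.EH) (zpowers_le.2 t.2)
  have hS : (P ⊔ E ⊔ zpowers (t : G)).subgroupOf H = (br π P ⊔ zpowers (π t)).comap π := by
    refine le_antisymm ?_ fun x hx => ?_
    · rw [← map_le_iff_le_comap]
      change br π _ ≤ _
      rw [br_sup (le_sup_left.trans SH) (le_sup_right.trans SH), br_sup (PT.trans q.le) q.EH]
      refine sup_le (sup_le le_sup_left ?_) ?_
      · rintro _ ⟨x, hx, rfl⟩
        rw [(q.ker x).2 hx]; exact one_mem _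
      · rintro _ ⟨x, ⟨k, hk⟩, rfl⟩
        rw [show x = t ^ k from Subtype.ext hk.symm, map_zpow]
        exact mem_sup_right ⟨k, rfl⟩
    · rcases split tt' (br_norm tN) hx with h | ⟨p, hp, h⟩
      · exact mem_sup_left (q.mem_sup' h)
      · have : π (x * t⁻¹) ∈ br π P := by rwa [map_mul, map_inv, h, mul_inv_cancel_right]
        exact (mul_mem_cancel_right (mem_sup_right (inv_mem (mem_zpowers (t : G))))).1
          (mem_sup_left (q.mem_sup' this))
  have tD : ∀ d ∈ D, ∃ p ∈ P, p * t * p⁻¹ = d * t := fun d hd => by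
    obtain ⟨_, ⟨p, hp, rfl⟩, h⟩ := r.tD _ (mk_mem (x := ⟨d, q.le (PT (DP hd))⟩) hd)
    rw [← map_inv, ← map_mul, ← map_mul, ← map_mul] at h
    exact ⟨p, hp, q.inj (mul_mem (mul_mem (PT hp) tT) (inv_mem (PT hp))) (mul_mem (PT (DP hd)) tT) h⟩
  have k1 : ∀ x : H, (x : G) * x = 1 → π x ∈ X0 → ∃ c ∈ H, c * x * c⁻¹ ∈ Z ⊔ E := fun x h1 h2 => by
    have h3 : π x * π x = 1 := by rw [← map_mul, show x * x = 1 from Subtype.ext h1, map_one]
    obtain ⟨_, ⟨c, -, rfl⟩, h⟩ := m.inv _ (m.two _ h2 ⟨1, by rw [pow_one, sq, h3]⟩) h3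
    rw [← map_inv, ← map_mul, ← map_mul] at h
    exact ⟨c, c.2, q.mem_sup' h⟩
  have k2 : ∀ x : H, (x : G) * x = 1 → π x ∉ X0 → π x ∈ br π P ⊔ zpowers (π t) →
      ∃ d ∈ D, ∃ e ∈ E, (x : G) = d * t * e := fun x h1 h2 h3 => by
    obtain ⟨p, hp, h⟩ := (split tt' (br_norm tN) h3).resolve_left fun h => h2 (r.PX h)
    obtain ⟨d, hd, rfl⟩ := r.tP p hp (by
      rw [← h, ← map_mul, show x * x = 1 from Subtype.ext h1, map_one])
    exact ⟨d, hd, q.ex (h.trans (map_mul π d t).symm)⟩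
  have k3 : ∀ d ∈ D, ∀ e ∈ E, ∃ p ∈ P, d * t * e = p * (t * e) * p⁻¹ := fun d hd e he => by
    obtain ⟨p, hp, h⟩ := tD d hd
    refine ⟨p, hp, ?_⟩
    rw [← h, mul_assoc _ p⁻¹, ← q.cen e he _ (inv_mem (q.le (PT hp)))]
    group
  refine ⟨qs, ?_, oZ, fun n hn => mem_normalizer_fintype fun x hx => ?_,
    fun a ha x hx => (q.cen a ha x (q.le (MT hx))).symm,
    fun x hx => mem_centralizer_singleton_iff.1 (hτ (MT hx)), fun x hx h1 ⟨k, h2⟩ => ?_,
    hH ▸ ⟨SH, ?_, ?_⟩, le_antisymm (fun x h12 => ?_)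
      (le_inf (le_sup_left.trans le_sup_left) le_sup_left), tD, fun s hs h => ?_,
    fun x hx h => ?_⟩
  · obtain ⟨F, _, _, hF, ⟨f⟩⟩ := m.iso
    exact ⟨F, _, _, hF, ⟨(QuotientGroup.congr _ _ e ec).trans f⟩⟩
  · have nH : ∀ y ∈ H, n * y * n⁻¹ ∈ H := fun y hy => by
      rw [hH] at hy ⊢
      intro a ha
      have := hy _ ((mem_normalizer_iff''.1 hn a).1 ha)
      calc _ = n * (n⁻¹ * a * n * y) * n⁻¹ := by group
        _ = _ := by rw [this]; group
    let g : M →* G := (MulAut.conj n).toMonoidHom.comp M.subtype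
    let f : M →* X := π.comp (g.codRestrict H fun y => nH _ (q.le (MT y.2)))
    have hp : _root_.commutator M = ⊤ := (H52.isQuasisimple_iff_normal.1 qs).1
    have := r.n0
    have := m.nM
    have h0 : ∀ y, f y ∈ X0 := fun y => by
      have h1 : _root_.commutator M ≤ X0.comap f := commutator_le.2 fun a _ b _ => by
        rw [mem_comap, map_commutatorElement, commutatorElement_def, mul_mem_iff_of_index_two r.idx,
          mul_mem_iff_of_index_two r.idx, mul_mem_iff_of_index_two r.idx, inv_mem_iff, inv_mem_iff]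
        tauto
      exact h1 (hp ▸ mem_top y)
    have h1 : (br π M).comap f = ⊤ := by
      refine (H52.IsQuasisimple.normal_eq_top_or_le_center qs _).resolve_right fun h => P1 ?_
      refine eq_bot_iff.2 fun p hp => ?_
      obtain ⟨k, hk⟩ := P2 ⟨p, hp⟩
      have h2 : (⟨p, mem_sup_left hp⟩ : M) ^ 2 ^ k = 1 := Subtype.ext (congrArg (fun y : P => (y : G)) hk)
      have h3 := h (x := ⟨p, mem_sup_left hp⟩) (m.two _ (h0 _) ⟨k, by rw [← map_pow, h2, map_one]⟩)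
      have h4 : (⟨_, h3⟩ : center M) = 1 := (pow_eq_one_iff_of_coprime
        (Nat.Coprime.pow_left k oZ.coprime_two_left)).1 ⟨Subtype.ext h2, pow_card_eq_one'⟩
      exact congrArg (fun y : center M => (y.1 : G)) h4
    have h2 : ∀ y, ∃ a ∈ M, ∃ e ∈ E, g y = a * e := fun y => by
      obtain ⟨a, ha, h⟩ : f y ∈ br π M := (h1 ▸ mem_top y : y ∈ (br π M).comap f)
      exact ⟨a, ha, q.ex h.symm⟩
    have h3 : _root_.commutator M ≤ M.comap g := commutator_le.2 fun a _ b _ => by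
      obtain ⟨a', ha, e, he, h⟩ := h2 a
      obtain ⟨b', hb, e', he', h'⟩ := h2 b
      have c1 : ∀ y ∈ H, Commute e y := q.cen e he
      have c2 : ∀ y ∈ H, Commute e' y := q.cen e' he'
      have aH := q.le (MT ha)
      have bH := mul_mem (q.le (MT hb)) (q.EH he')
      rw [mem_comap, map_commutatorElement, h, h', commutatorElement_def, mul_inv_rev a', mul_assoc a' e,
        (c1 _ bH).eq, mul_assoc a', mul_assoc _ e, mul_inv_cancel_left, mul_inv_rev, mul_assoc b',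
        (c2 _ (inv_mem aH)).eq, mul_assoc, mul_assoc, mul_assoc, mul_inv_cancel_left]
      exact mul_mem ha (mul_mem hb (mul_mem (inv_mem ha) (inv_mem hb)))
    exact h3 (hp ▸ mem_top (⟨x, hx⟩ : M))
  · rw [← hH] at hx
    have h3 : (⟨π ⟨x, hx⟩, br_cent h1⟩ : C[br π M]) = 1 := (pow_eq_one_iff_of_coprime
      (Nat.Coprime.pow_left k m.oC.coprime_two_left)).1 ⟨Subtype.ext (by
        change π _ ^ _ = 1
        rw [← map_pow, show (⟨x, hx⟩ : H) ^ 2 ^ k = 1 from Subtype.ext h2, map_one]),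
        pow_card_eq_one'⟩
    exact (q.ker _).1 (congrArg Subtype.val h3)
  · refine IsPGroup.of_equiv ?_ (subgroupOfEquivOfLe SH)
    rw [hS]
    refine r.syl.isPGroup.comap_of_ker_isPGroup π ?_
    rw [show π.ker = E.subgroupOf H from Subgroup.ext q.ker]
    exact hE.comap_subtype
  · rw [relIndex, hS, index_comap_of_surjective _ q.sur, ← relIndex_top_right]
    exact r.syl.not_dvd
  · obtain ⟨h1, h2⟩ := h12
    have h3 : (⟨x, SH h1⟩ : H) ∈ (br π P ⊔ zpowers (π t)).comap π := hS ▸ h1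
    refine q.mem PT (x := ⟨x, SH h1⟩) (MT h2) ((split tt' (br_norm tN) h3).resolve_right ?_)
    rintro ⟨p, hp, h⟩
    exact r.tX ((mul_mem_cancel_left (r.PX hp)).1 (h ▸ m.MX (mk_mem h2)))
  · obtain ⟨c, hc⟩ := isConj_iff.1 h
    have h1 : s * s = 1 := by rw [← hc, conj_mul, tt, mul_one, mul_inv_cancel]
    have h3 : (⟨s, SH hs⟩ : H) ∈ (br π P ⊔ zpowers (π t)).comap π := hS ▸ hs
    obtain ⟨d, hd, a, ha, h4⟩ := k2 ⟨s, SH hs⟩ h1 (fun h2 => by
      obtain ⟨c, -, hc⟩ := k1 _ h1 h2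
      exact nc _ hc (h.trans (isConj_iff.2 ⟨c, rfl⟩))) h3
    obtain ⟨p, -, h5⟩ := k3 d hd a ha
    obtain rfl := te a ha (h.trans (isConj_iff.2 ⟨p, (h4.trans h5).symm⟩).symm)
    exact ⟨d, hd, h4.trans (mul_one _)⟩
  · rw [← hH] at hx ⊢
    by_cases h2 : π ⟨x, hx⟩ ∈ X0
    · obtain ⟨c, hc, h3⟩ := k1 ⟨x, hx⟩ h h2
      exact ⟨c, hc, Or.inl (sup_comm Z E ▸ h3)⟩
    have h3 : (⟨x, hx⟩ : H) * ⟨x, hx⟩ = 1 := Subtype.ext h
    obtain ⟨c, -, hc⟩ := r.syl.exists_conj_le (Q := zpowers (π ⟨x, hx⟩)) (IsPGroup.of_card (n := 1) (by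
      rw [Nat.card_zpowers, pow_one]
      exact orderOf_eq_prime (by rw [sq, ← map_mul, h3, map_one]) fun e => h2 (e ▸ one_mem _))) le_top
    obtain ⟨c, rfl⟩ := q.sur c
    have := r.n0
    obtain ⟨d, hd, a, ha, h4⟩ := k2 (c * ⟨x, hx⟩ * c⁻¹) (by
      rw [← coe_mul, conj_mul, h3, mul_one, mul_inv_cancel, coe_one])
      (by rwa [map_mul, map_mul, map_inv, this.mem_comm_iff, inv_mul_cancel_left])
      (by rw [map_mul, map_mul, map_inv]; exact hc (conj_mem_conj_smul.2 (mem_zpowers _)))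
    obtain ⟨p, hp, h5⟩ := k3 d hd a ha
    refine ⟨p⁻¹ * c, mul_mem (inv_mem (q.le (PT hp))) c.2, Or.inr ⟨a, ha, ?_⟩⟩
    have h6 : (c : G) * x * (c : G)⁻¹ = p * (t * a) * p⁻¹ := h4.trans h5
    calc _ = p⁻¹ * (c * x * (c : G)⁻¹) * p := by group
      _ = _ := by rw [h6]; group

end kit

theorem sZ {Γ : Type} [Group Γ] {G : Type u} [Group G] [Finite G] (φ : Γ →* G) {z y σ : Γ}
    (ln : LN z y σ) : φ σ ∈ N[(Z2 z y).map φ] := by
  refine mem_normalizer_fintype ?_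
  rintro _ ⟨a, ha, rfl⟩
  have h : Z2 z y ≤ (Z2 z y).comap (MulAut.conj σ).toMonoidHom := (closure_le _).2 (by
    have hz : z ∈ Z2 z y := subset_closure (Or.inl rfl)
    have hy : y ∈ Z2 z y := subset_closure (Or.inr rfl)
    have h1 : σ * z * σ⁻¹ ∈ Z2 z y := by rw [ln.s1]; exact hy
    have h2 : σ * y * σ⁻¹ ∈ Z2 z y := by rw [ln.s2]; exact mul_mem hz hy
    rintro _ (rfl | rfl)
    · exact h1
    · exact h2)
  exact ⟨_, h ha, by simp⟩

theorem ym (pb1 : PB1Stmt.{u}) (pb2 : PB2Stmt.{u}) : YMStmt.{u} := by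
  intro Γ _ G _ _ φ t O D P f z y σ τ E Λ ja cx ft ds pj
  have jf := ja.jf
  have el : ∀ e ∈ E, e * e = 1 := fun e he => ja.wf.el e (mem_sup_left he)
  have EE : E ≤ C[E] := fun a ha b hb => by
    have h := el _ (mul_mem ha hb)
    rw [← inv_eq_iff_mul_eq_one, mul_inv_rev, inv_eq_of_mul_eq_one_right (el a ha),
      inv_eq_of_mul_eq_one_right (el b hb)] at h
    exact h
  have cm : ∀ {A B : Subgroup Γ}, A ≤ C[B] → A.map φ ≤ C[B.map φ] := fun h => by
    rintro _ ⟨a, ha, rfl⟩ _ ⟨b, hb, rfl⟩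
    rw [← map_mul, ← map_mul, h ha b hb]
  set H := C[E.map φ] with hH
  have EH : E.map φ ≤ H := cm EE
  have cen : ∀ e ∈ E.map φ, ∀ x ∈ H, e * x = x * e := fun e he x hx => hx e he
  set T := H ⊓ centralizer {φ τ} with hT
  obtain ⟨X, _, _, π, q⟩ : ∃ (X : Type u) (_ : Group X) (_ : Finite X) (π : H →* X),
      Qm (E.map φ) T π := by
    haveI : ((E.map φ).subgroupOf H).Normal := ⟨fun a ha g => by
      rw [show g * a * g⁻¹ = a from Subtype.ext (by
        rw [coe_mul, coe_mul, ← cen (a : G) ha _ g.2, coe_inv, mul_inv_cancel_right])]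
      exact ha⟩
    refine ⟨_, _, inferInstance, QuotientGroup.mk' ((E.map φ).subgroupOf H),
      QuotientGroup.mk'_surjective _, fun x => QuotientGroup.eq_one_iff x, inf_le_left, ?_, cen, EH⟩
    rintro _ h ⟨e, he, rfl⟩
    have h1 : e * τ = τ * e := cx.inj (by
      rw [map_mul, map_mul]; exact mem_centralizer_singleton_iff.1 h.2)
    by_contra h2
    have h3 : e ≠ 1 := fun e => h2 (by rw [e, map_one])
    have h4 : E ≤ zpowers e := fun b hb => by
      by_cases h5 : b = 1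
      · rw [h5]; exact one_mem _
      obtain ⟨i, rfl⟩ := jf.tE e he h3 b hb h5
      rw [((show Commute τ e from h1.symm).pow_left i).eq, mul_inv_cancel_right]
      exact mem_zpowers e
    have := ja.base.fin
    have h6 := card_le_of_le h4
    rw [jf.cE4, Nat.card_zpowers, orderOf_eq_prime (p := 2) (by rw [sq, el e he]) h3] at h6
    omega
  have cT : ∀ x, x ∈ C[φ.range] → x ∈ T := fun x hx =>
    ⟨centralizer_le (map_le_range _ _) hx, mem_centralizer_singleton_iff.2 (hx _ ⟨τ, rfl⟩).symm⟩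
  have tT := cT t cx.tC
  have OT : O ≤ T := fun o ho => cT o (cx.OC ho)
  have PT : P ≤ T := fun p hp => ⟨pj.cE hp, mem_centralizer_singleton_iff.2 (pj.ct p hp)⟩
  have LT : Λ.map φ ≤ T := le_inf (cm (le_centralizer_iff.1 jf.EC)) (by
    rintro _ ⟨l, hl, rfl⟩
    rw [mem_centralizer_singleton_iff, ← map_mul, ← map_mul, jf.tC l hl])
  have sL : φ σ ∈ Λ.map φ := mem_map_of_mem _ jf.sL
  have ZL : Z2 z y ≤ Λ := (closure_le _).2 (by
    rintro _ (rfl | rfl)
    · exact jf.zL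
    · rw [← ja.ln.s1]; exact mul_mem (mul_mem jf.sL jf.zL) (inv_mem jf.sL))
  have ZT := (map_mono ZL).trans LT
  have DT := pj.DP.trans PT
  have te : ∀ e ∈ E.map φ, IsConj t (t * e) → e = 1 := by
    rintro _ ⟨e, he, rfl⟩ h
    by_contra h1
    exact ft.te e he (fun e => h1 (by rw [e, map_one])) h
  set t' : H := ⟨t, tT.1⟩ with ht'
  set s' : H := ⟨φ σ, (LT sL).1⟩ with hs'
  have mul : ∀ {a b c d : H}, (a : G) * b = c * d → π a * π b = π c * π d := fun h => by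
    rw [← map_mul, ← map_mul]; exact congrArg π (Subtype.ext h)
  have a5 : A5C (π t') (π s') (br π (Λ.map φ)) (br π O) (br π ((Z2 z y).map φ)) := by
    refine ⟨by rw [← map_mul, show t' * t' = 1 from Subtype.ext cx.tt, map_one],
      fun h => cx.t1 (q.dis t tT ((q.ker t').1 h)), ?_, ?_, ?_, by rw [q.card OT]; exact cx.odd, ?_,
      fun c hc => ?_, br_mono (map_mono ZL), ?_, mk_mem sL, ?_, br_norm ?_⟩
    · obtain ⟨e1⟩ := q.eqv LT
      obtain ⟨e2⟩ := jf.iso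
      exact ⟨e1.symm.trans ((Λ.equivMapOfInjective φ cx.inj).symm.trans e2)⟩
    · rintro _ ⟨⟨_, h⟩, ⟨l, -, rfl⟩, rfl⟩
      exact mul (cx.AC l)
    · rintro _ ⟨o, ho, rfl⟩
      exact mul (cx.Ot o ho)
    · rintro _ ⟨o, ho, rfl⟩
      exact br_cent (centralizer_le (map_le_range _ _) (cx.OC ho))
    · obtain ⟨c, rfl⟩ := q.sur c
      obtain ⟨e, he, h⟩ := q.ex (x := c * t' * c⁻¹) (y := t') (by
        rw [map_mul, map_mul, hc, map_inv, mul_inv_cancel_right])
      obtain rfl := te e he (isConj_iff.2 ⟨c, h⟩)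
      have h1 : (c : G) * t = t * c := by simpa [mul_inv_eq_iff_eq_mul] using h
      obtain ⟨α, hα⟩ := cx.aut h1
      obtain ⟨a, ha, h2⟩ := jf.cE α fun e he => cx.inj (by
        rw [hα, ← cen _ (mem_map_of_mem φ he) c c.2, mul_inv_cancel_right])
      obtain ⟨o, ho, h3⟩ := cx.split' h1 hα h2
      obtain ⟨e, he, l, hl, rfl⟩ :=
        (H52.mem_sup_of_le_normalizer (jf.EC.trans (centralizer_le_normalizer _))).1 ha
      have he' := mem_map_of_mem φ he
      have hl' := mem_map_of_mem φ hl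
      have h4 : π ⟨_, EH he'⟩ = 1 := (q.ker _).2 he'
      refine ⟨_, mk_mem (x := ⟨_, (LT hl').1⟩) hl', _, mk_mem (x := ⟨_, (OT ho).1⟩) ho,
        h3.imp (fun h => ?_) fun h => ?_⟩
      · rw [show c = ⟨_, EH he'⟩ * (⟨_, (LT hl').1⟩ * ⟨_, (OT ho).1⟩) from
          Subtype.ext (by rw [h, map_mul, mul_assoc]; rfl), map_mul, h4, one_mul, map_mul]
      · rw [show c = ⟨_, EH he'⟩ * (⟨_, (LT hl').1⟩ * t' * ⟨_, (OT ho).1⟩) from
          Subtype.ext (by rw [h, map_mul, mul_assoc (φ e), mul_assoc (φ e)]; rfl), map_mul, h4,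
          one_mul, map_mul, map_mul]
    · rw [q.card ZT, card_map_of_injective cx.inj, ja.wf.cZ]
    · rw [q.ord (LT sL)]
      exact (orderOf_injective φ cx.inj σ).trans jf.so
    · exact sZ φ ja.ln
  have iv : IV (π t') (π s') (br π ((Z2 z y).map φ)) (br π P) :=
    ⟨pj.iv.two.comap_subtype.map π, br_mono pj.iv.ZP, br_norm pj.iv.tN, br_norm pj.iv.sN,
      fun h => pj.iv.tP (q.mem PT (x := t') tT h)⟩
  have sp : Sp (br π ((Z2 z y).map φ)) (br π P) := by
    refine ⟨(q.card PT).trans pj.sp.card, ?_, ?_, ?_⟩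
    · rintro _ ⟨a, ha, rfl⟩
      exact br_cent (pj.sp.ZC ha)
    · rintro _ ⟨⟨a, ha, rfl⟩, h⟩
      refine mk_mem (pj.sp.cZ ⟨ha, fun b hb => ?_⟩)
      have := h _ (mk_mem (x := ⟨b, (PT hb).1⟩) hb)
      rw [← map_mul, ← map_mul] at this
      exact q.inj (mul_mem (PT hb) (PT ha)) (mul_mem (PT ha) (PT hb)) this
    · rintro _ ⟨a, ha, rfl⟩
      rw [← map_mul]
      exact mk_mem (pj.sp.sq a ha)
  have l34 : L34 (br π P) := by
    obtain ⟨F, _, _, hF, S, ⟨e⟩⟩ := pj.l34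
    obtain ⟨e1⟩ := q.eqv PT
    exact ⟨F, _, _, hF, S, ⟨e1.symm.trans e⟩⟩
  have d4 : D4 (π t') (π s') (br π ((Z2 z y).map φ)) (br π D) := by
    refine ⟨?_, (q.card DT).trans ds.d4.card, br_mono ds.d4.ZD, ?_, br_norm ds.d4.sN, ?_⟩
    · rintro _ ⟨a, ha, rfl⟩ _ ⟨b, hb, rfl⟩
      exact mul (ds.d4.ab a ha b hb)
    · rintro _ ⟨a, ha, rfl⟩
      rw [← map_mul, ← map_mul, ← map_inv]
      exact congrArg π (Subtype.ext (ds.d4.inv a ha))
    · obtain ⟨d, hd, h⟩ := ds.d4.four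
      exact ⟨_, mk_mem (x := ⟨d, (DT hd).1⟩) hd, (q.ord (DT hd)).trans h⟩
  obtain ⟨X0, r⟩ := pb1 _ _ _ _ _ _ _ _ a5 iv sp d4 (br_mono pj.DP)
  have m := pb2 _ _ _ _ _ _ _ _ _ a5 iv sp l34 d4 (br_mono pj.DP) r
  rw [← br_sup (PT.trans q.le) (LT.trans q.le)] at m
  refine pull (t := t') hH q (fun ⟨e, he⟩ => ⟨1, Subtype.ext ?_⟩) tT PT LT pj.DP inf_le_right cx.tt
    pj.iv.tN pj.iv.two (fun h => ?_) (fun a ha => ?_) te r m
  · obtain ⟨e, he, rfl⟩ := he
    change φ e ^ 2 ^ 1 = 1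
    rw [pow_one, sq, ← map_mul, el e he, map_one]
  · have := pj.sp.card
    rw [h, card_bot] at this
    omega
  · obtain ⟨a, rfl⟩ := sup_le (map_le_range _ _) (map_le_range _ _) ha
    exact ft.nc a

end Cfsg.Agent.H16.S94Ym
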