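import Cfsg.Agent.H16.SpG5b

/-! Project SP: the `2`-rank of `C(t)` and the transitivity of `N(A⟨t⟩)`. -/

set_option autoImplicit false

namespace Cfsg.Agent.H16.SpG

open Cfsg Cfsg.Agent.H63 Cfsg.Agent.H63.SL Cfsg.Agent.H26 Cfsg.Agent.H78 Subgroup Module
open Cfsg.Agent.H68.Sp
open scoped commutatorElement

universe u v

section Grp

variable {G : Type u} [Group G]

theorem mem_hat {A : Subgroup G} {t : G} (h2 : t * t = 1) (hc : ∀ a ∈ A, a * t = t * a) {x : G} :
    x ∈ A ⊔ zpowers t ↔ x ∈ A ∨ x * t ∈ A := by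
  have hc' : ∀ a, a * t ∈ A → a * t = t * a := fun a ha => by
    have := hc _ ha
    rwa [← mul_assoc, mul_left_inj] at this
  let B : Subgroup G :=
    { carrier := {x | x ∈ A ∨ x * t ∈ A}
      one_mem' := Or.inl A.one_mem
      mul_mem' := by
        rintro a b (ha | ha) (hb | hb)
        · exact Or.inl (A.mul_mem ha hb)
        · exact Or.inr (by rw [mul_assoc]; exact A.mul_mem ha hb)
        · exact Or.inr (by rw [mul_assoc, hc b hb, ← mul_assoc]; exact A.mul_mem ha hb)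
        · refine Or.inl ?_
          have := A.mul_mem ha hb
          rwa [hc' b hb, mul_assoc, ← mul_assoc t, h2, one_mul] at this
      inv_mem' := by
        rintro a (ha | ha)
        · exact Or.inl (A.inv_mem ha)
        · refine Or.inr ?_
          have := A.inv_mem ha
          rwa [hc' a ha, mul_inv_rev, inv_eq_of_mul_eq_one_right h2] at this }
  constructor
  · refine fun hx => (sup_le (fun a ha => Or.inl ha) ?_ : A ⊔ zpowers t ≤ B) hx
    exact zpowers_le.2 (Or.inr (by rw [h2]; exact A.one_mem))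
  · rintro (h | h)
    · exact mem_sup_left h
    · have := mul_mem (mem_sup_left h : x * t ∈ A ⊔ zpowers t) (mem_sup_right (mem_zpowers t))
      rwa [mul_assoc, h2, mul_one] at this

theorem card_le_two_mul [Finite G] {A E : Subgroup G} {r : G}
    (h : ∀ e ∈ E, e ∈ A ∨ e * r ∈ A) : Nat.card E ≤ 2 * Nat.card A := by
  have h1 : (E : Set G) ⊆ (A : Set G) ∪ (fun x => x * r⁻¹) '' (A : Set G) := fun e he => by
    rcases h e he with h2 | h2
    · exact Or.inl h2
    · exact Or.inr ⟨_, h2, mul_inv_cancel_right e r⟩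
  have h2 := (Set.ncard_le_ncard h1).trans (Set.ncard_union_le _ _)
  have h3 := Set.ncard_image_le (f := fun x => x * r⁻¹) (s := (A : Set G))
  change (E : Set G).ncard ≤ 2 * (A : Set G).ncard
  omega

theorem two_mul_card_le [Finite G] {A B : Subgroup G} (h : A ≤ B) {t : G} (hB : t ∈ B)
    (hA : t ∉ A) : 2 * Nat.card A ≤ Nat.card B := by
  obtain ⟨c, hc⟩ := card_dvd_of_le h
  have h0 : 0 < Nat.card B := Nat.card_pos
  have h1 : c ≠ 1 := by
    rintro rfl
    exact hA (eq_of_le_of_card_ge h (by omega) ▸ hB)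
  have h2 : c ≠ 0 := by
    rintro rfl
    omega
  rw [hc, mul_comm]
  exact Nat.mul_le_mul_left _ (by omega)

theorem comm_of_el {E : Subgroup G} (h : ∀ e ∈ E, e * e = 1) {a b : G} (ha : a ∈ E) (hb : b ∈ E) :
    a * b = b * a := by
  have h1 := h _ (E.mul_mem ha hb)
  rw [← inv_eq_of_mul_eq_one_right h1, mul_inv_rev, inv_eq_of_mul_eq_one_right (h a ha),
    inv_eq_of_mul_eq_one_right (h b hb)]

theorem isPGroup_of_el {E : Subgroup G} (h : ∀ e ∈ E, e * e = 1) : IsPGroup 2 E := fun e =>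
  ⟨1, Subtype.ext (by simpa [sq] using h e e.2)⟩

end Grp

variable {F V : Type v} [Field F] [AddCommGroup V] [Module F V] {G : Type u} [Group G]
  {P : PForm F V} {φ : P.E →* G} {L : Subgroup G} {k : ℕ} {t : G}

theorem phi_mem (h : SG P φ L k) (e : P.E) : φ e ∈ L := h.rng ▸ ⟨e, rfl⟩

theorem S2_le (h : SG P φ L k) (S : Set V) : S2 P φ S ≤ L := by
  rw [S2, closure_le]
  rintro _ ⟨v, -, c, rfl⟩
  exact phi_mem h _

/-- The centre of `L` is trivial. -/
theorem zl (h : SG P φ L k) (nf : NF P φ L) {l : G} (hl : l ∈ L) (hc : l ∈ C[L]) : l = 1 := by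
  rw [← h.rng] at hl
  obtain ⟨e, rfl⟩ := hl
  have : e = 1 := by
    ext v
    by_cases hv : v = 0
    · rw [hv, map_zero, map_zero]
    · exact nf.ct e v 1 hv one_ne_zero (hc _ (phi_mem h _)).symm
  rw [this, map_one]

/-- Inner involutions centralizing `t`. -/
theorem inner_inv (h : SG P φ L k) (nf : NF P φ L) (tc : Tc L t) {e : G} (he : e ∈ L ⊔ C[L])
    (het : e * t = t * e) (h2 : e * e = 1) : e ∈ L ∨ e * t ∈ L := by
  have hN : C[L] ≤ N[L] := centralizer_le_normalizer _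
  rw [sup_comm, ← SetLike.mem_coe, coe_mul_of_left_le_normalizer_right _ _ hN] at he
  obtain ⟨κ, hκ, l, hl, rfl⟩ := he
  have h1 : l * κ = κ * l := hκ l hl
  have h3 : κ * κ * (l * l) = 1 := by
    calc _ = κ * (κ * l) * l := by group
      _ = κ * (l * κ) * l := by rw [h1]
      _ = κ * l * (κ * l) := by group
      _ = 1 := h2
  have h4 : κ * κ = 1 := by
    refine zl h nf ?_ (mul_mem hκ hκ)
    rw [eq_inv_of_mul_eq_one_left h3]
    exact L.inv_mem (L.mul_mem hl hl)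
  have h5 : l * t = t * l := tc.tc l hl
  have h6 : Commute κ t := by
    have : κ * t * l = t * κ * l := by
      rw [mul_assoc, ← h5, ← mul_assoc, mul_assoc t]; exact het
    exact mul_right_cancel this
  rcases tc.one κ hκ h6 h4 with rfl | rfl
  · exact Or.inl (by simpa using hl)
  · refine Or.inr ?_
    change κ * l * κ ∈ L
    rwa [← h1, mul_assoc, h4, mul_one]

theorem t_sq (tc : Tc L t) : t * t = 1 := by rw [← sq, ← tc.t2, pow_orderOf_eq_one]

theorem t_ne (tc : Tc L t) : t ≠ 1 := by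
  rintro rfl
  simpa using tc.t2

/-- Elementary abelian subgroups of `C(t)`. -/
theorem rk_eq [Finite F] [Finite G] (c : Ctx0 P φ L k t) (E : Subgroup G) (hE : E ≤ C1[t])
    (h2 : ∀ e ∈ E, e * e = 1) : Nat.card E ≤ 2 * Nat.card F ^ (k * (k + 1) / 2) ∧
      (Nat.card E = 2 * Nat.card F ^ (k * (k + 1) / 2) →
        ∃ Fr : Frame P k, Fr.Norm ∧ E = AW P φ Fr ⊔ zpowers t) := by
  have sg := c.toLL.toSM.toSG
  have ht := t_sq c.tc
  have hEt : ∀ e ∈ E, e * t = t * e := fun e he => (mem_centralizer_singleton_iff.1 (hE he))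
  have hLt : ∀ l ∈ L, l * t = t * l := c.tc.tc
  set E1 := (E ⊔ zpowers t) ⊓ L with hE1
  have m1 : ∀ l, l ∈ E1 ↔ (l ∈ E ∨ l * t ∈ E) ∧ l ∈ L := fun l => by
    rw [hE1, mem_inf, mem_hat ht hEt]
  have el1 : ∀ l ∈ E1, l * l = 1 := fun l hl => by
    obtain ⟨h3 | h3, h4⟩ := (m1 l).1 hl
    · exact h2 l h3
    · have := h2 _ h3
      rwa [mul_assoc, ← mul_assoc t, ← hLt l h4, mul_assoc, ht, mul_one] at this
  have in1 : ∀ e ∈ E, e ∈ L ⊔ C[L] → e ∈ E1 ∨ e * t ∈ E1 := fun e he hi => by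
    rcases inner_inv sg c.nf c.tc hi (hEt e he) (h2 e he) with h3 | h3
    · exact Or.inl ((m1 _).2 ⟨Or.inl he, h3⟩)
    · exact Or.inr ((m1 _).2 ⟨Or.inr (by rwa [mul_assoc, ht, mul_one]), h3⟩)
  obtain ⟨j1, j2⟩ := c.jf.jf1 E1 inf_le_right el1
  by_cases hin : E ≤ L ⊔ C[L]
  · have h3 := card_le_two_mul fun e he => in1 e he (hin he)
    refine ⟨by omega, fun h4 => ?_⟩
    obtain ⟨Fr, hN, h5⟩ := j2 (by omega)
    refine ⟨Fr, hN, ?_⟩
    rw [← h5]
    have hc1 : ∀ a ∈ E1, a * t = t * a := fun a ha => hLt a ha.2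
    refine eq_of_le_of_card_ge (fun e he => (mem_hat ht hc1).2 (in1 e he (hin he))) ?_
    have h6 := card_le_two_mul fun e (he : e ∈ E1 ⊔ zpowers t) => (mem_hat ht hc1).1 he
    omega
  · obtain ⟨r, hr, hr'⟩ := SetLike.not_le_iff_exists.1 hin
    obtain ⟨χ, -, hχ⟩ := c.nf.out
    have hN : ∀ e ∈ E, e ∈ N[L] := fun e he => c.tc.cN (hE he)
    have := H73.finite_ringAut (F := F)
    have hcy : IsCyclic (⊤ : Subgroup (F ≃+* F)) := by
      have := H73.isCyclic_ringAut (F := F)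
      exact Subgroup.isCyclic _
    have ho : ∀ e (he : e ∈ E), e ∉ L ⊔ C[L] → orderOf (χ ⟨e, hN e he⟩) = 2 := fun e he hi => by
      refine orderOf_eq_prime ?_ fun h => hi ((hχ _).1 h)
      rw [sq, ← map_mul, ← map_one χ]
      congr 1
      exact Subtype.ext (h2 e he)
    have h3 : Nat.card E ≤ 2 * Nat.card ↥(E ⊓ (L ⊔ C[L])) := by
      refine card_le_two_mul (r := r) fun e he => ?_
      by_cases hi : e ∈ L ⊔ C[L]
      · exact Or.inl ⟨he, hi⟩
      · refine Or.inr ⟨E.mul_mem he hr, (hχ ⟨e * r, hN _ (E.mul_mem he hr)⟩).1 ?_⟩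
        have h4 := H81.involution_unique_of_isCyclic hcy (mem_top _) (mem_top _) (ho e he hi)
          (ho r hr hr')
        have h5 : (⟨e * r, hN _ (E.mul_mem he hr)⟩ : N[L]) = ⟨e, hN e he⟩ * ⟨r, hN r hr⟩ := rfl
        rw [h5, map_mul, h4, ← sq, ← ho r hr hr', pow_orderOf_eq_one]
    have h4 : Nat.card ↥(E ⊓ (L ⊔ C[L])) ≤ 2 * Nat.card E1 :=
      card_le_two_mul fun e he => in1 e he.1 he.2
    have h5 := c.lg.le r (hN r hr) (by rw [h2 r hr]; exact one_mem _) hr' E1 (fun l hl => by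
      obtain ⟨h5, h6⟩ := (m1 l).1 hl
      refine ⟨h6, mem_centralizer_singleton_iff.2 ?_⟩
      rcases h5 with h5 | h5
      · exact comm_of_el h2 h5 hr
      · have := comm_of_el h2 h5 hr
        rwa [mul_assoc, ← hEt r hr, ← mul_assoc, ← mul_assoc, mul_left_inj] at this)
      (isPGroup_of_el el1)
    have hq : 2 ≤ Nat.card F := Finite.one_lt_card
    have h6 : 2 * Nat.card E1 < Nat.card F ^ (k * (k + 1) / 2) := by
      refine lt_of_pow_lt_pow_left₀ 2 (Nat.zero_le _) ?_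
      rw [← pow_mul, Nat.div_mul_cancel (Nat.even_mul_succ_self k).two_dvd, mul_add, mul_one,
        pow_add, mul_pow]
      have h7 : 2 ^ 3 ≤ Nat.card F ^ k :=
        (Nat.pow_le_pow_left hq 3).trans (Nat.pow_le_pow_right (by omega) c.k3)
      have h8 : 0 < Nat.card F ^ (k * k) := by positivity
      nlinarith
    exact ⟨by omega, fun h => by omega⟩

theorem conj_S2 (h : SG P φ L k) (e : P.E) {S S' : Set V} (hS : ∀ s ∈ S, e.1 s ∈ S') {x : G}
    (hx : x ∈ S2 P φ S) : φ e * x * (φ e)⁻¹ ∈ S2 P φ S' := by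
  induction hx using closure_induction with
  | mem x hx =>
    obtain ⟨v, hv, c, rfl⟩ := hx
    rw [ET_conj h e (P.f_zero_left v), map_zero]
    refine subset_closure ⟨e.1 v, ?_, c, rfl⟩
    have : Submodule.span F S ≤ (Submodule.span F S').comap (e.1 : V →ₗ[F] V) :=
      Submodule.span_le.2 fun s hs => Submodule.subset_span (hS s hs)
    exact this hv
  | one => simp
  | mul x y _ _ h1 h2 =>
    have := mul_mem h1 h2
    rwa [conj_mul] at this
  | inv x _ h1 =>
    have := inv_mem h1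
    rwa [conj_inv] at this

/-- A normalized frame with the same maximal isotropic subspace. -/
theorem exists_norm (g1 : G1 P k) (Fr : Frame P k) :
    ∃ Fr' : Frame P k, Fr'.Norm ∧ ∀ i, Fr'.e (i, false) = Fr.e (i, false) := by
  have hinj : Function.Injective fun i : Fin k => ((i, false) : BI k) := fun i j h =>
    congrArg Prod.fst h
  refine g1.fr (fun i => Fr.e (i, false)) (fun i => (i, false)) hinj ((g1.li Fr).comp _ hinj)
    fun i j => ?_
  have : ((j, false) : BI k) ≠ ng (i, false) := fun h => by simpa [ng] using congrArg Prod.snd h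
  rw [if_neg this, Fr.orth _ _ this]

theorem AW_el (g2 : G2 P φ) (Fr : Frame P k) : ∀ g ∈ AW P φ Fr, g * g = 1 := by
  refine (g2.el _ ?_).1
  rintro _ ⟨i, rfl⟩ _ ⟨j, rfl⟩
  exact Fr.orth _ _ fun h => by simpa [ng] using congrArg Prod.snd h

theorem tr : TRStmt.{u, v} := by
  intro F V _ _ _ _ _ G _ _ P φ L k t c
  refine ⟨fun E h1 h2 => (rk_eq c.toCtx0 E h1 h2).1, ?_⟩
  rintro Fr _ ⟨g, rfl⟩ hd
  have sg := c.toCtx0.toLL.toSM.toSG
  have ht := t_sq c.tc
  have hLt : ∀ l ∈ L, l * t = t * l := c.tc.tc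
  have hA : ∀ Fr : Frame P k, ∀ a ∈ AW P φ Fr, a * t = t * a := fun Fr a ha => hLt a (S2_le sg _ ha)
  have el : ∀ x ∈ AW P φ Fr ⊔ zpowers t, x * x = 1 := fun x hx => by
    rcases (mem_hat ht (hA Fr)).1 hx with h | h
    · exact AW_el c.g2 Fr x h
    · have h1 := hA Fr _ h
      rw [← mul_assoc, mul_left_inj] at h1
      have := AW_el c.g2 Fr _ h
      rwa [mul_assoc, ← mul_assoc t, ← h1, mul_assoc, ht, mul_one] at this
  let E := (AW P φ Fr ⊔ zpowers t).map (MulAut.conj g⁻¹).toMonoidHom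
  have hcard : Nat.card E = Nat.card ↥(AW P φ Fr ⊔ zpowers t) :=
    card_map_of_injective (MulAut.conj g⁻¹).injective
  obtain ⟨r1, r2⟩ := rk_eq c.toCtx0 E (by
      rintro _ ⟨x, hx, rfl⟩
      refine mem_centralizer_singleton_iff.2 ?_
      have := comm_of_el el hx hd
      change g⁻¹ * x * g⁻¹⁻¹ * t = t * (g⁻¹ * x * g⁻¹⁻¹)
      calc _ = g⁻¹ * (x * (g * t * g⁻¹)) * g := by group
        _ = _ := by rw [this]; group) (by
      rintro _ ⟨x, hx, rfl⟩
      rw [← map_mul, el x hx, map_one])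
  have h1 := two_mul_card_le (le_sup_left : AW P φ Fr ≤ AW P φ Fr ⊔ zpowers t)
    (mem_sup_right (mem_zpowers t)) fun h => t_ne c.tc (zl sg c.nf (S2_le sg _ h) c.tc.tc)
  rw [c.g4.cardA] at h1
  obtain ⟨Fr', hN', hE⟩ := r2 (by omega)
  obtain ⟨Fr'', hN'', h''⟩ := exists_norm c.g1 Fr
  obtain ⟨e, he⟩ := c.g1.frt Fr' Fr'' hN' hN''
  have het : φ e * t = t * φ e := hLt _ (phi_mem sg e)
  refine ⟨(φ e * g⁻¹)⁻¹, inv_mem (mem_normalizer_fintype fun x hx => ?_), ?_⟩
  · have h2 : g⁻¹ * x * g⁻¹⁻¹ ∈ E := ⟨x, hx, rfl⟩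
    have h3 : ∀ y ∈ AW P φ Fr', φ e * y * (φ e)⁻¹ ∈ AW P φ Fr := fun y hy =>
      conj_S2 sg e (by rintro _ ⟨i, rfl⟩; exact ⟨i, by rw [he, h'']⟩) hy
    rw [hE, mem_hat ht (hA Fr')] at h2
    refine (mem_hat ht (hA Fr)).2 (h2.imp (fun h => ?_) fun h => ?_)
    · have := h3 _ h
      simpa [mul_assoc] using this
    · have := h3 _ h
      have h4 : t * (φ e)⁻¹ = (φ e)⁻¹ * t := by
        rw [eq_inv_mul_iff_mul_eq, ← mul_assoc, het, mul_inv_cancel_right]
      simpa [mul_assoc, h4] using this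
  · calc _ = g * ((φ e)⁻¹ * (t * φ e)) * g⁻¹ := by group
      _ = _ := by rw [← het]; group

end Cfsg.Agent.H16.SpG
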