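import Cfsg.Agent.H16.UnbDefs2
import Cfsg.Agent.H4.CoprimeGen

/-! Kit C: 2-components modulo cores. -/

set_option autoImplicit false
set_option linter.unusedSectionVars false

namespace Cfsg.Agent.H16.Unb

open Subgroup Cfsg.Agent.H52 Cfsg.Agent.H8
open scoped commutatorElement

section Congr
variable {X Y : Type*} [Group X] [Group Y] {n : ℕ}

theorem KC.ag_map (h : AG n X) (e : X ≃* Y) : AG n Y := by
  obtain ⟨h1, ⟨f⟩, h3⟩ := h
  have hc : (center X).map (e : X →* Y) = center Y := map_center_equiv e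
  refine ⟨?_, ⟨(QuotientGroup.congr _ _ e hc).symm.trans f⟩, fun L hL => h3 (L.comap (e : X →* Y)) ?_⟩
  · rw [← hc, card_map_of_injective e.injective, h1]
  · rw [isComplement'_def, isComplement_iff_existsUnique] at hL ⊢
    intro x
    obtain ⟨⟨⟨a, ha⟩, ⟨b, hb⟩⟩, hab, hu⟩ := hL (e x)
    have ha' : e.symm a ∈ center X := by
      have ha2 : a ∈ (center X).map (e : X →* Y) := hc ▸ ha
      obtain ⟨a', ha3, rfl⟩ := ha2
      simpa using ha3
    refine ⟨(⟨e.symm a, ha'⟩, ⟨e.symm b, by simpa using hb⟩), ?_, ?_⟩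
    · apply e.injective
      simpa using hab
    · rintro ⟨⟨c, hc'⟩, ⟨d, hd⟩⟩ hcd
      have := hu (⟨e c, hc ▸ mem_map_of_mem _ hc'⟩, ⟨e d, hd⟩) (by
        simp only at hcd ⊢
        rw [← map_mul, hcd])
      have h1 : e c = a := congrArg (fun t => (t.1 : Y)) this
      have h2 : e d = b := congrArg (fun t => (t.2 : Y)) this
      exact Prod.ext (Subtype.ext (by simp [← h1])) (Subtype.ext (by simp [← h2]))

theorem KC.ag_congr (e : X ≃* Y) : AG n X ↔ AG n Y :=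
  ⟨fun h => KC.ag_map h e, fun h => KC.ag_map h e.symm⟩

theorem KC.map_Cz_equiv (e : X ≃* Y) (z : X) : (Cz z).map (e : X →* Y) = Cz (e z) := by
  ext y
  simp only [mem_map, mem_centralizer_singleton_iff]
  constructor
  · rintro ⟨x, hx, rfl⟩
    simpa using congrArg e hx
  · intro h
    exact ⟨e.symm y, e.injective (by simpa using h), by simp⟩

theorem KC.xg_map (h : XG n X) (e : X ≃* Y) : XG n Y := by
  obtain ⟨h1, z, hz, h2⟩ := h
  refine ⟨e.symm.isSimpleGroup, e z, by rw [← hz]; exact orderOf_injective (e : X →* Y) e.injective z, ?_⟩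
  rw [← KC.map_Cz_equiv]
  exact KC.ag_map h2 ((Cz z).equivMapOfInjective (e : X →* Y) e.injective)

theorem KC.xg_congr (e : X ≃* Y) : XG n X ↔ XG n Y :=
  ⟨fun h => KC.xg_map h e, fun h => KC.xg_map h e.symm⟩

theorem KC.ag_not_simple (h : AG n X) : ¬ IsSimpleGroup X := by
  intro hs
  rcases hs.eq_bot_or_eq_top_of_normal (center X) inferInstance with e | e
  · have := h.1
    rw [e, card_bot] at this
    exact absurd this (by decide)
  · exact h.2.2 ⊥ (e ▸ isComplement'_top_bot)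

end Congr

variable {G : Type*} [Group G] [Finite G] {H L L' K A B S T J : Subgroup G} {n : ℕ}
  {g x y z w u v l : G}

theorem KC.two_ord (h : TwoE x) : ∃ k, orderOf x = 2 ^ k := by
  obtain ⟨k, hk⟩ := h
  obtain ⟨j, -, hj⟩ := (Nat.dvd_prime_pow Nat.prime_two).mp (orderOf_dvd_of_pow_eq_one hk)
  exact ⟨j, hj⟩

theorem KC.twoE_of_orderOf {k : ℕ} (h : orderOf x = 2 ^ k) : TwoE x := ⟨k, h ▸ pow_orderOf_eq_one x⟩

theorem KC.twoE_of_inv (h : orderOf x = 2) : TwoE x := KC.twoE_of_orderOf (k := 1) (by rw [h, pow_one])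

theorem KC.two_pgrp (h : TwoE x) : IsPGroup 2 (zpowers x) := by
  obtain ⟨k, hk⟩ := KC.two_ord h
  exact isPGroup_zpowers_of_orderOf_eq hk

theorem KC.twoE_of_mem (hS : IsPGroup 2 S) (hx : x ∈ S) : TwoE x := by
  obtain ⟨k, hk⟩ := exists_orderOf_eq_of_mem_of_isPGroup hS hx
  exact KC.twoE_of_orderOf hk

theorem KC.two_conj (h : TwoE x) (g : G) : TwoE (g * x * g⁻¹) := by
  obtain ⟨k, hk⟩ := h
  exact ⟨k, by rw [conj_pow, hk]; simp⟩

theorem KC.two_mul' (h : TwoE x) (h' : TwoE y) (hc : x * y = y * x) : TwoE (x * y) := by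
  obtain ⟨k, hk⟩ := h
  obtain ⟨m, hm⟩ := h'
  refine ⟨k + m, ?_⟩
  rw [(show Commute x y from hc).mul_pow, pow_add, pow_mul, hk, one_pow, mul_comm (2 ^ k), pow_mul, hm,
    one_pow, one_mul]

theorem KC.cnj_Opp (g : G) (L : Subgroup G) : cnj g (Opp 2 L) = Opp 2 (cnj g L) :=
  map_Opp_of_injective L (MulAut.conj g).injective

theorem KC.norm_opp (h : w ∈ NN[L]) : w ∈ NN[Opp 2 L] :=
  H3.normalizer_le_normalizer_map_pPrimeCore L h

/-- The elements centralising `L / O(L)`. -/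
def CMs (L : Subgroup G) : Subgroup G := NN[L] ⊓ cmod (Opp 2 L) L

theorem mem_CMs : w ∈ CMs L ↔ CM L w :=
  ⟨fun h => ⟨h.1, h.2.2⟩, fun h => ⟨h.1, KC.norm_opp h.1, h.2⟩⟩
theorem CM.one : CM L (1 : G) := mem_CMs.mp (one_mem _)
theorem CM.mul (h : CM L x) (h' : CM L y) : CM L (x * y) :=
  mem_CMs.mp (mul_mem (mem_CMs.mpr h) (mem_CMs.mpr h'))
theorem CM.inv (h : CM L x) : CM L x⁻¹ := mem_CMs.mp (inv_mem (mem_CMs.mpr h))
theorem CM.pow (h : CM L x) (m : ℕ) : CM L (x ^ m) := mem_CMs.mp (pow_mem (mem_CMs.mpr h) m)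
theorem CM.cnj (h : CM L x) (g : G) : CM (cnj g L) (g * x * g⁻¹) := by
  refine ⟨?_, ?_⟩
  · rw [← cnj_eq_iff_mem_normalizer, cnj_cnj, inv_mul_cancel_right, ← cnj_cnj,
      cnj_eq_iff_mem_normalizer.mpr h.1]
  · rintro _ ⟨l, hl, rfl⟩
    rw [← KC.cnj_Opp]
    refine ⟨_, h.2 l hl, ?_⟩
    simp only [commutatorElement_def, MulEquiv.coe_toMonoidHom, MulAut.conj_apply]; group
theorem CM.conj (h : CM L x) (hg : g ∈ NN[L]) : CM L (g * x * g⁻¹) := by
  have := h.cnj g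
  rwa [cnj_eq_iff_mem_normalizer.mpr hg] at this
theorem CM.of_cent (h : x ∈ CC[L]) : CM L x :=
  ⟨centralizer_le_normalizer' L h, fun l hl => by
    rw [commutatorElement_eq_one_iff_mul_comm.mpr (h l hl)]; exact one_mem _⟩
theorem CM.of_opp (h : x ∈ Opp 2 L) : CM L x :=
  ⟨le_normalizer (Opp_le L h), fun _ hl =>
    commutatorElement_mem_of_mem_normalizer_left h (le_normalizer_Opp L hl)⟩
theorem mem_Dm_iff_cm (h : IsPComponentOf 2 L H) : w ∈ Dm 2 H L ↔ w ∈ H ∧ CM L w :=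
  ⟨fun hw => ⟨Dm_le _ _ hw, IsPComponentOf.Dm_le_normalizer h hw, fun _ hl =>
      IsPComponentOf.commutator_Dm_le h (commutator_mem_commutator hl hw)⟩,
    fun hw => (mem_Dm_iff h.1).mpr ⟨hw.1, fun k hk => (IsPComponentOf.sn h).Opp_le (hw.2.2 k hk)⟩⟩
theorem cm_of_opp (h : IsPComponentOf 2 L H) (hx : x ∈ Opp 2 H) : CM L x :=
  ((mem_Dm_iff_cm h).mp ((mem_Dm_iff h.1).mpr ⟨Opp_le H hx, fun _ hk =>
    commutatorElement_mem_of_mem_normalizer_left hx (le_normalizer_Opp H (h.1 hk))⟩)).2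
theorem cm_of_comm_le (h : IsPComponentOf 2 L H) (hA : A ≤ H) (hc : ⁅A, L⁆ ≤ Opp 2 H) (hx : x ∈ A) :
    CM L x :=
  ((mem_Dm_iff_cm h).mp ((le_Dm_iff h.1).mpr ⟨hA, by rwa [commutator_comm]⟩ hx)).2
theorem cm_of_ne (h : IsPComponentOf 2 L H) (h' : IsPComponentOf 2 L' H) (hne : L ≠ L')
    (hx : x ∈ L') : CM L x :=
  cm_of_comm_le h h'.1 (IsPComponentOf.commutator_le_of_ne h' h hne.symm) hx
theorem eq_of_not_cm (h : IsPComponentOf 2 L H) (h' : IsPComponentOf 2 L' H) (hx : x ∈ L')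
    (hn : ¬ CM L x) : L = L' := by
  by_contra hne
  exact hn (cm_of_ne h h' hne hx)
theorem norm_of_cent (h : IsPComponentOf 2 L H) (hg : g ∈ NN[H]) (hx : x ∈ L) (hn : ¬ CM L x)
    (hc : g * x = x * g) : g ∈ NN[L] := by
  refine cnj_eq_iff_mem_normalizer.mp (eq_of_not_cm h (IsPComponentOf.cnj_of_mem h hg) ?_ hn).symm
  have := conj_mem_cnj (g := g) hx
  rwa [hc, mul_inv_cancel_right] at this
theorem eq_one_of_opp (hx : TwoE x) (h : x ∈ Opp 2 L) : x = 1 := by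
  obtain ⟨k, hk⟩ := KC.two_ord hx
  have h1 := (orderOf_coprime_of_mem (coprime_card_map_pPrimeCore_subtype L) h).pow_right k
  rwa [← hk, Nat.coprime_self, orderOf_eq_one_iff] at h1
theorem comm_of_cm (hS : IsPGroup 2 S) (hx : x ∈ S) (hy : y ∈ S) (hL : x ∈ L) (h : CM L y) :
    x * y = y * x :=
  commutatorElement_eq_one_iff_mul_comm.mp (eq_one_of_opp (KC.twoE_of_mem hS (by
    rw [commutatorElement_def]
    exact mul_mem (mul_mem (mul_mem hx hy) (inv_mem hx)) (inv_mem hy))) (h.2 x hL))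
theorem KC.syl_inf_aux (hS : IsSylowIn 2 S ⊤) (h : L.IsSubnormal) : IsSylowIn 2 (S ⊓ L) L := by
  induction h with
  | top => rwa [inf_top_eq]
  | step A B hle _ hn ih =>
    have := ih.inf_of_le_normalizer (le_normalizer_of_subgroupOf_normal hle hn)
    rwa [inf_assoc, inf_eq_right.mpr hle] at this
theorem syl_inf (hS : IsSylowIn 2 S H) (h : SN L H) : IsSylowIn 2 (S ⊓ L) L := by
  have h1 := hS.subgroupOf le_rfl
  rw [subgroupOf_self] at h1
  have h2 := (KC.syl_inf_aux h1 h.2).map H.subtype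
  rwa [map_inf _ _ _ H.subtype_injective, map_subgroupOf_eq_of_le hS.le,
    map_subgroupOf_eq_of_le h.1] at h2
theorem comm_syl (h : IsPComponentOf 2 L H) (h' : IsPComponentOf 2 L' H) (hne : L ≠ L')
    (hS : IsPGroup 2 S) : S ⊓ L' ≤ CC[(S ⊓ L : Subgroup G)] := fun _ hx _ hy =>
  comm_of_cm hS hy.1 hx.1 hy.2 (cm_of_ne h h' hne hx.2)
theorem syl_covers (h : Covers 2 K L) (hT : T ≤ K) : IsSylowIn 2 T K ↔ IsSylowIn 2 T L := by
  refine ⟨fun hS => ?_, fun hS => hS.mono hT h.1⟩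
  obtain ⟨R, hR⟩ := exists_isSylowIn 2 L
  refine hR.of_card_ge hS.isPGroup (hT.trans h.1) ?_
  have e : bar 2 L K = bar 2 L L :=
    (h.bar le_rfl).eq_of_Opp_eq_bot (by rw [bar_self, Opp_top, pPrimeCore_Qt])
  have h1 : IsSylowIn 2 (bar 2 L T) (bar 2 L K) := (hS.subgroupOf h.1).map _
  rw [← card_bar_of_isPGroup hR.isPGroup hR.le, ← card_bar_of_isPGroup hS.isPGroup (hT.trans h.1)]
  exact h1.card_le ((hR.subgroupOf le_rfl).map _).isPGroup (e ▸ bar_mono hR.le)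
theorem KC.covers_cent (hB : IsPGroup 2 B) (h : ∀ b ∈ B, CM L b) : Covers 2 (L ⊓ CC[B]) L :=
  covers_inf_centralizer hB (fun b hb => (h b hb).1)
    (commutator_le.mpr fun l hl b hb => (h b hb).2 l hl)
theorem exists_syl_cent (hB : IsPGroup 2 B) (h : ∀ b ∈ B, CM L b) (hA : IsPGroup 2 A) (hAL : A ≤ L)
    (hAB : A ≤ CC[B]) : ∃ T, IsSylowIn 2 T L ∧ A ≤ T ∧ T ≤ CC[B] := by
  obtain ⟨T, hT, hAT⟩ := exists_isSylowIn_ge hA (le_inf hAL hAB)
  exact ⟨T, (syl_covers (KC.covers_cent hB h) hT.le).mp hT, hAT, hT.le.trans inf_le_right⟩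
theorem lp_cent (h : IsPComponentOf 2 L H) (hB : IsPGroup 2 B) (hBH : B ≤ H) (hc : ∀ b ∈ B, CM L b) :
    IsPComponentOf 2 (Lp 2 (L ⊓ CC[B])) (H ⊓ CC[B]) ∧ Covers 2 (Lp 2 (L ⊓ CC[B])) L ∧
      ∀ x ∈ L, x ∈ CC[B] → TwoE x → x ∈ Lp 2 (L ⊓ CC[B]) := by
  have h1 := IsPComponentOf.Lp_inf_centralizer h hB fun b hb =>
    (mem_Dm_iff_cm h).mpr ⟨hBH hb, hc b hb⟩
  refine ⟨h1.1, h1.2, fun x hx hx' h2 => ?_⟩
  obtain ⟨k, hk⟩ := KC.two_ord h2
  rw [(IsPComponentOf.isPQS h).Lp_eq_of_covers (KC.covers_cent hB hc)]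
  exact mem_pElementClosure ⟨hx, hx'⟩ hk
theorem KC.cm_zpowers (hc : CM L x) : ∀ b ∈ zpowers x, CM L b := fun _ hb =>
  mem_CMs.mp (zpowers_le.mpr (mem_CMs.mpr hc) hb)
theorem lp_cent1 (h : IsPComponentOf 2 L H) (hx : TwoE x) (hxH : x ∈ H) (hc : CM L x) :
    IsPComponentOf 2 (Lp 2 (L ⊓ Cz x)) (H ⊓ Cz x) ∧ Covers 2 (Lp 2 (L ⊓ Cz x)) L ∧
      ∀ y ∈ L, y * x = x * y → TwoE y → y ∈ Lp 2 (L ⊓ Cz x) := by
  have := lp_cent h (KC.two_pgrp hx) (zpowers_le.mpr hxH) (KC.cm_zpowers hc)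
  rw [centralizer_zpowers] at this
  exact ⟨this.1, this.2.1, fun y hy e => this.2.2 y hy (mem_centralizer_singleton_iff.mpr e)⟩
theorem le_Lp_of_comp (h : IsPComponentOf 2 A (H ⊓ CC[B])) (hB : IsPGroup 2 B) (hBH : B ≤ H) :
    A ≤ Lp 2 H := (IsPComponentOf.le_Lp h).trans (Lp_two_inf_centralizer_le hB hBH)
theorem le_Lp_of_comp1 (h : IsPComponentOf 2 A (H ⊓ Cz x)) (hx : TwoE x) (hxH : x ∈ H) :
    A ≤ Lp 2 H :=
  le_Lp_of_comp (by rwa [centralizer_zpowers]) (KC.two_pgrp hx) (zpowers_le.mpr hxH)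
theorem cm_covers (h : Covers 2 K L) (h1 : w ∈ NN[K]) (h2 : w ∈ NN[L]) : CM K w ↔ CM L w := by
  refine ⟨fun hw => ⟨h2, fun l hl => ?_⟩, fun hw => ⟨h1, fun k hk => ?_⟩⟩
  · obtain ⟨k, hk, o, ho, rfl⟩ :=
      (H52.mem_sup_of_le_normalizer (h.1.trans (le_normalizer_Opp L))).mp (h.2 hl)
    have e : ⁅k * o, w⁆ = k * ⁅o, w⁆ * k⁻¹ * ⁅k, w⁆ := by
      simp only [commutatorElement_def]; group
    rw [e]
    exact mul_mem ((mem_normalizer_iff.mp (le_normalizer_Opp L (h.1 hk)) _).mp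
      (commutatorElement_mem_of_mem_normalizer_right ho (KC.norm_opp h2))) (h.Opp_le (hw.2 k hk))
  · rw [h.Opp_eq]
    exact ⟨hw.2 k (h.1 hk), commutatorElement_mem_of_mem_normalizer_right hk h1⟩
theorem at_covers (h : Covers 2 K L) : AT n K ↔ AT n L := by
  obtain ⟨e⟩ := h.nonempty_equiv
  exact KC.ag_congr e
theorem xt_covers (h : Covers 2 K L) : XT n K ↔ XT n L := by
  obtain ⟨e⟩ := h.nonempty_equiv
  exact KC.xg_congr e
theorem covers_of_tau (h : K ≤ L) (ht : tau 2 L ≤ tau 2 K) : Covers 2 K L := covers_of_index_le h ht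
theorem KC.at_map {G' : Type*} [Group G'] (f : G →* G') (hk : (Nat.card f.ker).Coprime 2) :
    AT n (L.map f) ↔ AT n L := by
  obtain ⟨e⟩ := nonempty_quotient_pPrimeCore_map (p := 2) L f (coprime_card_inf_of_coprime _ hk)
  exact (KC.ag_congr e).symm
theorem KC.xt_map {G' : Type*} [Group G'] (f : G →* G') (hk : (Nat.card f.ker).Coprime 2) :
    XT n (L.map f) ↔ XT n L := by
  obtain ⟨e⟩ := nonempty_quotient_pPrimeCore_map (p := 2) L f (coprime_card_inf_of_coprime _ hk)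
  exact (KC.xg_congr e).symm
theorem AT.cnj (h : AT n L) (g : G) : AT n (cnj g L) :=
  (KC.at_map _ (coprime_card_ker_of_injective (MulAut.conj g).injective 2)).mpr h
theorem XT.cnj (h : XT n L) (g : G) : XT n (cnj g L) :=
  (KC.xt_map _ (coprime_card_ker_of_injective (MulAut.conj g).injective 2)).mpr h
theorem Cmp.cnj (h : Cmp y T L) (g : G) : Cmp (g * y * g⁻¹) (cnj g T) (cnj g L) :=
  ⟨by rw [Cz, ← cnj_centralizer_singleton]; exact IsPComponentOf.cnj h.1 g, h.2.map _⟩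
theorem KC.orderOf_cj (g x : G) : orderOf (g * x * g⁻¹) = orderOf x :=
  orderOf_injective (MulAut.conj g).toMonoidHom (MulAut.conj g).injective x
theorem YX.cnj (h : YX n T y) (g : G) : YX n (cnj g T) (g * y * g⁻¹) := by
  obtain ⟨h1, J, h2, h3⟩ := h
  exact ⟨(KC.orderOf_cj g y).trans h1, _, h2.cnj g, h3.cnj g⟩
theorem ZT.cnj (h : ZT T z) (g : G) : ZT (cnj g T) (g * z * g⁻¹) :=
  ⟨(KC.orderOf_cj g z).trans h.1, conj_mem_cnj h.2.1, cnj_centralizer g T ▸ conj_mem_cnj h.2.2⟩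
theorem Cmp.cent (h : Cmp y T L) : y ∈ CC[T] := fun _ ht =>
  mem_centralizer_singleton_iff.mp (h.1.1 (h.2.le ht))
theorem KC.at_subgroupOf (h : L ≤ H) : AT n (L.subgroupOf H) ↔ AT n L := by
  rw [← KC.at_map H.subtype (coprime_card_ker_subtype H 2), map_subgroupOf_eq_of_le h]
theorem KC.xt_subgroupOf (h : L ≤ H) : XT n (L.subgroupOf H) ↔ XT n L := by
  rw [← KC.xt_map H.subtype (coprime_card_ker_subtype H 2), map_subgroupOf_eq_of_le h]
theorem at_iff_bar (h : L ≤ H) : AT n (bar 2 H L) ↔ AT n L :=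
  (KC.at_map _ (coprime_ker_qm H)).trans (KC.at_subgroupOf h)
theorem xt_iff_bar (h : L ≤ H) : XT n (bar 2 H L) ↔ XT n L :=
  (KC.xt_map _ (coprime_ker_qm H)).trans (KC.xt_subgroupOf h)
theorem at_iff_ag (h : Opp 2 L = ⊥) : AT n L ↔ AG n L :=
  KC.ag_congr ((QuotientGroup.quotientMulEquivOfEq (map_subtype_eq_bot_iff.mp h)).trans
    QuotientGroup.quotientBot)
theorem xt_iff_xg (h : Opp 2 L = ⊥) : XT n L ↔ XG n L :=
  KC.xg_congr ((QuotientGroup.quotientMulEquivOfEq (map_subtype_eq_bot_iff.mp h)).trans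
    QuotientGroup.quotientBot)
theorem not_at_xt (h : AT n L) : ¬ XT n L := fun h' => KC.ag_not_simple h h'.1
theorem KC.sn_sup_comp (h : IsPComponentOf 2 L H) (h' : IsPComponentOf 2 L' H) : SN (L ⊔ L') H :=
  (SN.of_le_normalizer (sup_le (IsPComponentOf.le_Lp h) (IsPComponentOf.le_Lp h'))
    (H52.le_normalizer_sup (IsPComponentOf.Lp_le_normalizer h)
      (IsPComponentOf.Lp_le_normalizer h'))).trans
    (SN.of_le_normalizer (Lp_le H) (le_normalizer_Lp H))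
theorem cmp_orbit (hA : IsPComponentOf 2 A (H ⊓ Cz x)) (hJ : IsPComponentOf 2 J H) (hx : orderOf x = 2)
    (hxH : x ∈ H) : A ≤ J ⊔ cnj x J ∨ ∀ a ∈ A, CM J a := by
  have hAH : A ≤ H := hA.1.trans inf_le_left
  by_cases hc : ⁅bar 2 H J, bar 2 H A⁆ = ⊥
  · refine Or.inr fun a ha => cm_of_comm_le hJ hAH ?_ ha
    rw [commutator_comm]
    exact (commutator_bar_eq_bot_iff hJ.1 hAH).mp hc
  left
  have hJ' := IsPComponentOf.cnj_of_mem hJ (le_normalizer hxH)
  have h1 := IsPComponentOf.bar hA inf_le_left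
  rw [bar_inf_centralizer_singleton (isPGroup_zpowers_of_orderOf_eq_prime hx) hxH] at h1
  have h2 : bar 2 H A ≤ Ly (⊤ : Subgroup (Qt 2 H)) := by
    rw [Ly_top, ← bar_Lp_self]
    exact bar_mono (IsPComponentOf.le_Lp_two hx hxH hA)
  have h3 := IsPComponentOf.le_orbitSup (p := 2) (H := ⊤) (P := zpowers (qm 2 H ⟨x, hxH⟩))
    (K := bar 2 H A) (by
      rw [centralizer_zpowers]
      exact IsPComponentOf.of_le h1 (le_inf h2 h1.1) inf_le_right)
    (isComponentOf_top_iff.mpr (IsPComponentOf.isComponent_bar hJ)) le_normalizer_of_normal hc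
  rw [orbitSup_zpowers_of_orderOf_eq_two (orderOf_qm hxH hx), ← bar_cnj hJ.1 hxH,
    ← bar_sup hJ.1 hJ'.1] at h3
  exact (IsPComponentOf.isPQS hA).le_of_bar_le hAH (KC.sn_sup_comp hJ hJ') h3
/-- A 2-component of `C_H(x)` lies in an `x`-invariant 2-component of `H` or centralises it. -/
theorem cmp_dich (hA : IsPComponentOf 2 A (H ⊓ Cz x)) (hJ : IsPComponentOf 2 J H) (hx : orderOf x = 2)
    (hxH : x ∈ H) (hn : x ∈ NN[J]) : A ≤ J ∨ ∀ a ∈ A, CM J a := by
  have := cmp_orbit hA hJ hx hxH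
  rwa [cnj_eq_iff_mem_normalizer.mpr hn, sup_idem] at this
theorem lift_cent (hB : IsPGroup 2 B) (hBL : B ≤ NN[L]) (hl : l ∈ L) (h : ∀ b ∈ B, ⁅l, b⁆ ∈ Opp 2 L) :
    ∃ l' ∈ L, l' ∈ CC[B] ∧ l' * l⁻¹ ∈ Opp 2 L := by
  obtain ⟨m, hm, hc⟩ := H4.exists_centralizer_of_fixed_mod (fun _ hb => KC.norm_opp (hBL hb))
    (H4.coprime_card_of_isPGroup (coprime_card_map_pPrimeCore_subtype L) hB).symm
    (Or.inl (H4.isSolvable_of_isPGroup hB)) (k := l) fun b hb => by
      rw [← commutatorElement_inv]; exact inv_mem (h b hb)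
  exact ⟨m * l, mul_mem (Opp_le L hm) hl, hc, by rwa [mul_inv_cancel_right]⟩
theorem conj_of_opp (hx : x * x = 1) (hy : y * y = 1) (h : x * y ∈ Opp 2 L) :
    ∃ k ∈ Opp 2 L, k * x * k⁻¹ = y := by
  obtain ⟨m, hm⟩ := Nat.coprime_two_right.mp
    (orderOf_coprime_of_mem (coprime_card_map_pPrimeCore_subtype L) h)
  have hxi : x⁻¹ = x := inv_eq_of_mul_eq_one_right hx
  have hyi : y⁻¹ = y := inv_eq_of_mul_eq_one_right hy
  have h1 : x * (x * y)⁻¹ * x⁻¹ = x * y := by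
    rw [mul_inv_rev, hxi, hyi, mul_assoc, mul_assoc, hx, mul_one]
  have h2 : x * ((x * y) ^ m)⁻¹ = (x * y) ^ m * x := by
    rw [← inv_pow, ← mul_inv_eq_iff_eq_mul, ← conj_pow, h1]
  have h3 : (x * y) ^ m * (x * y) ^ m * (x * y) = 1 := by
    rw [← pow_add, ← pow_succ, ← two_mul, ← hm, pow_orderOf_eq_one]
  refine ⟨(x * y) ^ m, pow_mem h m, ?_⟩
  rw [mul_assoc, h2, ← mul_assoc, ← hyi, eq_inv_iff_mul_eq_one, mul_assoc, hyi, h3]
/-- An odd order subgroup is generated by the centralisers of the involutions of a four-group. -/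
theorem le_of_four {O U : Subgroup G} (hO : Odd (Nat.card O)) (hx : orderOf x = 2) (hy : orderOf y = 2)
    (hne : x ≠ y) (hc : x * y = y * x) (h1 : x ∈ NN[O]) (h2 : y ∈ NN[O]) (e1 : O ⊓ Cz x ≤ U)
    (e2 : O ⊓ Cz y ≤ U) (e3 : O ⊓ Cz (x * y) ≤ U) : O ≤ U := by
  have hcb := commutator_zpowers_zpowers_eq_bot hc
  have hE := isElementaryAbelian_sup (p := 2)
    (isElementaryAbelian_zpowers (hx ▸ pow_orderOf_eq_one x))
    (isElementaryAbelian_zpowers (hy ▸ pow_orderOf_eq_one y)) hcb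
  rw [H6.isElementaryAbelian_iff] at hE
  have : IsMulCommutative (zpowers x ⊔ zpowers y : Subgroup G) :=
    ⟨⟨fun a b => Subtype.ext (hE.1 _ a.2 _ b.2)⟩⟩
  have hP : IsPGroup 2 (zpowers x ⊔ zpowers y : Subgroup G) := fun a =>
    ⟨1, Subtype.ext (by simpa using hE.2 _ a.2)⟩
  refine H4.le_of_centralizer_singleton_le (A := zpowers x ⊔ zpowers y) (fun hcyc => ?_)
    (sup_le (zpowers_le.mpr h1) (zpowers_le.mpr h2))
    (H4.coprime_card_of_isPGroup (Nat.coprime_two_right.mpr hO) hP).symm fun a ha ha1 => ?_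
  · obtain ⟨c, hc⟩ := (isCyclic_iff_exists_zpowers_eq_top.mp hcyc)
    have key : ∀ a ∈ zpowers x ⊔ zpowers y, orderOf a = 2 → a = c := fun a ha h2 => by
      have hm : a ∈ zpowers (c : G) := by
        obtain ⟨k, hk⟩ := (hc ▸ mem_top (⟨a, ha⟩ : (zpowers x ⊔ zpowers y : Subgroup G)) :
          _ ∈ zpowers c)
        exact ⟨k, congrArg Subtype.val hk⟩
      have h1 : a ≠ 1 := ne_one_of_orderOf_eq_prime h2
      refine (zpowers_cases_of_orderOf_eq_two (orderOf_eq_prime (hE.2 _ c.2) fun e => h1 ?_)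
        hm).resolve_left h1
      simpa [e] using hm
    exact hne ((key x (mem_sup_left (mem_zpowers x)) hx).trans
      (key y (mem_sup_right (mem_zpowers y)) hy).symm)
  · obtain ⟨a, ha', b, hb, rfl⟩ := (mem_sup_of_commutator_eq_bot hcb).mp ha
    rcases zpowers_cases_of_orderOf_eq_two hx ha' with rfl | rfl <;>
      rcases zpowers_cases_of_orderOf_eq_two hy hb with rfl | rfl
    · exact absurd (one_mul 1) ha1
    · rwa [one_mul]
    · rwa [mul_one]
    · exact e3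
/-- Balance: only the component containing `u` matters. -/
theorem bal_of_cm (h : IsPComponentOf 2 L H) (hu : u ∈ L) (h2 : TwoE u) {O : Subgroup G}
    (hO : Odd (Nat.card O)) (hOH : O ≤ H ⊓ Cz u) (hN : H ⊓ Cz u ≤ NN[O]) (hc : ∀ x ∈ O, CM L x) :
    O ≤ Opp 2 H := by
  have hcop := Nat.coprime_two_right.mpr hO
  have hOH' : O ≤ H := hOH.trans inf_le_left
  have huH := h.1 hu
  have h1 : bar 2 H O ≤ Opp 2 CC[zpowers (qm 2 H ⟨u, huH⟩)] := by
    rw [centralizer_zpowers, ← bar_inf_centralizer_singleton (KC.two_pgrp h2) huH]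
    refine (bar_mono ((SN.of_le_normalizer hOH hN).le_Opp hcop)).trans ?_
    rw [bar, bar, ← map_Opp_subgroupOf inf_le_left, subgroupOf,
      comap_map_eq_self_of_injective H.subtype_injective]
    exact map_Opp_le _ _
  have hP : IsPGroup 2 (zpowers (qm 2 H ⟨u, huH⟩)) := by
    rw [← bar_zpowers huH]
    exact (KC.two_pgrp h2).comap_subtype.map _
  rw [← bar_eq_bot_iff hOH']
  refine eq_bot_of_commutator_components (pPrimeCore_Qt H)
    ((coprime_card_map_pPrimeCore_subtype _).coprime_dvd_left (card_dvd_of_le h1))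
    (commutator_eq_bot_mono (commutator_Opp_centralizer_pCore hP) h1 le_rfl) fun M hM => ?_
  by_cases e : M = bar 2 H L
  · rw [e, commutator_bar_eq_bot_iff h.1 hOH']
    exact commutator_le.mpr fun l hl o ho => (IsPComponentOf.sn h).Opp_le ((hc o ho).2 l hl)
  · refine commutator_eq_bot_mono (IsComponent.commutator_Opp_eq_bot_of_le hM
      (IsComponent.dvd_card_of_pPrimeCore_eq_bot (pPrimeCore_Qt H) hM) ?_) le_rfl h1
    exact (commutator_eq_bot_iff_le_centralizer.mp (IsComponent.commutator_eq_bot_of_ne hM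
      (IsPComponentOf.isComponent_bar h) e)).trans (centralizer_anti (zpowers_le.mpr (mem_bar huH hu)))
/-- Lifting a 2-component of the image of `E ≤ H` in `H / O(H)`. -/
theorem KC.exists_lift_comp {E : Subgroup G} (hE : E ≤ H) {M : Subgroup (Qt 2 H)}
    (hM : IsPComponentOf 2 M (bar 2 H E)) : ∃ D, IsPComponentOf 2 D E ∧ bar 2 H D = M ∧
      ∀ x, ∀ hx : x ∈ E, TwoE x → qm 2 H ⟨x, hE hx⟩ ∈ M → x ∈ D := by
  set P := (M.comap (qm 2 H)).map H.subtype ⊓ E with hP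
  have hPH : P ≤ H := inf_le_right.trans hE
  have hDH : pElementClosure 2 P ≤ H := (pElementClosure_le P).trans hPH
  have h1 : bar 2 H P = M := by
    refine le_antisymm (fun y hy => ?_) fun y hy => ?_
    · obtain ⟨c, hH, ⟨⟨c', hc', rfl⟩, -⟩, rfl⟩ := mem_bar_iff.mp hy
      exact hc'
    · obtain ⟨c, hH, hc, rfl⟩ := mem_bar_iff.mp (hM.1 hy)
      exact mem_bar hH ⟨⟨⟨c, hH⟩, hy, rfl⟩, hc⟩
  have h2 : bar 2 H (pElementClosure 2 P) = M := by
    rw [bar, ← pElementClosure_subgroupOf hPH, map_pElementClosure]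
    change pElementClosure 2 (bar 2 H P) = M
    rw [h1, (IsPComponentOf.isPQS hM).pElementClosure_eq]
  have h3 : SN P E := by
    have := (((IsPComponentOf.sn hM).comap (qm 2 H)).map H.subtype).inf_right E
    rwa [inf_eq_right.mpr (show E ≤ ((bar 2 H E).comap (qm 2 H)).map H.subtype from
      fun e he => ⟨⟨e, hE he⟩, mem_bar _ he, rfl⟩)] at this
  refine ⟨pElementClosure 2 P, isPComponentOf_iff.mpr ⟨(sn_pElementClosure P).trans h3, ?_⟩, h2,
    fun x hx hx2 hxM => ?_⟩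
  · refine (isPQS_subgroupOf_iff hDH).mp (IsPQS.of_map (qm 2 H) (coprime_ker_qm H) ?_ ?_)
    · change IsPQS 2 (bar 2 H _)
      rw [h2]; exact IsPComponentOf.isPQS hM
    · rw [pElementClosure_subgroupOf hDH, pElementClosure_idem]
  · obtain ⟨k, hk⟩ := KC.two_ord hx2
    exact mem_pElementClosure ⟨⟨⟨x, hE hx⟩, hxM, rfl⟩, hx⟩ hk
/-- The diagonal of two 2-components interchanged by an involution. -/
theorem swap_diag (h : IsPComponentOf 2 L H) (hy : orderOf y = 2) (hyH : y ∈ H) (hne : y ∉ NN[L]) :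
    ∃ D, IsPComponentOf 2 D (H ⊓ Cz y) ∧ D ≤ L ⊔ cnj y L ∧
      (∀ x ∈ L, TwoE x → x * (y * x * y⁻¹) = y * x * y⁻¹ * x → x * (y * x * y⁻¹) ∈ D) ∧
      ∀ d ∈ D, CM L d → CM D d := by
  have h' := IsPComponentOf.cnj_of_mem h (le_normalizer hyH)
  have hyb := orderOf_qm hyH hy
  have hLb := IsPComponentOf.isComponent_bar h
  have hs : SemiReg (zpowers (qm 2 H ⟨y, hyH⟩)) (bar 2 H L) :=
    semiReg_zpowers_of_orderOf_eq_two hyb (by
      rw [← bar_cnj h.1 hyH, commutator_bar_eq_bot_iff h.1 h'.1]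
      exact IsPComponentOf.commutator_le_of_ne h h' fun e =>
        hne (cnj_eq_iff_mem_normalizer.mp e.symm))
  have h1 := hs.isComponentOf_range_diag (isComponentOf_top_iff.mpr hLb) le_normalizer_of_normal
  rw [top_inf_eq, centralizer_zpowers,
    ← bar_inf_centralizer_singleton (isPGroup_zpowers_of_orderOf_eq_prime hy) hyH] at h1
  obtain ⟨D, hD, e, hm⟩ := KC.exists_lift_comp inf_le_left (IsComponentOf.isPComponentOf h1
    (hs.dvd_card_range_diag hLb.2 (IsComponent.dvd_card_of_pPrimeCore_eq_bot (pPrimeCore_Qt H) hLb)))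
  have hDH : D ≤ H := hD.1.trans inf_le_left
  have hle : D ≤ L ⊔ cnj y L := by
    refine (IsPComponentOf.isPQS hD).le_of_bar_le hDH (KC.sn_sup_comp h h') ?_
    rw [e, bar_sup h.1 h'.1, bar_cnj h.1 hyH, ← orbitSup_zpowers_of_orderOf_eq_two hyb]
    exact hs.range_diag_le.trans inf_le_left
  have hyy : y * y = 1 := by rw [← pow_two, ← hy, pow_orderOf_eq_one]
  have hyi : y⁻¹ = y := inv_eq_of_mul_eq_one_right hyy
  refine ⟨D, hD, hle, fun x hx h2 hc => ?_, fun d hd hc => ⟨le_normalizer hd, fun k hk => ?_⟩⟩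
  · have hxH := h.1 hx
    refine hm _ ⟨H.mul_mem hxH (H.mul_mem (H.mul_mem hyH hxH) (H.inv_mem hyH)),
      mem_centralizer_singleton_iff.mpr ?_⟩ (KC.two_mul' h2 (KC.two_conj h2 y) hc)
      ⟨⟨_, mem_bar hxH hx⟩, ?_⟩
    · calc x * (y * x * y⁻¹) * y = y * (y * x * y⁻¹ * x) := by
            rw [hyi]; simp only [← mul_assoc, hyy, one_mul]; rw [mul_assoc _ y y, hyy, mul_one]
        _ = _ := by rw [hc]
    · rw [hs.diag_apply_of_orderOf_eq_two hyb, ← map_inv, ← map_mul, ← map_mul, ← map_mul]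
      rfl
  · have hc' := hc.cnj y
    rw [← mem_centralizer_singleton_iff.mp (hD.1 hd).2, mul_inv_cancel_right] at hc'
    have k1 : ∀ {M : Subgroup G}, IsPComponentOf 2 M H → CM M d → ⁅zpowers d, M⁆ ≤ Opp 2 H :=
      fun hM hd' => by
        rw [commutator_comm]
        exact ((le_Dm_iff hM.1).mp (zpowers_le.mpr ((mem_Dm_iff_cm hM).mpr ⟨hDH hd, hd'⟩))).2
    have k2 := commutator_sup_le_of_le_normalizer (h.1.trans (le_normalizer_Opp H))
      (h'.1.trans (le_normalizer_Opp H)) (k1 h hc) (k1 h' hc')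
    rw [commutator_comm] at k2
    exact Opp_inf_le_Opp hDH ⟨k2 (commutator_mem_commutator (hle hk) (mem_zpowers d)),
      commutatorElement_mem_of_mem_normalizer_right hk (le_normalizer hd)⟩
/-- A perfect group whose 2-elements lie in `N` or in one coset `z N`. -/
theorem le_of_two_cosets (h : IsPQS 2 A) {N : Subgroup G} (hN : A ≤ NN[N]) (hz : z * z ∈ N)
    (hzN : z ∈ NN[N]) (h2 : ∀ a ∈ A, TwoE a → a ∈ N ∨ a * z ∈ N) : A ≤ N := by
  have _ := hN
  have _ := hz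
  have hz' : zpowers z ≤ NN[N] := zpowers_le.mpr hzN
  have h1 : A ≤ N ⊔ zpowers z := by
    rw [← h.pElementClosure_eq, pElementClosure_le_iff]
    intro a ha k hk
    rcases h2 a ha (KC.twoE_of_orderOf hk) with e | e
    · exact mem_sup_left e
    · rw [← mul_inv_cancel_right a z]
      exact mul_mem_sup e (inv_mem (mem_zpowers z))
  rw [← h.commutator_self]
  refine (commutator_mono h1 h1).trans (commutator_sup_le_of_le_normalizer le_normalizer hz' ?_ ?_)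
  · rw [commutator_comm]
    exact le_normalizer_iff_commutator_le_left.mp (sup_le le_normalizer hz')
  · rw [commutator_comm]
    refine commutator_sup_le_of_le_normalizer le_normalizer hz' ?_ ?_
    · rw [commutator_comm]
      exact le_normalizer_iff_commutator_le_left.mp hz'
    · rw [commutator_zpowers_zpowers_eq_bot rfl]; exact bot_le

theorem KC.eqns_UnbC : True := by
  have := @CMs.eq_1.{0}
  trivial

end Cfsg.Agent.H16.Unb
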