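import Cfsg.Agent.H52.Terminal
import Cfsg.Agent.H52.LBalance
import Cfsg.Prelude.Def_SporadicB

/-!
# Intrinsic 2-components of type `2.A_n` and 2-components of type McL, Ly: interfaces

The proofs are in `stubs/notes/h16_unbal.md`.
-/

set_option autoImplicit false

namespace Cfsg.Agent.H16.Unb

open Subgroup Cfsg.Agent.H52 Cfsg.Agent.H8
open scoped commutatorElement

universe u

scoped notation:max "CC[" A "]" => Subgroup.centralizer (SetLike.coe A)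
scoped notation:max "NN[" A "]" => Subgroup.normalizer (SetLike.coe A)

/-- `H` is a non-split double cover of `A_n`. -/
def AG (n : ℕ) (H : Type*) [Group H] : Prop := IsNonsplitDoubleCover H (alternatingGroup (Fin n))

/-- `H` is simple with an involution centraliser `2.A_n`. -/
def XG (n : ℕ) (H : Type*) [Group H] : Prop :=
  IsSimpleGroup H ∧ ∃ z : H, orderOf z = 2 ∧ AG n (Cz z)

section
variable {G : Type*} [Group G]

/-- `L / O(L)` is `2.A_n`. -/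
def AT (n : ℕ) (L : Subgroup G) : Prop := AG n (L ⧸ pPrimeCore 2 L)

/-- `L / O(L)` is simple with an involution centraliser `2.A_n`. -/
def XT (n : ℕ) (L : Subgroup G) : Prop := XG n (L ⧸ pPrimeCore 2 L)

/-- `L` is a 2-component of `C(y)` with Sylow 2-subgroup `T`. -/
def Cmp (y : G) (T L : Subgroup G) : Prop := IsPComponentOf 2 L (Cz y) ∧ IsSylowIn 2 T L

/-- `z` is a central involution of `T`. -/
def ZT (T : Subgroup G) (z : G) : Prop := orderOf z = 2 ∧ z ∈ T ∧ z ∈ CC[T]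

/-- `w` normalises `L` and centralises `L / O(L)`. -/
def CM (L : Subgroup G) (w : G) : Prop := w ∈ NN[L] ∧ ∀ l ∈ L, ⁅l, w⁆ ∈ Opp 2 L

/-- `y` is an involution and `T` is Sylow in a 2-component of type `X` of `C(y)`. -/
def YX (n : ℕ) (T : Subgroup G) (y : G) : Prop := orderOf y = 2 ∧ ∃ J, Cmp y T J ∧ XT n J

/-- `x` is a 2-element. -/
def TwoE (x : G) : Prop := ∃ k : ℕ, x ^ 2 ^ k = 1

/-- `G` is almost simple with socle `F`. -/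
structure AS (F : Subgroup G) : Prop where
  normal : F.Normal
  simple : IsSimpleGroup F
  nonab : ¬ IsMulCommutative F
  cent : CC[F] = ⊥

/-- The system obtained from an intrinsic component by induction. -/
structure Sys (n : ℕ) (t : G) (T : Subgroup G) : Prop where
  hn : 8 ≤ n
  ht : orderOf t = 2
  tT : t ∈ T
  base : ∃ K, Cmp t T K ∧ AT n K
  pump : ∀ y, orderOf y = 2 → y ∈ CC[T] → ∃ L, Cmp y T L ∧ (AT n L ∨ XT n L)

/-- A closed system of Sylow 2-subgroups of 2-components of type `X`. -/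
structure XSys (n : ℕ) (𝒯 : Set (Subgroup G)) : Prop where
  conj : ∀ T ∈ 𝒯, ∀ g, cnj g T ∈ 𝒯
  ex : ∀ T ∈ 𝒯, ∃ y, YX n T y
  cl : ∀ T ∈ 𝒯, ∀ y J w, orderOf y = 2 → Cmp y T J → XT n J → orderOf w = 2 → w * y = y * w →
    w ∈ CC[T] → CM J w → YX n T w
  h1 : ∀ T ∈ 𝒯, ∀ z w, ZT T z → YX n T w → ∃ L, Cmp (w * z) T L
  h3 : ∀ T ∈ 𝒯, ∀ T' ∈ 𝒯, T' ≤ CC[T] → ∀ z, ZT T' z → YX n T z

/-- The doubling configuration does not occur. -/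
def NoP4 (n : ℕ) (G : Type*) [Group G] : Prop :=
  ∀ (b z g : G) (J : Subgroup G), orderOf b = 2 → IsPComponentOf 2 J (Cz b) → XT n J →
    Cz b ≤ NN[J] → (∀ r ∈ Cz b, TwoE r → CM J r → r = 1 ∨ r = b) → z ∈ J → orderOf z = 2 →
    g * b * g⁻¹ = b * z → False

/-- Pump-ups of 2-components of type `X` are trivial or diagonal, of type `X`. -/
def Pmp (n : ℕ) (G : Type*) [Group G] [Finite G] : Prop :=
  ∀ (x y : G) (hxy : x ∈ Cz y) (K : Subgroup G) (L : Subgroup (Qt 2 (Cz y))), orderOf x = 2 →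
    orderOf y = 2 → IsPComponentOf 2 K (Cz y ⊓ Cz x) → XT n K → IsComponent L →
    PumpTo (qm 2 (Cz y) ⟨x, hxy⟩) (bar 2 (Cz y) K) L → XG n L

/-- A terminal configuration of type `X`. -/
structure Term (n : ℕ) (x : G) (K Q T : Subgroup G) : Prop where
  hx : orderOf x = 2
  cmp : Cmp x T K
  xt : XT n K
  hQ : IsSylowIn 2 Q (Dm 2 (Cz x) K)
  QT : Q ≤ CC[T]
  all : ∀ y ∈ Q, orderOf y = 2 → YX n T y
  max : ∀ (y : G) (J R : Subgroup G), orderOf y = 2 → IsPComponentOf 2 J (Cz y) → XT n J →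
    IsPGroup 2 R → R ≤ Dm 2 (Cz y) J → Nat.card R ≤ Nat.card Q

end

/-! ### Theorem A (S1738) -/

/-- Theorem A for the group `G`. -/
def AFor (G : Type*) [Group G] : Prop :=
  pPrimeCore 2 G = ⊥ → IsQuasisimple G →
    ∀ (n : ℕ) (t : G) (K : Subgroup G), 8 ≤ n → orderOf t = 2 → IsPComponentOf 2 K (Cz t) → t ∈ K →
      AT n K → AG n G ∨ (IsSimpleGroup G ∧ AG n (Cz t))

/-- Theorem A, in the form used for induction. -/
def AStmt : Prop := ∀ (G : Type u) [Group G] [Finite G], AFor G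

/-- The pump-up of an intrinsic component. -/
def PumpStmt : Prop :=
  ∀ (G : Type u) [Group G] [Finite G] (n : ℕ) (y t : G) (K T : Subgroup G),
    (∀ (H : Type u) [Group H] [Finite H], Nat.card H ≤ Nat.card (Cz y) → AFor H) → 8 ≤ n →
    orderOf y = 2 → orderOf t = 2 → IsPComponentOf 2 K (Cz y ⊓ Cz t) → t ∈ K → AT n K →
    IsSylowIn 2 T K → ∃ L, Cmp y T L ∧ K ≤ L ∧ (AT n L ∨ XT n L)

/-- All components of type `2.A_n`: no two commuting conjugates of `T`. -/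
def PureStmt : Prop :=
  ∀ (G : Type u) [Group G] [Finite G] [IsSimpleGroup G] (n : ℕ) (t g : G) (T : Subgroup G),
    Sys n t T → (∀ y, ¬ YX n T y) → cnj g T ≤ CC[T] → False

/-- The mixed case gives a closed system. -/
def MixStmt : Prop :=
  ∀ (G : Type u) [Group G] [Finite G] (n : ℕ) (t y : G) (T : Subgroup G),
    Sys n t T → YX n T y → XSys n {T' | ∃ g, T' = cnj g T}

/-- One normal component, `t` weakly closed in its centraliser. -/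
def DStmt : Prop :=
  ∀ (G : Type u) [Group G] [Finite G] [IsSimpleGroup G], ¬ IsMulCommutative G →
    ∀ (n : ℕ) (t : G) (K : Subgroup G), 8 ≤ n → orderOf t = 2 → IsPComponentOf 2 K (Cz t) → t ∈ K →
      AT n K → Cz t ≤ NN[K] → (∀ g, g * t * g⁻¹ ∈ Cz t → CM K (g * t * g⁻¹) → g * t * g⁻¹ = t) →
      n ≤ 11 ∧ Cz t = K ⊔ Opp 2 (Cz t)

/-- Removal of the core. -/
def EStmt : Prop :=
  ∀ (G : Type u) [Group G] [Finite G] [IsSimpleGroup G], ¬ IsMulCommutative G →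
    ∀ (n : ℕ) (t : G), 8 ≤ n → n ≤ 11 → orderOf t = 2 → AT n (Cz t) → Opp 2 (Cz t) = ⊥

/-- No two commuting members in a closed system. -/
def P2Stmt : Prop :=
  ∀ (G : Type u) [Group G] [Finite G] (F : Subgroup G), AS F → ∀ (n : ℕ) (𝒯 : Set (Subgroup G)),
    8 ≤ n → XSys n 𝒯 → ∀ T ∈ 𝒯, ∀ T' ∈ 𝒯, T' ≤ CC[T] → False

/-! ### The pieces of `P2Stmt` -/

section
variable {G : Type*} [Group G]

/-- Pairwise commuting members of `𝒯`. -/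
def Clq (𝒯 : Set (Subgroup G)) (𝒞 : Finset (Subgroup G)) : Prop :=
  (∀ T ∈ 𝒞, T ∈ 𝒯) ∧ ∀ T ∈ 𝒞, ∀ T' ∈ 𝒞, T ≠ T' → T' ≤ CC[T]

/-- A clique of maximal size. -/
def MClq (𝒯 : Set (Subgroup G)) (𝒞 : Finset (Subgroup G)) : Prop :=
  Clq 𝒯 𝒞 ∧ ∀ 𝒞', Clq 𝒯 𝒞' → 𝒞'.card ≤ 𝒞.card

/-- The 2-components of `C(y)` with a Sylow 2-subgroup in `𝒯`. -/
def KS (𝒯 : Set (Subgroup G)) (y : G) : Set (Subgroup G) := {L | ∃ T ∈ 𝒯, Cmp y T L}

/-- Those of type `X`. -/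
def KX (n : ℕ) (𝒯 : Set (Subgroup G)) (y : G) : Set (Subgroup G) := {L | L ∈ KS 𝒯 y ∧ XT n L}

/-- The counting facts for a maximal clique with at least two members. -/
structure Cnt (n : ℕ) (𝒯 : Set (Subgroup G)) (𝒞 : Finset (Subgroup G)) : Prop where
  /-- involutions of one member are of type `X` for the others -/
  inv : ∀ T ∈ 𝒞, ∀ T' ∈ 𝒞, T ≠ T' → ∀ u ∈ T', orderOf u = 2 → YX n T u
  /-- `T'` centralises `L(z', T)` modulo the core -/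
  cm : ∀ T ∈ 𝒞, ∀ T' ∈ 𝒞, T ≠ T' → ∀ z J, ZT T' z → Cmp z T J → ∀ x ∈ T', CM J x
  ns : ∀ T ∈ 𝒞, ∀ y z, ZT T z → YX n T y → ¬ YX n T (y * z)
  le : ∀ y, orderOf y = 2 → (KS 𝒯 y).ncard ≤ 𝒞.card
  one : ∀ T ∈ 𝒞, ∀ z, ZT T z → ∀ J, J ∈ KX n 𝒯 z ↔ ∃ T' ∈ 𝒞, T' ≠ T ∧ Cmp z T' J
  many : ∀ w, orderOf w = 2 → (∀ T ∈ 𝒞, YX n T w ∨ ∃ z, ZT T z ∧ YX n T (w * z)) →
    (∀ L, L ∈ KS 𝒯 w ↔ ∃ T ∈ 𝒞, Cmp w T L) ∧
      ∀ J, J ∈ KX n 𝒯 w ↔ ∃ T ∈ 𝒞, YX n T w ∧ Cmp w T J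

/-- The subgroup `M` attached to a maximal clique. -/
structure Lam (n : ℕ) (F : Subgroup G) (𝒞 : Finset (Subgroup G)) (W M : Subgroup G)
    (Λ : Subgroup G → Subgroup G) : Prop where
  odd : Odd (Nat.card W)
  WM : M ≤ NN[W]
  le : ∀ T ∈ 𝒞, Λ T ≤ M
  syl : ∀ T ∈ 𝒞, IsSylowIn 2 T (Λ T)
  core : ∀ T ∈ 𝒞, Opp 2 (Λ T) = W
  xt : ∀ T ∈ 𝒞, XT n (Λ T)
  comm : ∀ T ∈ 𝒞, ∀ T' ∈ 𝒞, T ≠ T' → ⁅Λ T, Λ T'⁆ ≤ W
  perm : ∀ g ∈ M, ∀ T ∈ 𝒞, ∃ T' ∈ 𝒞, cnj g (Λ T) = Λ T'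
  /-- the 2-components of type `X` of `C(d)` cover the other factors -/
  cov : ∀ T ∈ 𝒞, ∀ T' ∈ 𝒞, T ≠ T' → ∀ d ∈ Λ T, orderOf d = 2 →
    ∃ J, IsPComponentOf 2 J (Cz d) ∧ Covers 2 J (Λ T')
  fus : ∀ T ∈ 𝒞, ∀ T' ∈ 𝒞, ∀ d ∈ Λ T, orderOf d = 2 → ∀ g, g * d * g⁻¹ ∈ Λ T' → g ∈ M
  prod : ∀ T ∈ 𝒞, ∀ T' ∈ 𝒞, T ≠ T' → ∀ d ∈ Λ T, ∀ d' ∈ Λ T', orderOf d = 2 → orderOf d' = 2 →
    d * d' = d' * d → Cz (d * d') ≤ M
  ne : ¬ F ≤ M

end

def P2aStmt : Prop :=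
  ∀ (G : Type u) [Group G] [Finite G] (n : ℕ) (𝒯 : Set (Subgroup G)) (𝒞 : Finset (Subgroup G)),
    8 ≤ n → XSys n 𝒯 → MClq 𝒯 𝒞 → 2 ≤ 𝒞.card → Cnt n 𝒯 𝒞

def P2bStmt : Prop :=
  ∀ (G : Type u) [Group G] [Finite G] (F : Subgroup G), AS F → ∀ (n : ℕ) (𝒯 : Set (Subgroup G))
    (𝒞 : Finset (Subgroup G)), 8 ≤ n → XSys n 𝒯 → (∀ 𝒞', MClq 𝒯 𝒞' → Cnt n 𝒯 𝒞') → MClq 𝒯 𝒞 →
    2 ≤ 𝒞.card → ∃ (W M : Subgroup G) (Λ : Subgroup G → Subgroup G), Lam n F 𝒞 W M Λ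

/-- Fusion: central involutions of members of maximal cliques lying in `M` lie in a factor. -/
def P2cStmt : Prop :=
  ∀ (G : Type u) [Group G] [Finite G] (F : Subgroup G) (n : ℕ) (𝒯 : Set (Subgroup G))
    (𝒞 : Finset (Subgroup G)) (W M : Subgroup G) (Λ : Subgroup G → Subgroup G), 8 ≤ n → XSys n 𝒯 →
    (∀ 𝒞', MClq 𝒯 𝒞' → Cnt n 𝒯 𝒞') → MClq 𝒯 𝒞 → 2 ≤ 𝒞.card → Lam n F 𝒞 W M Λ →
    (∀ 𝒞', MClq 𝒯 𝒞' → ∀ T₀ ∈ 𝒞', ∀ y, ZT T₀ y → y ∈ M → ∃ T ∈ 𝒞, y ∈ Λ T) ∧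
    ∀ y ∈ M, orderOf y = 2 → ∀ T ∈ 𝒞, cnj y (Λ T) ≠ Λ T →
      ∃ d ∈ Λ T, orderOf d = 2 ∧ d * (y * d * y⁻¹) = y * d * y⁻¹ * d ∧ d * (y * d * y⁻¹) ∈ Lp 2 (Cz y)

/-! ### Theorem B (S1739) -/

def TermStmt : Prop :=
  ∀ (G : Type u) [Group G] [Finite G] (n : ℕ), 8 ≤ n → Pmp n G → ∀ (a : G) (J : Subgroup G),
    orderOf a = 2 → IsPComponentOf 2 J (Cz a) → XT n J → ∃ (x : G) (K Q T : Subgroup G), Term n x K Q T

/-- A terminal configuration gives a closed system. -/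
def SCStmt : Prop :=
  ∀ (G : Type u) [Group G] [Finite G] (n : ℕ), 8 ≤ n → NoP4 n G → ∀ (x : G) (K Q T : Subgroup G),
    Term n x K Q T → XSys n {T' | ∃ g, T' = cnj g T}

/-- The case without commuting conjugates. -/
def P3Stmt : Prop :=
  ∀ (G : Type u) [Group G] [Finite G] (F : Subgroup G), AS F → ∀ n : ℕ, 8 ≤ n → NoP4 n G →
    ∀ (x : G) (K Q T : Subgroup G), Term n x K Q T → XSys n {T' | ∃ g, T' = cnj g T} →
      (∀ g, ¬ cnj g T ≤ CC[T]) → False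

/-- The doubling end. -/
def P4Stmt (n : ℕ) : Prop :=
  ∀ (G : Type u) [Group G] [Finite G] (F : Subgroup G), AS F → NoP4 n G

/-- Theorem B. -/
def BStmt (n : ℕ) : Prop :=
  ∀ (G : Type u) [Group G] [Finite G] (F : Subgroup G), AS F → ∀ (a : G) (J : Subgroup G),
    orderOf a = 2 → IsPComponentOf 2 J (Cz a) → ¬ XT n J

theorem eqns_UnbDefs : True := by
  have := @AG.eq_1.{0}
  have := @XG.eq_1.{0}
  have := @AT.eq_1.{0}
  have := @XT.eq_1.{0}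
  have := @Cmp.eq_1.{0}
  have := @ZT.eq_1.{0}
  have := @CM.eq_1.{0}
  have := @YX.eq_1.{0}
  have := @TwoE.eq_1.{0}
  have := @NoP4.eq_1.{0}
  have := @Pmp.eq_1.{0}
  have := @AFor.eq_1.{0}
  have := @AStmt.eq_1.{0}
  have := @PumpStmt.eq_1.{0}
  have := @PureStmt.eq_1.{0}
  have := @MixStmt.eq_1.{0}
  have := @DStmt.eq_1.{0}
  have := @EStmt.eq_1.{0}
  have := @P2Stmt.eq_1.{0}
  have := @Clq.eq_1.{0}
  have := @MClq.eq_1.{0}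
  have := @KS.eq_1.{0}
  have := @KX.eq_1.{0}
  have := @P2aStmt.eq_1.{0}
  have := @P2bStmt.eq_1.{0}
  have := @P2cStmt.eq_1.{0}
  have := @TermStmt.eq_1.{0}
  have := @SCStmt.eq_1.{0}
  have := @P3Stmt.eq_1.{0}
  have := @P4Stmt.eq_1.{0}
  have := @BStmt.eq_1.{0}
  trivial

end Cfsg.Agent.H16.Unb
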