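import Cfsg.Agent.H16.UnbDefs

/-!
# Intrinsic 2-components of type `2.A_n`: corrected interfaces for the case of one component
-/

set_option autoImplicit false

namespace Cfsg.Agent.H16.Unb

open Subgroup Cfsg.Agent.H52 Cfsg.Agent.H8 Equiv
open scoped commutatorElement

universe u

/-- The doubling configuration does not occur for the components with Sylow subgroup in `𝒯`. -/
def NoP4T {G : Type*} [Group G] (n : ℕ) (𝒯 : Set (Subgroup G)) : Prop :=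
  ∀ (b z g : G) (T J : Subgroup G), T ∈ 𝒯 → orderOf b = 2 → Cmp b T J → XT n J →
    Cz b ≤ NN[J] → (∀ r ∈ Cz b, TwoE r → CM J r → r = 1 ∨ r = b) → z ∈ J → orderOf z = 2 →
    g * b * g⁻¹ = b * z → False

/-- A closed system without commuting members (replaces `P3Stmt`). -/
def P3TStmt : Prop :=
  ∀ (G : Type u) [Group G] [Finite G] (F : Subgroup G), AS F → ∀ (n : ℕ) (𝒯 : Set (Subgroup G)),
    8 ≤ n → XSys n 𝒯 → NoP4T n 𝒯 → (∀ T ∈ 𝒯, ∀ T' ∈ 𝒯, ¬ T' ≤ CC[T]) → ∀ T, T ∉ 𝒯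

/-- The mixed case without commuting conjugates. -/
def MixKStmt : Prop :=
  ∀ (G : Type u) [Group G] [Finite G] (n : ℕ) (t : G) (T : Subgroup G),
    Sys n t T → (∀ g, ¬ cnj g T ≤ CC[T]) → NoP4T n {T' | ∃ g, T' = cnj g T}

/-- One normal component (replaces `DStmt`). -/
def D2Stmt : Prop :=
  ∀ (G : Type u) [Group G] [Finite G] [IsSimpleGroup G], ¬ IsMulCommutative G →
    ∀ (n : ℕ) (t : G) (K : Subgroup G), 8 ≤ n → orderOf t = 2 → IsPComponentOf 2 K (Cz t) → t ∈ K →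
      AT n K → Cz t ≤ NN[K] → (∀ g, g * t * g⁻¹ ∈ Cz t → CM K (g * t * g⁻¹) → g * t * g⁻¹ = t) →
      (∀ s ∈ Cz t, orderOf s = 2 → CM K s → ∀ c ∈ Cz s, ⁅c, t⁆ ∈ Opp 2 (Cz s)) →
      n ≤ 11 ∧ Cz t = K ⊔ Opp 2 (Cz t)

/-- Odd order subgroups normalised by the elements of order three of the centraliser of `β`. -/
def PermOStmt : Prop :=
  ∀ (n : ℕ) (β : Perm (Fin n)) (O : Subgroup (Perm (Fin n))), β * β = 1 → Odd (Nat.card O) →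
    O ≤ Cz β → (∀ D : Perm (Fin n), D ^ 3 = 1 → D * β = β * D → D ∈ NN[O]) →
    (∀ σ ∈ O, ∀ x, β x ≠ x → σ x = x) ∧ (β.support.card + 3 ≠ n → O = ⊥)

/-- Two commuting normal subgroups in the centraliser of an involution. -/
def Perm2Stmt : Prop :=
  ∀ (n : ℕ) (β τ₁ τ₂ : Perm (Fin n)) (H R₁ R₂ O : Subgroup (Perm (Fin n))), β * β = 1 → H ≤ Cz β →
    (∀ D : Perm (Fin n), D ^ 3 = 1 → D * β = β * D → D ∈ H) → Odd (Nat.card O) → O ≤ H →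
    H ≤ NN[O] → R₁ ≤ H → H ≤ NN[R₁] → R₂ ≤ H → H ≤ NN[R₂] →
    R₁ ≤ closure {σ | σ ∈ R₁ ∧ Odd (orderOf σ)} → R₂ ≤ closure {σ | σ ∈ R₂ ∧ Odd (orderOf σ)} →
    ⁅R₁, R₂⁆ ≤ O → τ₁ ∈ R₁ → τ₂ ∈ R₂ → orderOf τ₁ = 2 → orderOf τ₂ = 2 →
    (∀ h ∈ H, ⁅h, τ₁⁆ ∈ O) → (∀ h ∈ H, ⁅h, τ₂⁆ ∈ O) → False

/-- Elements commuting on the support of `γ` with a normal subgroup containing `γ`. -/
def Perm1Stmt : Prop :=
  ∀ (n : ℕ) (γ κ : Perm (Fin n)) (R : Subgroup (Perm (Fin n))), orderOf γ = 2 → R ≤ Cz γ →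
    (∀ D : Perm (Fin n), D ^ 3 = 1 → D * γ = γ * D → D ∈ NN[R]) →
    R ≤ closure {σ | σ ∈ R ∧ Odd (orderOf σ)} → γ ∈ R → κ * γ = γ * κ →
    (∀ r ∈ R, ∀ x, γ x ≠ x → κ (r x) = r (κ x)) →
    (∀ x, γ x ≠ x → κ x = x) ∨ ∀ x, γ x ≠ x → κ x = γ x

theorem eqns_UnbDefs2 : True := by
  have := @NoP4T.eq_1.{0}
  have := @P3TStmt.eq_1.{0}
  have := @MixKStmt.eq_1.{0}
  have := @D2Stmt.eq_1.{0}
  have := @PermOStmt.eq_1
  have := @Perm2Stmt.eq_1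
  have := @Perm1Stmt.eq_1
  trivial

end Cfsg.Agent.H16.Unb
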