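import Cfsg.Agent.H16.UnbDefs2
import Cfsg.Agent.H38.StdA3

/-! Kit R, preliminaries: double covers and the quotient `N(L) / O(L)`. -/

set_option autoImplicit false

namespace Cfsg.Agent.H16.Unb

open Subgroup Cfsg.Agent.H52 Cfsg.Agent.H8 Equiv Equiv.Perm Cfsg.Agent.H67 Cfsg.Agent.H78
open Cfsg.Agent.H38.SA
open scoped commutatorElement

theorem ndc_congr {H H' K : Type*} [Group H] [Group H'] [Group K] (h : IsNonsplitDoubleCover H K)
    (e : H ≃* H') : IsNonsplitDoubleCover H' K := by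
  obtain ⟨h1, ⟨f⟩, h3⟩ := h
  have hc : (center H).map (e : H →* H') = center H' := by
    ext y
    obtain ⟨x, rfl⟩ := e.surjective y
    rw [show e x = (e : H →* H') x from rfl, mem_map_iff_mem e.injective]
    simp only [mem_center_iff, MonoidHom.coe_coe]
    exact ⟨fun a g => by
      obtain ⟨g, rfl⟩ := e.surjective g
      rw [← map_mul, a, map_mul], fun a g => e.injective (by rw [map_mul, a, map_mul])⟩
  refine ⟨by rw [← hc, card_map_of_injective e.injective, h1],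
    ⟨(QuotientGroup.congr _ _ e hc).symm.trans f⟩, fun L hL => h3 (L.comap (e : H →* H')) ?_⟩
  have h4 : center H = (center H').comap (e : H →* H') := by
    rw [← hc, comap_map_eq_self_of_injective e.injective]
  refine isComplement'_of_disjoint_and_mul_eq_univ ?_ (Set.eq_univ_of_forall fun x => ?_)
  · rw [h4, disjoint_iff, ← comap_inf, hL.disjoint.eq_bot]
    exact (MonoidHom.ker_eq_bot_iff _).2 e.injective
  · obtain ⟨⟨a, b⟩, hab⟩ := hL.2 (e x)
    refine ⟨e.symm a, by rw [h4]; simp, e.symm b, by simp, e.injective ?_⟩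
    simpa using hab

section DC
variable {α : Type*} [Fintype α] [DecidableEq α] {Q : Type*} [Group Q]
  {Γ : Subgroup (Perm α × Q)} {a b : Q} {β : Perm α}

theorem anti {p q a : Q} (h0 : a * a = 1) (h1 : p * p = a) (h2 : q * q = a) (h3 : p * q * (p * q) = a) :
    q * p = p * q * a := by
  have c : a * p = p * a := by rw [← h1]; group
  calc q * p = p⁻¹ * (p * q * (p * q)) * q⁻¹ := by group
    _ = p⁻¹ * (p * p) * (q * q) * (q * q) * q⁻¹ := by rw [h3, h1, h2, mul_assoc _ a a, h0, mul_one]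
    _ = p * q * (q * q) := by group
    _ = _ := by rw [h2]

/-- An element acting as an involution is conjugate to its product with the central involution. -/
theorem dc_swap (h : DC Γ a) (h4 : 4 ≤ Fintype.card α) (hβ : (β, b) ∈ NG Γ) (h2 : β * β = 1)
    (h1 : β ≠ 1) : ∃ σ x, (σ, x) ∈ Γ ∧ b * x * b⁻¹ = x * a := by
  have hh : ∀ x, β (β x) = x := fun x => by rw [← Perm.mul_apply, h2]; rfl
  obtain ⟨i, hi⟩ : ∃ i, β i ≠ i := by
    by_contra hc
    push Not at hc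
    exact h1 (Equiv.ext hc)
  by_cases h3 : ∃ k, β k ≠ k ∧ k ≠ i ∧ k ≠ β i
  · obtain ⟨k, hk, n1, n2⟩ := h3
    have n3 : i ≠ β k := fun e => n2 (by rw [e, hh])
    have n4 : β i ≠ β k := β.injective.ne n1.symm
    obtain ⟨y, hy⟩ := h.surj (swap i (β i) * swap k (β k))
      (by rw [map_mul, sign_swap hi.symm, sign_swap hk.symm]; rfl)
    obtain ⟨x, hx⟩ := h.surj (swap i k * swap (β i) (β k))
      (by rw [map_mul, sign_swap n1.symm, sign_swap n4]; rfl)
    have y2 := h.dt' hi.symm n1.symm n3 n2.symm n4 hk.symm hy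
    have x2 := h.dt' n1.symm hi.symm n3 n2 hk.symm n4 hx
    have hxy := pmul hx hy
    have e : swap i k * swap (β i) (β k) * (swap i (β i) * swap k (β k)) =
        swap i (β k) * swap (β i) k := by
      ext z
      simp only [Perm.mul_apply, swap_apply_def]
      grind
    rw [e] at hxy
    have z2 := h.dt' n3 hi.symm n1.symm n4.symm hk n2.symm hxy
    have c := dt_comm' h n1.symm hi.symm n3 n2 hk.symm n4 hx (pmul (pinv (up hy)) hβ)
      (by simp only [mul_inv_rev, swap_inv, Perm.mul_apply, swap_apply_def]; grind)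
      (by simp only [mul_inv_rev, swap_inv, Perm.mul_apply, swap_apply_def]; grind)
      (by simp only [mul_inv_rev, swap_inv, Perm.mul_apply, swap_apply_def]; grind)
      (by simp only [mul_inv_rev, swap_inv, Perm.mul_apply, swap_apply_def]; grind)
    refine ⟨_, x, hx, ?_⟩
    have a1 := anti h.sq x2 y2 z2
    calc b * x * b⁻¹ = y * (y⁻¹ * b * x) * b⁻¹ := by group
      _ = y * x * y⁻¹ := by rw [c]; group
      _ = x * (y * a) * y⁻¹ := by rw [a1]; group
      _ = x * a := by rw [h.comm hy]; group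
  · push Not at h3
    obtain ⟨u, -, m1⟩ := pick Finset.univ [i, β i]
      (by simp only [List.length_cons, List.length_nil, Finset.card_univ]; omega)
    obtain ⟨v, -, m2⟩ := pick Finset.univ [i, β i, u]
      (by simp only [List.length_cons, List.length_nil, Finset.card_univ]; omega)
    simp only [List.mem_cons, List.not_mem_nil, or_false, not_or] at m1 m2
    have fu : β u = u := by_contra fun e => m1.2 (h3 u e m1.1)
    have fv : β v = v := by_contra fun e => m2.2.1 (h3 v e m2.1)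
    have uv : u ≠ v := Ne.symm m2.2.2
    obtain ⟨y1, p1, e1⟩ := h.lift3 (c3_pow_three (Ne.symm m1.1) (Ne.symm m2.1) uv)
    obtain ⟨y2, p2, e2⟩ := h.lift3 (c3_pow_three (Ne.symm m1.2) (Ne.symm m2.2.1) uv)
    have c1 := conj3' h hβ p1 p2 e1 e2 (by rw [c3_conj, fu, fv])
    have c2 := conj3' h hβ p2 p1 e2 e1 (by rw [c3_conj, fu, fv, hh])
    have hp := pmul p1 p2
    have hq := pmul p2 p1
    rw [c3_mul_c3 uv (Ne.symm m1.1) (Ne.symm m2.1) (Ne.symm m1.2) (Ne.symm m2.2.1) hi.symm] at hp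
    rw [c3_mul_c3 uv (Ne.symm m1.2) (Ne.symm m2.2.1) (Ne.symm m1.1) (Ne.symm m2.1) hi] at hq
    have hpq := pmul hp hq
    have e : swap u i * swap v (β i) * (swap u (β i) * swap v i) = swap u v * swap i (β i) := by
      ext z
      simp only [Perm.mul_apply, swap_apply_def]
      grind
    have s1 := h.dt' m1.1 uv m1.2 (Ne.symm m2.1) hi.symm m2.2.1 hp
    have s2 := h.dt' m1.2 uv m1.1 (Ne.symm m2.2.1) hi m2.1 hq
    rw [e] at hpq
    have s3 := h.dt' uv m1.1 m1.2 m2.1 m2.2.1 hi.symm hpq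
    refine ⟨_, _, hpq, ?_⟩
    rw [← anti h.sq s1 s2 s3]
    calc _ = b * y1 * b⁻¹ * (b * y2 * b⁻¹) * (b * y2 * b⁻¹ * (b * y1 * b⁻¹)) := by group
      _ = _ := by rw [c1, c2]

/-- A product of two elements of order three commuting with `β`. -/
def P33 (β π : Perm α) : Prop :=
  ∃ D E : Perm α, D ^ 3 = 1 ∧ E ^ 3 = 1 ∧ β * D = D * β ∧ β * E = E * β ∧ π = D * E

theorem p33_root (h2 : β * β = 1) {x1 x2 x3 : α}
    (m1 : β x1 ≠ x1) (m2 : β x2 ≠ x2) (m3 : β x3 ≠ x3) (n1 : x2 ≠ x1) (n2 : x2 ≠ β x1) (n3 : x3 ≠ x1)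
    (n4 : x3 ≠ β x1) (n5 : x3 ≠ x2) (n6 : x3 ≠ β x2) :
    P33 β (swap x2 (β x2) * swap x3 (β x3)) ∧
      (swap x2 (β x2) * swap x3 (β x3)).cycleType = {2, 2} := by
  have hh : ∀ x, β (β x) = x := fun x => by rw [← Perm.mul_apply, h2]; rfl
  obtain ⟨D, d3, dc, -, d2, -⟩ := exists_dbl h2 n1.symm n3.symm n5.symm m1 m2 m3 n2.symm n4.symm n6.symm
  have cs : Commute (swap x2 (β x2)) β := swap_comm_inv h2 x2
  have dc' : Commute D β := dc
  refine ⟨⟨swap x2 (β x2) * D * (swap x2 (β x2))⁻¹, D⁻¹, by rw [conj_pow, d3]; group,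
    by rw [inv_pow, d3, inv_one], ((cs.mul_left dc').mul_left cs.inv_left).symm, dc'.inv_left.symm, ?_⟩,
    cycleType_dt (Ne.symm m2) n5.symm (by grind) n6.symm (by grind) (Ne.symm m3)⟩
  rw [swap_inv, mul_assoc, mul_assoc, ← mul_assoc D, ← swap_apply_apply, d2,
    ← Perm.mul_apply, dc, Perm.mul_apply, d2]

theorem p33_q8 (h8 : 8 ≤ Fintype.card α) (h2 : β * β = 1) :
    ∃ π₁ π₂ : Perm α, P33 β π₁ ∧ P33 β π₂ ∧ π₁.cycleType = {2, 2} ∧ π₂.cycleType = {2, 2} ∧
      (π₁ * π₂).cycleType = {2, 2} := by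
  have hh : ∀ x, β (β x) = x := fun x => by rw [← Perm.mul_apply, h2]; rfl
  by_cases h5 : 5 ≤ β.support.card
  · obtain ⟨x1, x2, x3, m1, m2, m3, n1, n2, n3, n4, n5, n6⟩ := pick3 h5
    obtain ⟨a1, a2⟩ := p33_root h2 m1 m2 m3 n1 n2 n3 n4 n5 n6
    obtain ⟨b1, b2⟩ := p33_root h2 m2 m3 m1 n5 n6 n1.symm (by grind) n3.symm (by grind)
    refine ⟨_, _, a1, b1, a2, b2, ?_⟩
    rw [mul_assoc, ← mul_assoc (swap x3 _), swap_mul_self, one_mul]
    exact cycleType_dt (Ne.symm m2) n1 n2 (by grind) (by grind) (Ne.symm m1)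
  · obtain ⟨i, j, k, l, f1, f2, f3, f4, a1, a2, a3, a4, a5, a6⟩ := pick4 (β := β) (by omega)
    refine ⟨swap i j * swap k l, swap i k * swap j l,
      ⟨c3 j i k, c3 l i k, c3_pow_three a1.symm a4 a2, c3_pow_three a3.symm a6.symm a2,
        commute_c3_of_fixed f2 f1 f3, commute_c3_of_fixed f4 f1 f3,
        (c3_mul_c3 a2 a1.symm a4 a3.symm a6.symm a5).symm⟩,
      ⟨c3 k i j, c3 l i j, c3_pow_three a2.symm a4.symm a1, c3_pow_three a3.symm a5.symm a1,
        commute_c3_of_fixed f3 f1 f2, commute_c3_of_fixed f4 f1 f2,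
        (c3_mul_c3 a1 a2.symm a4.symm a3.symm a5.symm a6).symm⟩,
      cycleType_dt a1 a2 a3 a4 a5 a6, cycleType_dt a2 a1 a3 a4.symm a6 a5, ?_⟩
    have e : swap i j * swap k l * (swap i k * swap j l) = swap i l * swap j k := by
      ext x
      simp only [Perm.mul_apply, swap_apply_def]
      grind
    rw [e]
    exact cycleType_dt a3 a1 a2 a5.symm a6.symm a4

theorem sq_of_dt {π : Perm α} (h : π.cycleType = {2, 2}) : π * π = 1 := by
  rw [← sq, ← orderOf_dvd_iff_pow_eq_one, ← lcm_cycleType, h]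
  decide

theorem ne_one_of_dt {π : Perm α} (h : π.cycleType = {2, 2}) : π ≠ 1 := by
  rintro rfl
  simp at h

end DC

section QN
variable {G : Type*} [Group G]

instance normal_oppN (L : Subgroup G) : ((Opp 2 L).subgroupOf NN[L]).Normal :=
  normal_subgroupOf_of_le_normalizer (normalizer_le_normalizer_map_pPrimeCore L)

/-- `N(L) / O(L)`. -/
abbrev QN (L : Subgroup G) := NN[L] ⧸ (Opp 2 L).subgroupOf NN[L]

open Classical in
/-- The projection onto `N(L) / O(L)`, as a function on `G`. -/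
noncomputable def pn (L : Subgroup G) (y : G) : QN L :=
  if h : y ∈ NN[L] then QuotientGroup.mk ⟨y, h⟩ else 1

variable {L : Subgroup G} {x y : G}

theorem pn_eq (h : y ∈ NN[L]) : pn L y = QuotientGroup.mk ⟨y, h⟩ := dif_pos h

theorem pn_coe (y : NN[L]) : pn L y = QuotientGroup.mk y := pn_eq y.2

theorem pn_mul (hx : x ∈ NN[L]) (hy : y ∈ NN[L]) : pn L (x * y) = pn L x * pn L y := by
  rw [pn_eq hx, pn_eq hy, pn_eq (mul_mem hx hy), ← QuotientGroup.mk_mul]; rfl

theorem pn_inv (hx : x ∈ NN[L]) : pn L x⁻¹ = (pn L x)⁻¹ := by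
  rw [pn_eq hx, pn_eq (inv_mem hx), ← QuotientGroup.mk_inv]; rfl

theorem pn_pow (hx : x ∈ NN[L]) (m : ℕ) : pn L (x ^ m) = pn L x ^ m := by
  rw [pn_eq hx, pn_eq (pow_mem hx m), ← QuotientGroup.mk_pow]; rfl

theorem pn_eq_one (hx : x ∈ NN[L]) : pn L x = 1 ↔ x ∈ Opp 2 L := by
  rw [pn_eq hx, QuotientGroup.eq_one_iff, mem_subgroupOf]

theorem pn_one : pn L (1 : G) = 1 := (pn_eq_one (one_mem _)).2 (one_mem _)

theorem pn_surj (q : QN L) : ∃ y ∈ NN[L], pn L y = q := by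
  obtain ⟨y, rfl⟩ := QuotientGroup.mk_surjective q
  exact ⟨y, y.2, pn_coe y⟩

theorem pn_eq_iff (hx : x ∈ NN[L]) (hy : y ∈ NN[L]) : pn L x = pn L y ↔ x * y⁻¹ ∈ Opp 2 L := by
  rw [← pn_eq_one (mul_mem hx (inv_mem hy)), pn_mul hx (inv_mem hy), pn_inv hy, mul_inv_eq_one]

theorem pn_comm (hx : x ∈ NN[L]) (hy : y ∈ NN[L]) :
    ⁅x, y⁆ ∈ Opp 2 L ↔ pn L x * pn L y = pn L y * pn L x := by
  rw [← pn_mul hx hy, ← pn_mul hy hx, pn_eq_iff (mul_mem hx hy) (mul_mem hy hx), commutatorElement_def,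
    mul_inv_rev, ← mul_assoc]

theorem mem_of_pn_eq (hx : x ∈ NN[L]) (hy : y ∈ L) (e : pn L x = pn L y) : x ∈ L := by
  have := mul_mem (Opp_le L ((pn_eq_iff hx (le_normalizer hy)).1 e)) hy
  rwa [inv_mul_cancel_right] at this

theorem odd_of_opp [Finite G] (h : x ∈ Opp 2 L) : Odd (orderOf x) :=
  Nat.coprime_two_right.1 ((coprime_card_map_pPrimeCore_subtype L).coprime_dvd_left
    ((Opp 2 L).orderOf_dvd_natCard h))

theorem twoE_of_mem {S : Subgroup G} (hS : IsPGroup 2 S) (h : x ∈ S) : TwoE x := by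
  obtain ⟨k, hk⟩ := hS ⟨x, h⟩
  exact ⟨k, congrArg Subtype.val hk⟩

theorem TwoE.isPGroup [Finite G] (h : TwoE x) : IsPGroup 2 (zpowers x) := by
  obtain ⟨k, hk⟩ := h
  rintro ⟨_, m, rfl⟩
  exact ⟨k, Subtype.ext (by
    change (x ^ m) ^ 2 ^ k = 1
    rw [← zpow_natCast, ← zpow_mul, mul_comm, zpow_mul, zpow_natCast, hk, one_zpow])⟩

theorem twoE_of_sq (h : x * x = 1) : TwoE x := ⟨1, by rw [pow_one, pow_two, h]⟩

theorem sq_of_ord (h : orderOf x = 2) : x * x = 1 := by rw [← pow_two, ← h, pow_orderOf_eq_one]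

theorem ne_one_of_ord (h : orderOf x = 2) : x ≠ 1 := by rintro rfl; simp at h

theorem ord_two (h : x * x = 1) (h1 : x ≠ 1) : orderOf x = 2 :=
  orderOf_eq_prime (by rw [pow_two, h]) h1

theorem TwoE.eq_one [Finite G] (h : TwoE x) (ho : Odd (orderOf x)) : x = 1 := by
  obtain ⟨k, hk⟩ := h
  exact H38.SG.eq_one_of_odd_of_two ho hk

theorem TwoE.mul (hx : TwoE x) (hy : TwoE y) (c : x * y = y * x) : TwoE (x * y) := by
  obtain ⟨k, hk⟩ := hx
  obtain ⟨m, hm⟩ := hy
  refine ⟨k + m, ?_⟩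
  rw [(show Commute x y from c).mul_pow, pow_add, pow_mul, hk, one_pow, mul_comm (2 ^ k), pow_mul, hm,
    one_pow, one_mul]

theorem TwoE.pow (hx : TwoE x) (m : ℕ) : TwoE (x ^ m) := by
  obtain ⟨k, hk⟩ := hx
  exact ⟨k, by rw [← pow_mul, mul_comm, pow_mul, hk, one_pow]⟩

theorem TwoE.inv (hx : TwoE x) : TwoE x⁻¹ := by
  obtain ⟨k, hk⟩ := hx
  exact ⟨k, by rw [inv_pow, hk, inv_one]⟩

theorem TwoE.conj (hx : TwoE x) (g : G) : TwoE (g * x * g⁻¹) := by
  obtain ⟨k, hk⟩ := hx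
  exact ⟨k, by rw [conj_pow, hk]; group⟩

/-- An element normalising a subgroup of odd index with square in it lies in it. -/
theorem mem_of_sq [Finite G] {T H : Subgroup G} (hT : IsSylowIn 2 T L) (h1 : T ≤ H) (h2 : H ≤ L)
    (hx : x ∈ L) (hn : x ∈ NN[H]) (hs : x * x ∈ H) : x ∈ H := by
  obtain ⟨m, e, ⟨k, rfl⟩, he⟩ := H38.SG.exists_two_part x
  have hK : H ⊔ zpowers x ≤ NN[H] := sup_le le_normalizer (zpowers_le.2 hn)
  obtain ⟨c, hc, hle⟩ := (hT.mono (h1.trans le_sup_left) (sup_le h2 (zpowers_le.2 hx))).exists_conj_le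
    (TwoE.isPGroup ⟨e, he⟩) (zpowers_le.2 (mem_sup_right (pow_mem (mem_zpowers x) _)))
  have h3 := h1 (hle (conj_mem_conj_smul.2 (mem_zpowers _)))
  have h4 : x ^ (2 * k + 1) ∈ H := (mem_normalizer_iff.1 (hK hc) _).2 h3
  rw [pow_succ, pow_mul, pow_two] at h4
  exact (mul_mem_cancel_left (pow_mem hs k)).1 h4

end QN

end Cfsg.Agent.H16.Unb
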