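import Cfsg.Agent.H16.UnbC
import Cfsg.Agent.H16.UnbR0

/-! Kit R: the action of `N(L)` on the points, for `L / O(L) = 2.A_n`. -/

set_option autoImplicit false

namespace Cfsg.Agent.H16.Unb

open Subgroup Cfsg.Agent.H52 Cfsg.Agent.H8 Equiv Equiv.Perm Cfsg.Agent.H67 Cfsg.Agent.H38.SA
open scoped commutatorElement Pointwise

variable {G : Type*} [Group G] {α : Type*} [Fintype α] [DecidableEq α]

structure Rho (L : Subgroup G) (t : G) (ρ : G → Perm α) : Prop where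
  big : 8 ≤ Fintype.card α
  t2 : orderOf t = 2
  tL : t ∈ L
  mul : ∀ x ∈ NN[L], ∀ y ∈ NN[L], ρ (x * y) = ρ x * ρ y
  ker : ∀ y ∈ NN[L], ρ y = 1 ↔ CM L y
  kerL : ∀ y ∈ L, ρ y = 1 ↔ y ∈ Opp 2 L ∨ y * t ∈ Opp 2 L
  sgn : ∀ y ∈ L, sign (ρ y) = 1
  surj : ∀ σ : Perm α, sign σ = 1 → ∃ y ∈ L, ρ y = σ
  dt : ∀ y ∈ L, (ρ y).cycleType = {2, 2} → y * y * t ∈ Opp 2 L

/-- `O²(C_L(b))`. -/
def RR (L : Subgroup G) (b : G) : Subgroup G :=
  closure {y | y ∈ L ∧ y * b = b * y ∧ Odd (orderOf y)}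

variable [Finite G] {L B T P K : Subgroup G} {t t' b x y z w g : G} {ρ : G → Perm α} {n : ℕ}

omit [Finite G] in
theorem ord_conj (g y : G) : orderOf (g * y * g⁻¹) = orderOf y := (MulAut.conj g).orderOf_eq y

omit [Finite G] in
theorem mem_cnj_iff : y ∈ cnj g L ↔ g⁻¹ * y * g ∈ L := mem_conj_smul

omit [Finite G] in
theorem mem_norm_cnj_iff : y ∈ NN[cnj g L] ↔ g⁻¹ * y * g ∈ NN[L] := by
  rw [show cnj g L = MulAut.conj g • L from rfl, normalizer_conj_smul, mem_conj_smul]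

omit [Finite G] in
theorem conj_mem_of_norm (hg : g ∈ NN[L]) (hx : x ∈ L) : g * x * g⁻¹ ∈ L :=
  (mem_normalizer_iff.1 hg x).1 hx

omit [Finite G] in
theorem RR_le : RR L b ≤ L ⊓ Cz b :=
  (closure_le _).2 fun _ hy => ⟨hy.1, mem_centralizer_singleton_iff.2 hy.2.1⟩

theorem norm_RR (h1 : g ∈ NN[L]) (h2 : g * b = b * g) : g ∈ NN[RR L b] := by
  refine mem_normalizer_of_cnj_le ?_
  rw [cnj, RR, MonoidHom.map_closure]
  refine closure_mono ?_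
  rintro _ ⟨y, ⟨a1, a2, a3⟩, rfl⟩
  refine ⟨conj_mem_of_norm h1 a1, ?_, ?_⟩
  · change g * y * g⁻¹ * b = b * (g * y * g⁻¹)
    calc g * y * g⁻¹ * b = g * y * g⁻¹ * (b * g) * g⁻¹ := by group
      _ = g * (y * b) * g⁻¹ := by rw [← h2]; group
      _ = b * g * y * g⁻¹ := by rw [a2, ← h2]; group
      _ = _ := by group
  · change Odd (orderOf (g * y * g⁻¹))
    rwa [ord_conj]

namespace Rho
variable (h : Rho L t ρ)
include h

omit [Finite G] in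
theorem one : ρ 1 = 1 := by
  have := h.mul 1 (one_mem _) 1 (one_mem _)
  rw [mul_one] at this
  exact left_eq_mul.1 this
omit [Finite G] in
theorem inv (hx : x ∈ NN[L]) : ρ x⁻¹ = (ρ x)⁻¹ := by
  rw [eq_inv_iff_mul_eq_one, ← h.mul _ (inv_mem hx) _ hx, inv_mul_cancel, h.one]
omit [Finite G] in
theorem pow (hx : x ∈ NN[L]) (m : ℕ) : ρ (x ^ m) = ρ x ^ m := by
  induction m with
  | zero => rw [pow_zero, pow_zero, h.one]
  | succ m ih => rw [pow_succ, pow_succ, h.mul _ (pow_mem hx m) _ hx, ih]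
omit [Finite G] in
theorem conj (hx : x ∈ NN[L]) (hy : y ∈ NN[L]) : ρ (x * y * x⁻¹) = ρ x * ρ y * (ρ x)⁻¹ := by
  rw [h.mul _ (mul_mem hx hy) _ (inv_mem hx), h.mul _ hx _ hy, h.inv hx]
omit [Finite G] in
theorem comm (hx : x ∈ NN[L]) (hy : y ∈ NN[L]) (e : x * y = y * x) : ρ x * ρ y = ρ y * ρ x := by
  rw [← h.mul _ hx _ hy, e, h.mul _ hy _ hx]
omit [Finite G] in
theorem tt : t * t = 1 := sq_of_ord h.t2
omit [Finite G] in
theorem tN : t ∈ NN[L] := le_normalizer h.tL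
omit [Finite G] in
theorem rt : ρ t = 1 := (h.kerL t h.tL).2 (Or.inr (by rw [h.tt]; exact one_mem _))
omit [Finite G] in
theorem cm_t : CM L t := (h.ker t h.tN).1 h.rt
omit [Finite G] in
theorem of_opp (hx : x ∈ Opp 2 L) : ρ x = 1 := (h.kerL x (Opp_le L hx)).2 (Or.inl hx)
omit [Finite G] in
theorem sq_eq (hx : x ∈ NN[L]) (e : x * x = 1) : ρ x * ρ x = 1 := by rw [← h.mul _ hx _ hx, e, h.one]
omit [Finite G] in
theorem eq_of_pn (hx : x ∈ NN[L]) (hy : y ∈ NN[L]) (e : pn L x = pn L y) : ρ x = ρ y := by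
  have := h.of_opp ((pn_eq_iff hx hy).1 e)
  rwa [h.mul _ hx _ (inv_mem hy), h.inv hy, mul_inv_eq_one] at this
theorem pn_of_ker (h1 : t' ∈ L) (h2 : TwoE t') (h3 : ρ t' = 1) (h4 : t' ≠ 1) : pn L t' = pn L t := by
  rcases (h.kerL t' h1).1 h3 with e | e
  · exact absurd (h2.eq_one (odd_of_opp e)) h4
  · rwa [pn_eq_iff (le_normalizer h1) h.tN, inv_eq_of_mul_eq_one_right h.tt]
theorem change (h1 : t' ∈ L) (h2 : orderOf t' = 2) (h3 : ρ t' = 1) : Rho L t' ρ := by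
  have e := h.pn_of_ker h1 (twoE_of_sq (sq_of_ord h2)) h3 (ne_one_of_ord h2)
  have k : ∀ y ∈ L, y * t ∈ Opp 2 L ↔ y * t' ∈ Opp 2 L := fun y hy => by
    rw [← pn_eq_one (le_normalizer (mul_mem hy h.tL)), ← pn_eq_one (le_normalizer (mul_mem hy h1)),
      pn_mul (le_normalizer hy) h.tN, pn_mul (le_normalizer hy) (le_normalizer h1), e]
  exact ⟨h.big, h2, h1, h.mul, h.ker, fun y hy => by rw [h.kerL y hy, k y hy], h.sgn, h.surj,
    fun y hy hc => (k _ (mul_mem hy hy)).1 (h.dt y hy hc)⟩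
theorem cnj (g : G) : Rho (cnj g L) (g * t * g⁻¹) fun y => ρ (g⁻¹ * y * g) := by
  have o : ∀ y, y ∈ Opp 2 (H52.cnj g L) ↔ g⁻¹ * y * g ∈ Opp 2 L := fun y => by
    rw [← cnj_Opp, mem_cnj_iff]
  refine ⟨h.big, by rw [ord_conj, h.t2], conj_mem_cnj h.tL, fun x hx y hy => ?_, fun y hy => ?_,
    fun y hy => ?_, fun y hy => h.sgn _ (mem_cnj_iff.1 hy), fun σ hσ => ?_, fun y hy hc => ?_⟩
  · rw [← h.mul _ (mem_norm_cnj_iff.1 hx) _ (mem_norm_cnj_iff.1 hy)]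
    congr 1; group
  · rw [h.ker _ (mem_norm_cnj_iff.1 hy)]
    refine ⟨fun a => ?_, fun a => ?_⟩
    · have := a.cnj g
      rwa [show g * (g⁻¹ * y * g) * g⁻¹ = y by group] at this
    · have := a.cnj g⁻¹
      rwa [cnj_cnj, inv_mul_cancel, cnj_one, inv_inv] at this
  · rw [h.kerL _ (mem_cnj_iff.1 hy), o, o, show g⁻¹ * (y * (g * t * g⁻¹)) * g = g⁻¹ * y * g * t by group]
  · obtain ⟨y, hy, e⟩ := h.surj σ hσ
    exact ⟨_, conj_mem_cnj hy, by rw [← e]; congr 1; group⟩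
  · rw [o, show g⁻¹ * (y * y * (g * t * g⁻¹)) * g = g⁻¹ * y * g * (g⁻¹ * y * g) * t by group]
    exact h.dt _ (mem_cnj_iff.1 hy) hc

/-- The double cover in the quotient `N(L) / O(L)`, in terms of `pn`. -/
theorem quot' : ∃ Γ : Subgroup (Perm α × QN L), DC Γ (pn L t) ∧
    (∀ σ q, (σ, q) ∈ Γ ↔ ∃ y ∈ L, ρ y = σ ∧ pn L y = q) ∧ ∀ y ∈ NN[L], (ρ y, pn L y) ∈ NG Γ := by
  let Γ : Subgroup (Perm α × QN L) :=
    { carrier := {x | ∃ y ∈ L, ρ y = x.1 ∧ pn L y = x.2}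
      one_mem' := ⟨1, one_mem _, h.one, pn_one⟩
      mul_mem' := by
        rintro ⟨_, _⟩ ⟨_, _⟩ ⟨x, hx, rfl, rfl⟩ ⟨y, hy, rfl, rfl⟩
        exact ⟨x * y, mul_mem hx hy, h.mul _ (le_normalizer hx) _ (le_normalizer hy),
          pn_mul (le_normalizer hx) (le_normalizer hy)⟩
      inv_mem' := by
        rintro ⟨_, _⟩ ⟨x, hx, rfl, rfl⟩
        exact ⟨x⁻¹, inv_mem hx, h.inv (le_normalizer hx), pn_inv (le_normalizer hx)⟩ }
  have hΓ : ∀ σ q, (σ, q) ∈ Γ ↔ ∃ y ∈ L, ρ y = σ ∧ pn L y = q := fun _ _ => Iff.rfl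
  have tt : pn L t * pn L t = 1 := by rw [← pn_mul h.tN h.tN, h.tt, pn_one]
  have k : ∀ y ∈ L, y * t ∈ Opp 2 L → pn L y = pn L t := fun y hy e => by
    rwa [pn_eq_iff (le_normalizer hy) h.tN, inv_eq_of_mul_eq_one_right h.tt]
  refine ⟨Γ, ⟨⟨tt, fun e => ?_, ⟨t, h.tL, h.rt, rfl⟩, ?_, ?_, ?_, fun σ hσ => ?_⟩, ?_⟩, hΓ, fun y hy => ?_⟩
  · exact ne_one_of_ord h.t2 ((twoE_of_sq h.tt).eq_one (odd_of_opp ((pn_eq_one h.tN).1 e)))
  · rintro _ ⟨y, hy, rfl, e⟩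
    exact h.of_opp ((pn_eq_one (le_normalizer hy)).1 e)
  · rintro _ ⟨y, hy, e, rfl⟩
    exact ((h.kerL y hy).1 e).imp (pn_eq_one (le_normalizer hy)).2 (k y hy)
  · rintro _ _ ⟨y, hy, rfl, rfl⟩
    exact h.sgn y hy
  · obtain ⟨y, hy, e⟩ := h.surj σ hσ
    exact ⟨_, y, hy, e, rfl⟩
  · rintro _ _ ⟨y, hy, rfl, rfl⟩ hc
    exact (pn_mul (le_normalizer hy) (le_normalizer hy)).symm.trans (k _ (mul_mem hy hy) (h.dt y hy hc))
  · refine mem_normalizer_of_cnj_le ?_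
    rintro _ ⟨⟨_, _⟩, ⟨x, hx, rfl, rfl⟩, rfl⟩
    have hx' := le_normalizer hx
    exact ⟨y * x * y⁻¹, conj_mem_of_norm hy hx, h.conj hy hx', by
      rw [pn_mul (mul_mem hy hx') (inv_mem hy), pn_mul hy hx', pn_inv hy]; rfl⟩

/-- The double cover in the quotient `N(L) / O(L)`. -/
theorem quot : ∃ (_ : ((Opp 2 L).subgroupOf NN[L]).Normal)
    (Γ : Subgroup (Perm α × (NN[L] ⧸ (Opp 2 L).subgroupOf NN[L]))),
    H67.DC Γ (QuotientGroup.mk ⟨t, le_normalizer h.tL⟩) ∧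
      (∀ σ (y : NN[L]), (σ, QuotientGroup.mk y) ∈ Γ ↔ (y : G) ∈ L ∧ ρ y = σ) ∧
      ∀ y : NN[L], (ρ y, QuotientGroup.mk y) ∈ H38.SA.NG Γ := by
  obtain ⟨Γ, h1, h2, h3⟩ := h.quot'
  refine ⟨inferInstance, Γ, pn_eq h.tN ▸ h1, fun σ y => ?_, fun y => pn_coe y ▸ h3 y y.2⟩
  rw [h2, ← pn_coe]
  refine ⟨?_, fun a => ⟨y, a.1, a.2, rfl⟩⟩
  rintro ⟨x, hx, rfl, e⟩
  exact ⟨mem_of_pn_eq y.2 hx e.symm, h.eq_of_pn y.2 (le_normalizer hx) e.symm⟩

/-- 2-elements of the kernel commuting with `t`. -/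
theorem eq_of_ker (hy : y ∈ L) (h1 : ρ y = 1) (h2 : TwoE y) (hc : y * t = t * y) : y = 1 ∨ y = t :=
  ((h.kerL y hy).1 h1).imp (fun e => h2.eq_one (odd_of_opp e)) fun e => by
    have := (h2.mul (twoE_of_sq h.tt) hc).eq_one (odd_of_opp e)
    rw [eq_inv_of_mul_eq_one_left this, inv_eq_of_mul_eq_one_right h.tt]
theorem sq_of_dt (hy : y ∈ L) (h1 : (ρ y).cycleType = {2, 2}) (h2 : TwoE y) (hc : y * t = t * y) :
    y * y = t := by
  have := ((h2.mul h2 rfl).mul (twoE_of_sq h.tt)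
    (by rw [mul_assoc, hc, ← mul_assoc, hc, mul_assoc])).eq_one (odd_of_opp (h.dt y hy h1))
  rw [eq_inv_of_mul_eq_one_left this, inv_eq_of_mul_eq_one_right h.tt]
theorem lift3 (hB : IsPGroup 2 B) (hBL : B ≤ NN[L]) {D : Perm α} (h3 : D ^ 3 = 1)
    (hc : ∀ b ∈ B, ρ b * D = D * ρ b) : ∃ y ∈ L, y ∈ CC[B] ∧ ρ y = D ∧ Odd (orderOf y) := by
  obtain ⟨Γ, h1, h2, hn⟩ := h.quot'
  obtain ⟨q, hq, q3⟩ := h1.lift3 h3
  obtain ⟨y, hy, rfl, rfl⟩ := (h2 _ _).1 hq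
  have hy' := le_normalizer hy
  obtain ⟨l, hl, hlB, e⟩ := lift_cent hB hBL hy fun b hb =>
    (pn_comm hy' (hBL hb)).2 (comm3' h1 (hn b (hBL hb)) hq q3 (hc b hb)).symm
  have hl' := le_normalizer hl
  have e' := (pn_eq_iff hl' hy').2 e
  refine ⟨l, hl, hlB, h.eq_of_pn hl' hy' e', ?_⟩
  have o := odd_of_opp ((pn_eq_one (pow_mem hl' 3)).1 (by rw [pn_pow hl', e', q3]))
  have d : orderOf l ∣ 3 * orderOf (l ^ 3) :=
    orderOf_dvd_of_pow_eq_one (by rw [pow_mul, pow_orderOf_eq_one])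
  exact (Odd.mul (by decide) o).of_dvd_nat d
theorem lift3' (hb : b * b = 1) (hbL : b ∈ NN[L]) {D : Perm α} (h3 : D ^ 3 = 1)
    (hc : ρ b * D = D * ρ b) : ∃ y ∈ L, y * b = b * y ∧ ρ y = D ∧ Odd (orderOf y) := by
  obtain ⟨y, hy, a1, a2⟩ := h.lift3 (twoE_of_sq hb).isPGroup (zpowers_le.2 hbL) h3 (by
    rintro _ ⟨m, rfl⟩
    rcases Int.even_or_odd' m with ⟨k, rfl | rfl⟩
    · simp only [zpow_mul, zpow_two, hb, one_zpow, h.one, mul_one, one_mul]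
    · simp only [zpow_add, zpow_mul, zpow_two, hb, one_zpow, zpow_one, one_mul, hc])
  exact ⟨y, hy, (a1 b (mem_zpowers b)).symm, a2⟩
/-- A 2-element of `RR L b` over a product of two elements of order three. -/
theorem lift33 (hb : b * b = 1) (hbL : b ∈ NN[L]) {π : Perm α} (hp : P33 (ρ b) π) (h2 : π * π = 1) :
    ∃ p ∈ RR L b, ρ p = π ∧ TwoE p := by
  obtain ⟨D, E, d3, e3, dc, ec, rfl⟩ := hp
  obtain ⟨y, hy, a1, a2, a3⟩ := h.lift3' hb hbL d3 dc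
  obtain ⟨z, hz, b1, b2, b3⟩ := h.lift3' hb hbL e3 ec
  obtain ⟨m, e, hm, he⟩ := H38.SG.exists_two_part (y * z)
  have r1 : y ∈ RR L b := Subgroup.subset_closure ⟨hy, a1, a3⟩
  have r2 : z ∈ RR L b := Subgroup.subset_closure ⟨hz, b1, b3⟩
  refine ⟨_, pow_mem (mul_mem r1 r2) m, ?_, e, he⟩
  rw [h.pow (le_normalizer (mul_mem hy hz)), h.mul _ (le_normalizer hy) _ (le_normalizer hz), a2, b2,
    H38.SG.pow_odd_of_sq h2 hm]
/-- Two involutions of the kernel commuting with `b` are conjugate under `O(L) ⊓ C(b)`. -/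
theorem conj_ker (hc : t * b = b * t) (hx : x ∈ L) (x2 : x * x = 1) (x1 : x ≠ 1) (hr : ρ x = 1)
    (hxb : x * b = b * x) : ∃ k ∈ Opp 2 L, k * b = b * k ∧ k * x * k⁻¹ = t := by
  have e := (pn_eq_iff (le_normalizer hx) h.tN).1 (h.pn_of_ker hx (twoE_of_sq x2) hr x1)
  rw [inv_eq_of_mul_eq_one_right h.tt] at e
  obtain ⟨j, hj⟩ := H38.SG.exists_sq_of_odd (odd_of_opp e)
  have c : Commute (x * t) b := Commute.mul_left hxb hc
  have i : x * (x * t) * x⁻¹ = (x * t)⁻¹ := by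
    rw [← mul_assoc, x2, one_mul, mul_inv_rev, inv_eq_of_mul_eq_one_right h.tt]
  have i2 : x * (x * t) ^ j * x⁻¹ = ((x * t) ^ j)⁻¹ := by rw [← conj_pow, i, inv_pow]
  refine ⟨((x * t) ^ j)⁻¹, inv_mem (pow_mem e j), (c.pow_left j).inv_left, ?_⟩
  calc _ = (x * (x * t) ^ j * x⁻¹) * x * (x * t) ^ j := by rw [i2, inv_inv]
    _ = x * ((x * t) ^ j * (x * t) ^ j) := by group
    _ = t := by rw [hj, ← mul_assoc, x2, one_mul]
/-- Lifts of two commuting double transpositions inside one 2-group of `RR L b` containing `t`. -/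
theorem lift_pair (hb : b * b = 1) (hbL : b ∈ NN[L]) (hc : t * b = b * t) {π κ : Perm α}
    (hp : P33 (ρ b) π) (hq : P33 (ρ b) κ) (p2 : π.cycleType = {2, 2}) (q2 : κ.cycleType = {2, 2})
    (c : π * κ = κ * π) : ∃ p ∈ RR L b, ∃ q ∈ RR L b, ρ p = π ∧ ρ q = κ ∧ TwoE p ∧ TwoE q ∧
      TwoE (p * q) ∧ p * t = t * p ∧ q * t = t * q := by
  obtain ⟨p, hp, a1, a2⟩ := h.lift33 hb hbL hp (Unb.sq_of_dt p2)
  obtain ⟨q, hq, b1, b2⟩ := h.lift33 hb hbL hq (Unb.sq_of_dt q2)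
  have RN : RR L b ≤ NN[L] := RR_le.trans (inf_le_left.trans le_normalizer)
  have RL : RR L b ≤ L := RR_le.trans inf_le_left
  -- `t` lies in `RR`
  have ht : t ∈ RR L b := by
    have e := h.dt p (RL hp) (a1 ▸ p2)
    have c1 : Commute p b := mem_centralizer_singleton_iff.1 (RR_le hp).2
    have c2 : Commute (p * p * t) b := (c1.mul_left c1).mul_left hc
    have := mul_mem (inv_mem (mul_mem hp hp)) (subset_closure (G := G)
      (k := {y | y ∈ L ∧ y * b = b * y ∧ Odd (orderOf y)}) ⟨Opp_le L e, c2, odd_of_opp e⟩)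
    rwa [inv_mul_cancel_left] at this
  let Y : Subgroup G :=
    { carrier := {r | r ∈ RR L b ∧ Commute (ρ r) π ∧ Commute (ρ r) κ}
      one_mem' := ⟨one_mem _, by rw [h.one]; exact Commute.one_left _,
        by rw [h.one]; exact Commute.one_left _⟩
      mul_mem' := fun {x y} hx hy => ⟨mul_mem hx.1 hy.1,
        by rw [h.mul _ (RN hx.1) _ (RN hy.1)]; exact hx.2.1.mul_left hy.2.1,
        by rw [h.mul _ (RN hx.1) _ (RN hy.1)]; exact hx.2.2.mul_left hy.2.2⟩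
      inv_mem' := fun {x} hx => ⟨inv_mem hx.1, by rw [h.inv (RN hx.1)]; exact hx.2.1.inv_left,
        by rw [h.inv (RN hx.1)]; exact hx.2.2.inv_left⟩ }
  have tY : t ∈ Y := ⟨ht, by rw [h.rt]; exact Commute.one_left _, by rw [h.rt]; exact Commute.one_left _⟩
  obtain ⟨S, hS, htS⟩ := exists_isSylowIn_ge (twoE_of_sq h.tt).isPGroup (zpowers_le.2 tY)
  have tS := htS (mem_zpowers t)
  obtain ⟨u, hu, hp'⟩ := hS.exists_conj_le a2.isPGroup
    (zpowers_le.2 (show p ∈ Y from ⟨hp, by rw [a1], by rw [a1]; exact c⟩))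
  obtain ⟨v, hv, hq'⟩ := hS.exists_conj_le b2.isPGroup
    (zpowers_le.2 (show q ∈ Y from ⟨hq, by rw [b1]; exact c.symm, by rw [b1]⟩))
  have pS := hp' (conj_mem_conj_smul.2 (mem_zpowers _))
  have qS := hq' (conj_mem_conj_smul.2 (mem_zpowers _))
  have k : ∀ x ∈ S, x * t = t * x := fun x hx =>
    comm_of_cm hS.isPGroup hx tS (RL (hS.le hx).1) h.cm_t
  refine ⟨_, (hS.le pS).1, _, (hS.le qS).1, ?_, ?_, twoE_of_mem hS.isPGroup pS,
    twoE_of_mem hS.isPGroup qS, twoE_of_mem hS.isPGroup (mul_mem pS qS), k _ pS, k _ qS⟩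
  · rw [h.conj (RN hu.1) (RN hp), a1, hu.2.1.eq, mul_inv_cancel_right]
  · rw [h.conj (RN hv.1) (RN hq), b1, hv.2.2.eq, mul_inv_cancel_right]
theorem q8 (hb : b * b = 1) (hbL : b ∈ NN[L]) (hc : t * b = b * t) :
    ∃ p ∈ RR L b, ∃ q ∈ RR L b, p * p = t ∧ q * q = t ∧ p * q * (p * q) = t := by
  obtain ⟨π, κ, h1, h2, h3, h4, h5⟩ := p33_q8 h.big (h.sq_eq hbL hb)
  have c : π * κ = κ * π := by
    rw [eq_inv_of_mul_eq_one_left (Unb.sq_of_dt h5), mul_inv_rev,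
      inv_eq_of_mul_eq_one_right (Unb.sq_of_dt h3), inv_eq_of_mul_eq_one_right (Unb.sq_of_dt h4)]
  obtain ⟨p, hp, q, hq, a1, a2, a3, a4, a5, a6, a7⟩ := h.lift_pair hb hbL hc h1 h2 h3 h4 c
  have pL := (RR_le hp).1
  have qL := (RR_le hq).1
  exact ⟨p, hp, q, hq, h.sq_of_dt pL (a1 ▸ h3) a3 a6, h.sq_of_dt qL (a2 ▸ h4) a4 a7,
    h.sq_of_dt (mul_mem pL qL) (by rwa [h.mul _ (le_normalizer pL) _ (le_normalizer qL), a1, a2]) a5
      (Commute.mul_left a6 a7)⟩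
/-- The root with prescribed points. -/
theorem root' (hb : b * b = 1) (hbL : b ∈ NN[L]) (hc : t * b = b * t) {x1 x2 x3 : α}
    (m1 : ρ b x1 ≠ x1) (m2 : ρ b x2 ≠ x2) (m3 : ρ b x3 ≠ x3) (n1 : x2 ≠ x1) (n2 : x2 ≠ ρ b x1)
    (n3 : x3 ≠ x1) (n4 : x3 ≠ ρ b x1) (n5 : x3 ≠ x2) (n6 : x3 ≠ ρ b x2) :
    ∃ p ∈ RR L b, p * p = t ∧ ρ p = Equiv.swap x2 (ρ b x2) * Equiv.swap x3 (ρ b x3) := by
  obtain ⟨h1, h2⟩ := p33_root (h.sq_eq hbL hb) m1 m2 m3 n1 n2 n3 n4 n5 n6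
  obtain ⟨p, hp, -, -, a1, -, a3, -, -, a6, -⟩ := h.lift_pair hb hbL hc h1 h1 h2 h2 rfl
  exact ⟨p, hp, h.sq_of_dt (RR_le hp).1 (a1 ▸ h2) a3 a6, a1⟩
theorem root (hb : b * b = 1) (hbL : b ∈ NN[L]) (hc : t * b = b * t) (h5 : 5 ≤ (ρ b).support.card) :
    ∃ p ∈ L, p * b = b * p ∧ p * p = t ∧ ∀ x, ρ p x = x ∨ ρ p x = ρ b x := by
  obtain ⟨x1, x2, x3, m1, m2, m3, n1, n2, n3, n4, n5, n6⟩ := pick3 h5
  obtain ⟨p, hp, a1, a2⟩ := h.root' hb hbL hc m1 m2 m3 n1 n2 n3 n4 n5 n6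
  refine ⟨p, (RR_le hp).1, mem_centralizer_singleton_iff.1 (RR_le hp).2, a1, fun x => ?_⟩
  have hh : ∀ x, ρ b (ρ b x) = x := fun x => by rw [← Perm.mul_apply, h.sq_eq hbL hb]; rfl
  rw [a2]
  simp only [Perm.mul_apply, swap_apply_def]
  grind
theorem inv8 (hx : x ∈ L) (h2 : TwoE x) (e : ρ x * ρ x = 1) (h8 : (ρ x).support.card = 8) :
    x * x = 1 := by
  obtain ⟨Γ, h1, h3, -⟩ := h.quot'
  have hx' := le_normalizer hx
  have := H38.SA.inv8 h1 ((h3 _ _).2 ⟨x, hx, rfl, rfl⟩) e h8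
  rw [← pn_mul hx' hx', pn_eq_one (mul_mem hx' hx')] at this
  exact (h2.mul h2 rfl).eq_one (odd_of_opp this)
omit [Finite G] in
theorem pn_tt : pn L t * pn L t = 1 := by rw [← pn_mul h.tN h.tN, h.tt, pn_one]
theorem pn_t_ne : pn L t ≠ 1 := fun e =>
  ne_one_of_ord h.t2 ((twoE_of_sq h.tt).eq_one (odd_of_opp ((pn_eq_one h.tN).1 e)))
theorem pn_t_comm (hy : y ∈ NN[L]) : pn L y * pn L t = pn L t * pn L y := by
  obtain ⟨Γ, h1, -, h3⟩ := h.quot'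
  exact ncomm h1 (h3 y hy)
theorem swap' (hbL : b ∈ NN[L]) (h2 : ρ b * ρ b = 1) (h1 : ρ b ≠ 1) :
    ∃ l ∈ L, pn L l * pn L b * (pn L l)⁻¹ = pn L b * pn L t := by
  obtain ⟨Γ, h3, h4, h5⟩ := h.quot'
  obtain ⟨σ, q, hq, e⟩ := dc_swap h3 (by have := h.big; omega) (h5 b hbL) h2 h1
  obtain ⟨l, hl, rfl, rfl⟩ := (h4 _ _).1 hq
  refine ⟨l⁻¹, inv_mem hl, ?_⟩
  rw [pn_inv (le_normalizer hl), inv_inv, h.pn_t_comm hbL]
  calc _ = (pn L l)⁻¹ * (pn L b * pn L l * (pn L b)⁻¹) * pn L b := by group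
    _ = _ := by rw [e]; group
theorem swap (hbL : b ∈ NN[L]) (h2 : ρ b * ρ b = 1) (h1 : ρ b ≠ 1) :
    ∃ l ∈ L, ⁅l, b⁆ * t ∈ Opp 2 L := by
  obtain ⟨l, hl, e⟩ := h.swap' hbL h2 h1
  have hl' := le_normalizer hl
  have a := mul_mem (mul_mem hl' hbL) (inv_mem hl')
  refine ⟨l, hl, (pn_eq_one (mul_mem (mul_mem a (inv_mem hbL)) h.tN)).1 ?_⟩
  rw [pn_mul (mul_mem a (inv_mem hbL)) h.tN, pn_mul a (inv_mem hbL),
    pn_mul (mul_mem hl' hbL) (inv_mem hl'), pn_mul hl' hbL, pn_inv hl', pn_inv hbL, e, h.pn_t_comm hbL,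
    mul_inv_cancel_right, h.pn_tt]
omit [Finite G] in
theorem exists_pow_inv (hw : w ∈ NN[L]) (h2 : TwoE w) (h1 : ρ w ≠ 1) :
    ∃ m, ρ (w ^ m) ≠ 1 ∧ ρ (w ^ m) * ρ (w ^ m) = 1 := by
  obtain ⟨k, hk⟩ := h2
  by_contra hc
  push Not at hc
  have : ∀ j, ρ (w ^ 2 ^ j) ≠ 1 := fun j => by
    induction j with
    | zero => simpa using h1
    | succ j ih =>
      rw [pow_succ, pow_mul, pow_two, h.mul _ (pow_mem hw _) _ (pow_mem hw _)]
      exact hc _ ih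
  exact this k (by rw [hk, h.one])
/-- A 2-element centralising a Sylow 2-subgroup modulo the core acts trivially. -/
theorem f2' (hT : IsSylowIn 2 T L) (hw : w ∈ NN[L]) (hc : ∀ x ∈ T, ⁅x, w⁆ ∈ Opp 2 L) (h2 : TwoE w) :
    ρ w = 1 := by
  by_contra h1
  obtain ⟨m, a1, a2⟩ := h.exists_pow_inv hw h2 h1
  have hw' := pow_mem hw m
  obtain ⟨l, hl, e⟩ := h.swap' hw' a2 a1
  let H : Subgroup G :=
    { carrier := {x | x ∈ L ∧ Commute (pn L x) (pn L (w ^ m))}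
      one_mem' := ⟨one_mem _, by rw [pn_one]; exact Commute.one_left _⟩
      mul_mem' := fun {x y} hx hy => ⟨mul_mem hx.1 hy.1, by
        rw [pn_mul (le_normalizer hx.1) (le_normalizer hy.1)]; exact hx.2.mul_left hy.2⟩
      inv_mem' := fun {x} hx => ⟨inv_mem hx.1, by rw [pn_inv (le_normalizer hx.1)]; exact hx.2.inv_left⟩ }
  have hl' := le_normalizer hl
  have : l ∈ H := by
    refine mem_of_sq hT (fun x hx => ⟨hT.le hx, ?_⟩) (fun x hx => hx.1) hl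
      (mem_normalizer_of_cnj_le ?_) ⟨mul_mem hl hl, ?_⟩
    · rw [pn_pow hw]
      exact Commute.pow_right ((pn_comm (le_normalizer (hT.le hx)) hw).1 (hc x hx)) m
    · rintro _ ⟨x, hx, rfl⟩
      have hx' := le_normalizer hx.1
      have a : l * x * l⁻¹ ∈ L := mul_mem (mul_mem hl hx.1) (inv_mem hl)
      refine ⟨a, ?_⟩
      have c : Commute (pn L (l * x * l⁻¹)) (pn L (w ^ m) * pn L t) := by
        rw [← e, pn_mul (mul_mem hl' hx') (inv_mem hl'), pn_mul hl' hx', pn_inv hl']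
        exact hx.2.conj _
      have := c.mul_right (show Commute _ (pn L t) from h.pn_t_comm (le_normalizer a))
      rwa [mul_assoc (pn L (w ^ m)), h.pn_tt, mul_one] at this
    · rw [pn_mul hl' hl']
      have c := h.pn_t_comm hl'
      change _ * _ = _ * _
      calc _ = pn L l * (pn L l * pn L (w ^ m) * (pn L l)⁻¹) * pn L l := by group
        _ = pn L l * (pn L (w ^ m) * pn L t) * pn L l := by rw [e]
        _ = pn L l * pn L (w ^ m) * (pn L l)⁻¹ * (pn L l * pn L t) * pn L l := by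
          simp only [mul_assoc, inv_mul_cancel_left]
        _ = pn L (w ^ m) * (pn L t * pn L t) * (pn L l * pn L l) := by
          rw [e, c]; simp only [mul_assoc]
        _ = _ := by rw [h.pn_tt, mul_one]
  rw [this.2.eq, mul_inv_cancel_right] at e
  exact h.pn_t_ne (left_eq_mul.1 e)
/-- A 2-element centralising a Sylow 2-subgroup acts trivially. -/
theorem f2 (hT : IsSylowIn 2 T L) (hw : w ∈ NN[L]) (hc : w ∈ CC[T]) (h2 : TwoE w) : ρ w = 1 :=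
  h.f2' hT hw (fun x hx => by
    rw [commutatorElement_eq_one_iff_mul_comm.2 (hc x hx)]; exact one_mem _) h2
theorem center (hT : IsSylowIn 2 T L) (ht : t ∈ T) (hz : z ∈ T) (hc : z ∈ CC[T]) :
    z = 1 ∨ z = t :=
  h.eq_of_ker (hT.le hz) (h.f2 hT (le_normalizer (hT.le hz)) hc (twoE_of_mem hT.isPGroup hz))
    (twoE_of_mem hT.isPGroup hz) (hc t ht).symm
theorem zt (hT : IsSylowIn 2 T L) (ht : t ∈ T) : ZT T t :=
  ⟨h.t2, ht, fun _ hx => comm_of_cm hT.isPGroup hx ht (hT.le hx) h.cm_t⟩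
omit h in
theorem _root_.Cfsg.Agent.H16.Unb.exists_conj_mem (hT : IsSylowIn 2 T L) (hy : y ∈ L) (h2 : TwoE y) :
    ∃ c ∈ L, c * y * c⁻¹ ∈ T := by
  obtain ⟨c, hc, e⟩ := hT.exists_conj_le h2.isPGroup (zpowers_le.2 hy)
  exact ⟨c, hc, e (conj_mem_conj_smul.2 (mem_zpowers _))⟩
theorem exists_zt (hT : IsSylowIn 2 T L) : ∃ z, ZT T z ∧ Rho L z ρ := by
  obtain ⟨c, hc, e⟩ := exists_conj_mem hT h.tL (twoE_of_sq h.tt)
  have := h.change (hT.le e) (by rw [ord_conj, h.t2])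
    (by rw [h.conj (le_normalizer hc) h.tN, h.rt, mul_one, mul_inv_cancel])
  exact ⟨_, this.zt hT e, this⟩
/-- A central involution of a Sylow subgroup lies in the kernel. -/
theorem of_zt (hT : IsSylowIn 2 T L) (hz : ZT T z) : Rho L z ρ :=
  h.change (hT.le hz.2.1) hz.1
    (h.f2 hT (le_normalizer (hT.le hz.2.1)) hz.2.2 (twoE_of_mem hT.isPGroup hz.2.1))

/-- `ρ` as a homomorphism. -/
def hom : NN[L] →* Perm α := MonoidHom.mk' (fun y => ρ y) fun x y => h.mul _ x.2 _ y.2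

/-- The image of a subgroup of `N(L)`. -/
def img (A : Subgroup G) : Subgroup (Perm α) := (A.subgroupOf NN[L]).map h.hom

omit [Finite G] in
theorem mem_img {A : Subgroup G} (hA : A ≤ NN[L]) {σ : Perm α} : σ ∈ h.img A ↔ ∃ x ∈ A, ρ x = σ :=
  ⟨fun ⟨x, a, e⟩ => ⟨x, a, e⟩, fun ⟨x, a, e⟩ => ⟨⟨x, hA a⟩, a, e⟩⟩
omit [Finite G] in
theorem img_mono {A A' : Subgroup G} (hA : A ≤ A') : h.img A ≤ h.img A' :=
  map_mono (comap_mono hA)
omit [Finite G] in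
theorem card_img_dvd {A : Subgroup G} (hA : A ≤ NN[L]) : Nat.card (h.img A) ∣ Nat.card A :=
  (card_map_dvd _ _).trans (Nat.card_congr (subgroupOfEquivOfLe hA).toEquiv).dvd
omit [Finite G] in
theorem img_odd {A : Subgroup G} (hA : A ≤ NN[L]) (ho : Odd (Nat.card A)) : Odd (Nat.card (h.img A)) :=
  ho.of_dvd_nat (h.card_img_dvd hA)
omit [Finite G] in
theorem img_two {A : Subgroup G} (h2 : IsPGroup 2 A) : IsPGroup 2 (h.img A) :=
  (h2.comap_subtype (K := NN[L])).map _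
omit [Finite G] in
theorem img_norm {A : Subgroup G} (hA : A ≤ NN[L]) (hg : g ∈ NN[L]) (hg' : g ∈ NN[A]) :
    ρ g ∈ NN[h.img A] := by
  refine mem_normalizer_of_cnj_le ?_
  rintro _ ⟨_, hσ, rfl⟩
  obtain ⟨x, hx, rfl⟩ := (h.mem_img hA).1 hσ
  exact (h.mem_img hA).2 ⟨_, conj_mem_of_norm hg' hx, h.conj hg (hA hx)⟩
omit [Finite G] in
theorem commutator (hx : x ∈ NN[L]) (hy : y ∈ NN[L]) : ρ ⁅x, y⁆ = ⁅ρ x, ρ y⁆ := by
  rw [commutatorElement_def, h.mul _ (mul_mem (mul_mem hx hy) (inv_mem hx)) _ (inv_mem hy), h.conj hx hy,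
    h.inv hy, commutatorElement_def]
omit [Finite G] in
theorem img_comm_le {A A' C : Subgroup G} (hA : A ≤ NN[L]) (hA' : A' ≤ NN[L]) (hc : ⁅A, A'⁆ ≤ C) :
    ⁅h.img A, h.img A'⁆ ≤ h.img C := by
  refine commutator_le.2 fun _ a _ a' => ?_
  obtain ⟨x, hx, rfl⟩ := (h.mem_img hA).1 a
  obtain ⟨y, hy, rfl⟩ := (h.mem_img hA').1 a'
  exact ⟨⟨⁅x, y⁆, mul_mem (mul_mem (mul_mem (hA hx) (hA' hy)) (inv_mem (hA hx))) (inv_mem (hA' hy))⟩,
    hc (commutator_mem_commutator hx hy), h.commutator (hA hx) (hA' hy)⟩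
omit [Finite G] in
theorem ord_dvd (hx : x ∈ NN[L]) : orderOf (ρ x) ∣ orderOf x :=
  orderOf_dvd_of_pow_eq_one (by rw [← h.pow hx, pow_orderOf_eq_one, h.one])
omit [Finite G] in
/-- The image of a subgroup generated by elements of odd order. -/
theorem img_closure {s : Set G} (hs : closure s ≤ NN[L]) (ho : ∀ x ∈ s, Odd (orderOf x)) :
    h.img (closure s) ≤ closure {σ | σ ∈ h.img (closure s) ∧ Odd (orderOf σ)} := by
  intro _ a
  obtain ⟨x, hx, rfl⟩ := (h.mem_img hs).1 a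
  clear a
  induction hx using closure_induction with
  | mem x hx =>
    exact Subgroup.subset_closure ⟨(h.mem_img hs).2 ⟨x, Subgroup.subset_closure hx, rfl⟩,
      (ho x hx).of_dvd_nat (h.ord_dvd (hs (Subgroup.subset_closure hx)))⟩
  | one => rw [h.one]; exact one_mem _
  | mul x y hx hy a a' => rw [h.mul _ (hs hx) _ (hs hy)]; exact mul_mem a a'
  | inv x hx a => rw [h.inv (hs hx)]; exact inv_mem a
omit [Finite G] in
theorem card_img {A : Subgroup G} (hA : A ≤ NN[L]) :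
    ∃ N : Subgroup A, (∀ x : A, x ∈ N ↔ ρ x = 1) ∧ Nat.card N * Nat.card (h.img A) = Nat.card A := by
  refine ⟨(h.hom.comp (inclusion hA)).ker, fun x => Iff.rfl, ?_⟩
  rw [← card_mul_index (h.hom.comp (inclusion hA)).ker, index_ker]
  have : h.img A = (h.hom.comp (inclusion hA)).range := by
    ext σ
    rw [h.mem_img hA]
    exact ⟨fun ⟨x, a, e⟩ => ⟨⟨x, a⟩, e⟩, fun ⟨x, e⟩ => ⟨x, x.2, e⟩⟩
  rw [this]
theorem card_le (hT : IsSylowIn 2 T L) {Y : Subgroup (Perm α)} (hY : IsPGroup 2 Y)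
    (hs : ∀ σ ∈ Y, sign σ = 1) : 2 * Nat.card Y ≤ Nat.card T := by
  obtain ⟨z, hz, h'⟩ := h.exists_zt hT
  obtain ⟨N, a1, a2⟩ := h.card_img (hT.le.trans le_normalizer)
  have b1 : Nat.card Y ≤ Nat.card (h.img T) :=
    ((hT.subgroupOf le_normalizer).map h.hom).card_le hY fun σ hσ =>
      (h.mem_img le_normalizer).2 (h.surj σ (hs σ hσ))
  have b2 : 2 ∣ Nat.card N := by
    have := N.orderOf_dvd_natCard ((a1 ⟨z, hz.2.1⟩).2 h'.rt)
    rwa [← orderOf_coe, hz.1] at this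
  rw [← a2]
  exact Nat.mul_le_mul (Nat.le_of_dvd Nat.card_pos b2) b1
/-- A 2-group as large as `T` with centre `⟨z⟩` cannot act faithfully by even permutations. -/
theorem kerlem (hT : IsSylowIn 2 T L) (hP : IsPGroup 2 P) (hPL : P ≤ NN[L])
    (hs : ∀ x ∈ P, sign (ρ x) = 1) (hc : Nat.card T ≤ Nat.card P)
    (hz : ∀ w ∈ P, w ∈ CC[P] → w = 1 ∨ w = z) (hzP : z ∈ P) : ρ z = 1 := by
  obtain ⟨N, a1, a2⟩ := h.card_img hPL
  have b1 := h.card_le hT (h.img_two hP) fun σ hσ => by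
    obtain ⟨x, hx, rfl⟩ := (h.mem_img hPL).1 hσ
    exact hs x hx
  have hne : P ⊓ CMs L ≠ ⊥ := fun e => by
    have : N = ⊥ := (eq_bot_iff_forall _).2 fun x hx => Subtype.ext
      ((eq_bot_iff_forall _).1 e x ⟨x.2, mem_CMs.2 ((h.ker _ (hPL x.2)).1 ((a1 x).1 hx))⟩)
    rw [this, card_bot, one_mul] at a2
    have := Nat.card_pos (α := P)
    omega
  obtain ⟨w, hw, c, o⟩ := exists_orderOf_eq_prime_mem_centralizer (hP.to_le inf_le_left) hP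
    (fun g hg => mem_normalizer_of_cnj_le (by
      rintro _ ⟨x, hx, rfl⟩
      exact ⟨P.mul_mem (P.mul_mem hg hx.1) (P.inv_mem hg), mem_CMs.2 ((mem_CMs.1 hx.2).conj (hPL hg))⟩)) hne
  rcases hz w hw.1 c with rfl | rfl
  · exact absurd rfl (ne_one_of_ord o)
  · exact (h.ker _ (hPL hzP)).2 (mem_CMs.1 hw.2)
omit [Finite G] in
theorem sgn_of_perfect (hK : K ≤ NN[L]) (hp : ⁅K, K⁆ = K) (hx : x ∈ K) : sign (ρ x) = 1 := by
  have : ⁅K, K⁆ ≤ ((sign.comp h.hom).ker).map NN[L].subtype := commutator_le.2 fun a ha b hb =>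
    ⟨⁅(⟨a, hK ha⟩ : NN[L]), ⟨b, hK hb⟩⁆, by
      rw [SetLike.mem_coe, MonoidHom.mem_ker, map_commutatorElement]
      exact commutatorElement_eq_one_iff_mul_comm.2 (mul_comm _ _), rfl⟩
  obtain ⟨y, a, rfl⟩ := this (hp.symm ▸ hx)
  exact a
/-- A 2-element over an even permutation, up to an odd power. -/
theorem lift2 {σ : Perm α} (hs : sign σ = 1) : ∃ y ∈ L, TwoE y ∧ ∃ m, Odd m ∧ ρ y = σ ^ m := by
  obtain ⟨y, hy, rfl⟩ := h.surj σ hs
  obtain ⟨m, e, hm, he⟩ := H38.SG.exists_two_part y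
  exact ⟨_, pow_mem hy m, ⟨e, he⟩, m, hm, h.pow (le_normalizer hy) m⟩
theorem lift2' {σ : Perm α} (hs : sign σ = 1) (h2 : σ * σ = 1) : ∃ y ∈ L, TwoE y ∧ ρ y = σ := by
  obtain ⟨y, hy, a, m, hm, e⟩ := h.lift2 hs
  exact ⟨y, hy, a, by rw [e, H38.SG.pow_odd_of_sq h2 hm]⟩
theorem exists_inv (hT : IsSylowIn 2 T L) : ∃ x ∈ T, x * x = 1 ∧ ρ x ≠ 1 := by
  obtain ⟨e⟩ : Nonempty (Fin 8 ↪ α) := Function.Embedding.nonempty_of_card_le (by simpa using h.big)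
  have s : b0.viaEmbedding e * b0.viaEmbedding e = 1 := by
    rw [← vmul, show b0 * b0 = 1 by decide, vone]
  have c : (b0.viaEmbedding e).support.card = 8 := by
    rw [H78.support_viaEmbedding, Finset.card_map]; decide
  obtain ⟨y, hy, a1, a2⟩ := h.lift2' (by rw [H78.sign_viaEmbedding]; decide) s
  obtain ⟨c', hc, hm⟩ := exists_conj_mem hT hy a1
  refine ⟨_, hm, ?_, ?_⟩
  · rw [← pow_two, conj_pow, pow_two, h.inv8 hy a1 (a2 ▸ s) (a2 ▸ c)]; group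
  · rw [h.conj (le_normalizer hc) (le_normalizer hy), Ne, conj_eq_one_iff, a2]
    intro e
    simp [e] at c
theorem exists_four (hT : IsSylowIn 2 T L) : ∃ x ∈ T, ρ x * ρ x ≠ 1 := by
  obtain ⟨e⟩ : Nonempty (Fin 8 ↪ α) := Function.Embedding.nonempty_of_card_le (by simpa using h.big)
  let δ : Perm (Fin 8) := Equiv.swap 0 1 * Equiv.swap 0 2 * Equiv.swap 0 3 * Equiv.swap 4 5
  obtain ⟨y, hy, a1, m, hm, a2⟩ := h.lift2 (σ := δ.viaEmbedding e)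
    (by rw [H78.sign_viaEmbedding]; decide)
  obtain ⟨c', hc, hm'⟩ := exists_conj_mem hT hy a1
  refine ⟨_, hm', ?_⟩
  rw [h.conj (le_normalizer hc) (le_normalizer hy), ← pow_two, conj_pow, Ne, conj_eq_one_iff, a2,
    ← pow_mul, mul_comm, pow_mul, pow_two, ← vmul,
    H38.SG.pow_odd_of_sq (by rw [← vmul, show δ * δ * (δ * δ) = 1 by decide, vone]) hm]
  intro e'
  have := congrArg (fun σ : Perm α => σ (e 0)) e'
  simp only [viaEmbedding_apply, one_apply, EmbeddingLike.apply_eq_iff_eq] at this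
  exact absurd this (by decide)
theorem supp8 (hx : x ∈ L) (h2 : x * x = 1) (h1 : ρ x ≠ 1) : 8 ≤ (ρ x).support.card := by
  obtain ⟨Γ, h3, h4, -⟩ := h.quot'
  exact h3.supp8 ((h4 _ _).2 ⟨x, hx, rfl, rfl⟩)
    (by rw [← pn_mul (le_normalizer hx) (le_normalizer hx), h2, pn_one]) h1
theorem supp_eq8 (h11 : Fintype.card α ≤ 11) (hx : x ∈ L) (h2 : x * x = 1) (h1 : ρ x ≠ 1) :
    (ρ x).support.card = 8 := by
  obtain ⟨Γ, h3, h4, -⟩ := h.quot'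
  obtain ⟨m, -, a1, ⟨k, rfl⟩, a3⟩ := h3.type_inv ((h4 _ _).2 ⟨x, hx, rfl, rfl⟩)
    (by rw [← pn_mul (le_normalizer hx) (le_normalizer hx), h2, pn_one]) h1
  have := Finset.card_le_univ (ρ x).support
  omega
theorem conj_inv (h11 : Fintype.card α ≤ 11) (hx : x ∈ L) (x2 : x * x = 1) (x1 : ρ x ≠ 1)
    (hy : y ∈ L) (y2 : y * y = 1) (y1 : ρ y ≠ 1) : ∃ l ∈ L, l * x * l⁻¹ = y := by
  obtain ⟨Γ, h3, h4, -⟩ := h.quot'
  have hx' := le_normalizer hx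
  have hy' := le_normalizer hy
  obtain ⟨τ, q, hq, e⟩ := conj_inv' h3 h11 ((h4 _ _).2 ⟨y, hy, rfl, rfl⟩)
    (by rw [← pn_mul hy' hy', y2, pn_one]) (h.supp_eq8 h11 hy y2 y1) ((h4 _ _).2 ⟨x, hx, rfl, rfl⟩)
    (by rw [← pn_mul hx' hx', x2, pn_one]) x1
  obtain ⟨l, hl, rfl, rfl⟩ := (h4 _ _).1 hq
  have hl' := le_normalizer hl
  rw [← pn_inv hl', ← pn_mul hl' hx', ← pn_mul (mul_mem hl' hx') (inv_mem hl'),
    pn_eq_iff (mul_mem (mul_mem hl' hx') (inv_mem hl')) hy', inv_eq_of_mul_eq_one_right y2] at e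
  obtain ⟨k, hk, e'⟩ := conj_of_opp (by rw [← pow_two, conj_pow, pow_two, x2]; group) y2 e
  exact ⟨k * l, mul_mem (Opp_le L hk) hl, by rw [← e']; group⟩

end Rho

omit [Finite G] in
theorem AT.ndc (h : AT n L) : IsNonsplitDoubleCover
    ((QuotientGroup.mk' ((Opp 2 L).subgroupOf NN[L])).comp (inclusion (le_normalizer (H := L)))).range
    (alternatingGroup (Fin n)) := by
  refine ndc_congr h ((QuotientGroup.quotientMulEquivOfEq ?_).trans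
    (QuotientGroup.quotientKerEquivRange _))
  ext x
  rw [MonoidHom.mem_ker, MonoidHom.comp_apply, QuotientGroup.mk'_apply, QuotientGroup.eq_one_iff,
    mem_subgroupOf]
  exact (mem_map_iff_mem L.subtype_injective).symm

omit [Finite G] in
theorem mem_range_pn {q : QN L} :
    q ∈ ((QuotientGroup.mk' ((Opp 2 L).subgroupOf NN[L])).comp (inclusion (le_normalizer (H := L)))).range ↔
      ∃ y ∈ L, pn L y = q :=
  ⟨fun ⟨x, e⟩ => ⟨x, x.2, (pn_eq (le_normalizer x.2)).trans e⟩,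
    fun ⟨x, hx, e⟩ => ⟨⟨x, hx⟩, (pn_eq (le_normalizer hx)).symm.trans e⟩⟩

/-- With a prescribed central involution. -/
theorem AT.exists_rho' (h : AT n L) (h8 : 8 ≤ n) (ht : orderOf t = 2) (hL : t ∈ L) (hc : CM L t) :
    ∃ ρ : G → Perm (Fin n), Rho L t ρ := by
  classical
  have tN := le_normalizer hL
  have t2 := sq_of_ord ht
  have a1 : pn L t ≠ 1 := fun e =>
    ne_one_of_ord ht ((twoE_of_sq t2).eq_one (odd_of_opp ((pn_eq_one tN).1 e)))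
  have a2 : pn L t * pn L t = 1 := by rw [← pn_mul tN tN, t2, pn_one]
  have cz : ∀ {s}, CM L s → ∀ q ∈ _, q * pn L s = pn L s * q := fun {s} hs q hq => by
    obtain ⟨y, hy, rfl⟩ := mem_range_pn.1 hq
    exact (pn_comm (le_normalizer hy) hs.1).1 (hs.2 y hy)
  obtain ⟨Γ, hΓ, hK⟩ := exists_dc (ord_two a2 a1) (mem_range_pn.2 ⟨t, hL, rfl⟩) (cz hc) h.ndc
  have hK' : ∀ q, (∃ σ, (σ, q) ∈ Γ) ↔ ∃ y ∈ L, pn L y = q := fun q => by rw [← hK, mem_range_pn]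
  have h4 : 4 ≤ Fintype.card (Fin n) := by rw [Fintype.card_fin]; omega
  have pc : ∀ y ∈ NN[L], ∀ x ∈ NN[L], pn L (y * x * y⁻¹) = pn L y * pn L x * (pn L y)⁻¹ :=
    fun y hy x hx => by rw [pn_mul (mul_mem hy hx) (inv_mem hy), pn_mul hy hx, pn_inv hy]
  have ex : ∀ y ∈ NN[L], ∃ σ, (σ, pn L y) ∈ NG Γ := fun y hy => by
    refine exists_NG hΓ h4 (by rw [Fintype.card_fin]; omega) ?_ fun q => ?_
    · obtain ⟨σ, hσ⟩ := (hK' _).2 ⟨_, conj_mem_of_norm hy hL, rfl⟩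
      have m := mem_NG_of_cen (Γ := Γ) (k := pn L (y * t * y⁻¹)) fun σ x hx =>
        (cz (hc.conj hy) x ((hK x).2 ⟨σ, hx⟩)).symm
      have := nfn hΓ h4 (σ := σ) (by simpa using pmul (up hσ) (pinv m))
      subst this
      rw [pc y hy t tN] at hσ
      rcases hΓ.ker _ hσ with e | e
      · exact absurd (conj_eq_one_iff.1 e) a1
      · exact mul_inv_eq_iff_eq_mul.1 e
    · rw [hK', hK']
      refine ⟨?_, ?_⟩
      · rintro ⟨x, hx, rfl⟩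
        exact ⟨_, conj_mem_of_norm hy hx, pc y hy x (le_normalizer hx)⟩
      · rintro ⟨x, hx, e⟩
        refine ⟨_, conj_mem_of_norm (inv_mem hy) hx, ?_⟩
        rw [pc _ (inv_mem hy) x (le_normalizer hx), e, pn_inv hy]
        group
  choose! ρ hρ using ex
  have un : ∀ {σ y}, y ∈ NN[L] → (σ, pn L y) ∈ NG Γ → ρ y = σ := fun {σ y} hy a =>
    mul_inv_eq_one.1 (nfn hΓ h4 (by simpa using pmul (hρ y hy) (pinv a)))
  have mem : ∀ y ∈ L, (ρ y, pn L y) ∈ Γ := fun y hy => by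
    obtain ⟨σ, hσ⟩ := (hK' _).2 ⟨y, hy, rfl⟩
    rwa [un (le_normalizer hy) (up hσ)]
  have k : ∀ y ∈ L, pn L y = pn L t ↔ y * t ∈ Opp 2 L := fun y hy => by
    rw [pn_eq_iff (le_normalizer hy) tN, inv_eq_of_mul_eq_one_right t2]
  refine ⟨ρ, by simpa using h8, ht, hL, fun x hx y hy => un (mul_mem hx hy) ?_, fun y hy => ⟨fun e => ?_,
    fun e => un hy (mem_NG_of_cen fun σ x hx => (cz e x ((hK x).2 ⟨σ, hx⟩)).symm)⟩,
    fun y hy => ⟨fun e => ?_, fun e => un (le_normalizer hy) (up ?_)⟩, fun y hy => hΓ.sgn _ _ (mem y hy),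
    fun σ hσ => ?_, fun y hy e => (k _ (mul_mem hy hy)).1 ?_⟩
  · rw [pn_mul hx hy]
    exact pmul (hρ x hx) (hρ y hy)
  · exact ⟨hy, fun l hl => (pn_comm (le_normalizer hl) hy).2 (cen hΓ (e ▸ hρ y hy) (mem l hl)).symm⟩
  · exact (hΓ.ker _ (e ▸ mem y hy)).imp (pn_eq_one (le_normalizer hy)).1 (k y hy).1
  · rcases e with e | e
    · rw [(pn_eq_one (le_normalizer hy)).2 e]; exact one_mem _
    · rw [(k y hy).2 e]; exact hΓ.mem
  · obtain ⟨q, hq⟩ := hΓ.surj σ hσ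
    obtain ⟨y, hy, rfl⟩ := (hK' q).1 ⟨σ, hq⟩
    exact ⟨y, hy, un (le_normalizer hy) (up hq)⟩
  · rw [pn_mul (le_normalizer hy) (le_normalizer hy)]
    exact hΓ.dt _ _ (mem y hy) e

theorem AT.exists_rho (h : AT n L) (h8 : 8 ≤ n) : ∃ (t : G) (ρ : G → Perm (Fin n)), Rho L t ρ := by
  have h2 := h.ndc.1
  obtain ⟨⟨⟨q, hq⟩, hz⟩, ho⟩ := exists_prime_orderOf_dvd_card' 2 h2.symm.dvd
  rw [← orderOf_coe, ← orderOf_coe] at ho
  change orderOf q = 2 at ho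
  obtain ⟨y, hy, rfl⟩ := mem_range_pn.1 hq
  obtain ⟨m, e, hm, he⟩ := H38.SG.exists_two_part y
  have hy' := le_normalizer hy
  have hm' := pow_mem hy' m
  have e1 : pn L (y ^ m) = pn L y := by rw [pn_pow hy', H38.SG.pow_odd_of_sq (sq_of_ord ho) hm]
  have e2 : y ^ m * y ^ m = 1 := (TwoE.mul ⟨e, he⟩ ⟨e, he⟩ rfl).eq_one (odd_of_opp
    ((pn_eq_one (mul_mem hm' hm')).1 (by rw [pn_mul hm' hm', e1, sq_of_ord ho])))
  obtain ⟨ρ, hρ⟩ := h.exists_rho' h8 (ord_two e2 fun e3 => ne_one_of_ord ho (by rw [← e1, e3, pn_one]))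
    (pow_mem hy m) ⟨hm', fun l hl => (pn_comm (le_normalizer hl) hm').2 (by
      rw [e1]
      exact congrArg Subtype.val (mem_center_iff.1 hz ⟨_, mem_range_pn.2 ⟨l, hl, rfl⟩⟩))⟩
  exact ⟨_, ρ, hρ⟩

/-- For a component of type `2.A_n`: uniqueness of the component with a given Sylow subgroup etc. -/
theorem AT.exists_not_cm (h : AT n L) (h8 : 8 ≤ n) (hT : IsSylowIn 2 T L) :
    ∃ x ∈ T, x * x = 1 ∧ ¬ CM L x := by
  obtain ⟨t, ρ, hρ⟩ := h.exists_rho h8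
  obtain ⟨x, hx, a1, a2⟩ := hρ.exists_inv hT
  exact ⟨x, hx, a1, fun e => a2 ((hρ.ker x (le_normalizer (hT.le hx))).2 e)⟩
theorem AT.cm_of_cent (h : AT n L) (h8 : 8 ≤ n) (hT : IsSylowIn 2 T L) (hw : w ∈ NN[L])
    (hc : w ∈ CC[T]) (h2 : TwoE w) : CM L w := by
  obtain ⟨t, ρ, hρ⟩ := h.exists_rho h8
  exact (hρ.ker w hw).1 (hρ.f2 hT hw hc h2)
/-- With the central involution of a given Sylow subgroup. -/
theorem AT.exists_rho_zt (h : AT n L) (h8 : 8 ≤ n) (hT : IsSylowIn 2 T L) (hz : ZT T z) :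
    ∃ ρ : G → Perm (Fin n), Rho L z ρ := by
  obtain ⟨t, ρ, hρ⟩ := h.exists_rho h8
  exact ⟨ρ, hρ.of_zt hT hz⟩
theorem AT.exists_zt (h : AT n L) (h8 : 8 ≤ n) (hT : IsSylowIn 2 T L) :
    ∃ (z : G) (ρ : G → Perm (Fin n)), ZT T z ∧ Rho L z ρ := by
  obtain ⟨t, ρ, hρ⟩ := h.exists_rho h8
  obtain ⟨z, a1, a2⟩ := hρ.exists_zt hT
  exact ⟨z, ρ, a1, a2⟩

theorem eqns_UnbR : True := by
  have := @RR.eq_1.{0}
  have := @Rho.hom.eq_1.{0, 0}
  have := @Rho.img.eq_1.{0, 0}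
  trivial

end Cfsg.Agent.H16.Unb
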